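import Cfsg.Agent.FS.Th.Shape
import Cfsg.Agent.S5265

/-!
# Groups whose squares lie in `{1, z}` (helper79, project FS)

If (H) holds and `G / ⟨z⟩` is elementary abelian for a central involution `z` then `G` has order `8`.
-/

set_option autoImplicit false

namespace Cfsg.Agent.FS.Th

open Cfsg Cfsg.FusionSystem Cfsg.Agent.H802 Cfsg.Agent.H752

universe u

variable {G : Type u} [Group G]

theorem Hyp.card_of_index [Finite G] [Nontrivial G] (hG : IsPGroup 2 G) {F : FusionSystem (⊤ : Subgroup G)}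
    (h : Hyp F) {K : Subgroup G} (hK : ∀ x ∈ K, ∀ g, g * x = x * g) (hi : K.index ≤ 4) : Nat.card G = 8 := by
  have : Fact (Nat.Prime 2) := ⟨Nat.prime_two⟩
  have h1 := (S5265.result 2 (hG.to_subgroup ⊤) F h.sat top_ne_bot h.core h.hyp (by
    have h2 : K.comap (⊤ : Subgroup G).subtype ≤ Subgroup.center (⊤ : Subgroup G) := fun x hx =>
      Subgroup.mem_center_iff.2 fun g => Subtype.ext (hK x hx g)
    refine (Subgroup.index_antitone h2).trans ?_
    rw [Subgroup.index_comap_of_surjective _ fun g => ⟨⟨g, Subgroup.mem_top g⟩, rfl⟩]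
    exact hi)).2.1
  rwa [Subgroup.card_top] at h1

theorem comm_of_sq {z : G} (z2 : z * z = 1) (zc : ∀ y, z * y = y * z) (hsq : ∀ g : G, g * g = 1 ∨ g * g = z)
    (a b : G) : a * b = b * a ∨ a * b = b * a * z := by
  have h1 : a * b = b * a * ((b * a)⁻¹ * (b * a)⁻¹) * (b * (a * a) * b) := by group
  have h2 : ∀ g : G, g * g = 1 ∨ g * g = z → ∀ y, g * g * y = y * (g * g) := fun g hg y => by
    rcases hg with hg | hg <;> rw [hg]
    · rw [one_mul, mul_one]
    · exact zc y
  rw [← h2 a (hsq a) b, mul_assoc (a * a), mul_assoc (b * a)] at h1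
  rcases hsq (b * a)⁻¹ with h3 | h3 <;> rcases hsq a with h4 | h4 <;> rcases hsq b with h5 | h5 <;>
    rw [h3, h4, h5] at h1 <;> simp only [one_mul, mul_one, z2] at h1 <;> first | exact Or.inl h1 | exact Or.inr h1

theorem index_cent_le {z : G} (z2 : z * z = 1) (zc : ∀ y, z * y = y * z) (hsq : ∀ g : G, g * g = 1 ∨ g * g = z)
    (w : G) : (Subgroup.centralizer {w}).index ≤ 2 := by
  refine Nat.le_of_dvd (by norm_num) (Subgroup.index_dvd_two_iff.2 ?_)
  by_cases h : ∀ g, g * w = w * g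
  · exact ⟨1, fun b => Or.inr (Subgroup.mem_centralizer_singleton_iff.2 (h b))⟩
  push Not at h
  obtain ⟨a, ha⟩ := h
  refine ⟨a, fun b => ?_⟩
  rcases comm_of_sq z2 zc hsq b w with h1 | h1
  · exact Or.inr (Subgroup.mem_centralizer_singleton_iff.2 h1)
  · left
    rw [Subgroup.mem_centralizer_singleton_iff, mul_assoc, (comm_of_sq z2 zc hsq a w).resolve_left ha, ← mul_assoc,
      ← mul_assoc, h1, mul_assoc (w * b), zc, mul_assoc, mul_assoc a, z2, mul_one, mul_assoc]

/-- **The excluded case of part A.** -/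
theorem Hyp.card_of_sq [Finite G] (hG : IsPGroup 2 G) {F : FusionSystem (⊤ : Subgroup G)} (h : Hyp F) {z : G}
    (z2 : z * z = 1) (z1 : z ≠ 1) (zc : ∀ y, z * y = y * z) (hsq : ∀ g : G, g * g = 1 ∨ g * g = z) :
    Nat.card G = 8 := by
  have : Nontrivial G := ⟨z, 1, z1⟩
  by_cases h0 : ∃ g, g * g = z
  swap
  · have h1 : ∀ g : G, g * g = 1 := fun g => (hsq g).resolve_right fun h1 => h0 ⟨g, h1⟩
    refine h.card_of_index hG (K := ⊤) (fun x _ g => ?_) (by rw [Subgroup.index_top]; norm_num)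
    rcases comm_of_sq (mul_one 1) (fun y => (one_mul y).trans (mul_one y).symm) (fun g => Or.inl (h1 g)) g x with
      h2 | h2
    · exact h2
    · rw [h2, mul_one]
  obtain ⟨g₀, h0⟩ := h0
  obtain ⟨w, rfl : w = z, P, -, hP⟩ := h.exists_locZ_char hG (X := {z}) (fun w hw g => by rw [hw, zc])
    ⟨z, rfl, z1⟩ fun θ w hw => by
      rw [hw, ← h0, map_mul]
      refine (hsq _).resolve_left (fun h1 => z1 (θ.injective ?_)) |>.trans h0.symm
      rw [← h0, map_mul, h1, map_one]
  obtain ⟨t, -, htP, -, α, hs⟩ := hP.exists_shape (fun g => (zc g).symm) z2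
  have hab : ∀ x ∈ P, ∀ y ∈ P, x * y = y * x := fun x hx y hy => by
    refine (comm_of_sq z2 zc hsq x y).resolve_right fun h1 => htP ((hs.cen t).1 ?_)
    have h2 := congrArg (fn α) h1
    rw [fn_map_mul α hx hy, fn_map_mul α (P.mul_mem hy hx) hs.zP, fn_map_mul α hy hx] at h2
    rcases comm_of_sq z2 zc hsq (fn α x) (fn α y) with h3 | h3
    · rw [h3, left_eq_mul] at h2
      rw [h2, mul_one, one_mul]
    · rw [h3, mul_right_inj] at h2
      rw [← h2, zc]
  refine h.card_of_index hG (K := Subgroup.centralizer {fn α w} ⊓ Subgroup.centralizer {t}) (fun x hx g => ?_)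
    (Subgroup.index_inf_le.trans (Nat.mul_le_mul (index_cent_le z2 zc hsq _) (index_cent_le z2 zc hsq _)))
  have h1 : x ∈ P := (hs.cen x).1 (Subgroup.mem_centralizer_singleton_iff.1 hx.1)
  have h2 : x * t = t * x := Subgroup.mem_centralizer_singleton_iff.1 hx.2
  by_cases hg : g ∈ P
  · exact hab g hg x h1
  · have h3 : g * t ∈ P := (hs.cen _).1 (by
      rw [mul_assoc, (comm_of_sq z2 zc hsq t _).resolve_left fun h3 => htP ((hs.cen t).1 h3), ← mul_assoc, ← mul_assoc,
        (comm_of_sq z2 zc hsq g _).resolve_left fun h3 => hg ((hs.cen g).1 h3), mul_assoc (fn α w * g), zc, mul_assoc,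
        mul_assoc t, z2, mul_one, mul_assoc])
    have h4 := hab _ h3 x h1
    rw [mul_assoc, ← h2, ← mul_assoc, ← mul_assoc, mul_left_inj] at h4
    exact h4

end Cfsg.Agent.FS.Th
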