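import Cfsg.Agent.FS.Th.Fail
import Cfsg.Agent.H759.FusNormal

/-!
# Focal generation (H1) and the moved centre (C1) (helper80, project FS)

* `focP M`: `x⁻¹ f(x) ∈ M`; `focal_failure`: if `foc(F) ≰ M` (`M` containing the commutators of `S`) the property fails
  for an element of odd prime power order of `Aut_F(S)` or first at an essential subgroup.
* `norP F W`: `f` extends to `P W` preserving `W`; `normal_failure` the same for a normal subgroup `W` of `S` which is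
  not normal in `F`.
* `moved_centre`: for `W ≤ Z(S)`, at the first failure `P` every `α ∈ Aut_F(P)` and `w ∈ W` with `α w ∉ W` have
  `P = C_S(α w)`.
-/

set_option autoImplicit false

namespace Cfsg.Agent.FS.Th

open Cfsg Cfsg.FusionSystem Cfsg.Agent.H802 Cfsg.Agent.H752

universe u v

variable {Ω : Type u} [Group Ω] {S : Subgroup Ω}

/-! ### The focal subgroup -/

/-- `f` acts trivially modulo `M` -/
def focP (M P : Subgroup Ω) (f : Ω → Ω) : Prop := ∀ x ∈ P, x⁻¹ * f x ∈ M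

theorem closed_focP (F : FusionSystem S) (M : Subgroup Ω) (hM : ∀ x ∈ S, ∀ y ∈ S, x * y * x⁻¹ * y⁻¹ ∈ M) :
    Closed F (focP M) where
  congr P f g _ h he x hx := by rw [he x hx]; exact h x hx
  comp P Q f g _ _ h1 h2 hPQ x hx := by
    have h3 := M.mul_mem (h1 x hx) (h2 _ (hPQ x hx))
    have h4 : x⁻¹ * f x * ((f x)⁻¹ * g (f x)) = x⁻¹ * g (f x) := by group
    rwa [h4] at h3
  inv P R f g _ h _ he _ y hy := by
    obtain ⟨x, hx, rfl, h2⟩ := he y hy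
    have h3 := M.inv_mem (h x hx)
    rw [h2]
    rwa [mul_inv_rev, inv_inv] at h3
  conj P hP s hs x hx := by
    have h1 := hM x⁻¹ (S.inv_mem (hP hx)) s hs
    have h2 : x⁻¹ * s * x⁻¹⁻¹ * s⁻¹ = x⁻¹ * (s * x * s⁻¹) := by group
    rwa [h2] at h1

theorem focal_le_of_focP (F : FusionSystem S) (M : Subgroup Ω)
    (h : ∀ (P : Subgroup Ω) (f : Ω → Ω), Mp F P f → focP M P f) : F.focalSubgroup ≤ M := by
  unfold FusionSystem.focalSubgroup
  rw [Subgroup.closure_le]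
  rintro _ ⟨P, φ, x, hφ, rfl⟩
  have h1 := h P _ (mp_ex hφ) x x.2
  rwa [ex_coe] at h1

/-- **H1.** -/
theorem focal_failure {p : ℕ} [Fact p.Prime] [Finite S] (hS : IsPGroup p S) {F : FusionSystem S}
    (hF : F.IsSaturated p) (M : Subgroup Ω) (hM : ∀ x ∈ S, ∀ y ∈ S, x * y * x⁻¹ * y⁻¹ ∈ M)
    (hfoc : ¬ F.focalSubgroup ≤ M) :
    (∃ α ∈ F.autGroup S, ∃ r k : ℕ, r.Prime ∧ r ≠ p ∧ orderOf α = r ^ k ∧ ¬ focP M S (fn α) ∧
      focP M S (fn (α ^ r))) ∨
    ((∀ f : Ω → Ω, Mp F S f → focP M S f) ∧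
      ∃ (P : Subgroup Ω) (H : Subgroup (MulAut P)), Failure F p (focP M) P H) := by
  have h1 : ∃ (P : Subgroup Ω) (f : Ω → Ω), Mp F P f ∧ ¬ focP M P f := by
    by_contra hcon
    push Not at hcon
    exact hfoc (focal_le_of_focP F M hcon)
  obtain ⟨P, f, hf, hn⟩ := h1
  exact first_failure' hS hF (closed_focP F M hM) hf hn

/-! ### Normal subgroups -/

/-- `f` extends to `P W`, preserving `W` -/
def norP (F : FusionSystem S) (W P : Subgroup Ω) (f : Ω → Ω) : Prop :=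
  ∃ g : Ω → Ω, Mp F (P ⊔ W) g ∧ (∀ x ∈ P, g x = f x) ∧ ∀ w ∈ W, g w ∈ W

theorem closed_norP [Finite S] (F : FusionSystem S) {W : Subgroup Ω} (hW : W ≤ S)
    (hWn : ∀ s ∈ S, ∀ w ∈ W, s * w * s⁻¹ ∈ W) : Closed F (norP F W) where
  congr P f g _ h he := by
    obtain ⟨k, hk, h1, h2⟩ := h
    exact ⟨k, hk, fun x hx => (h1 x hx).trans (he x hx).symm, h2⟩
  comp P Q f g _ _ h1 h2 hPQ := by
    obtain ⟨k, hk, h3, h4⟩ := h1
    obtain ⟨l, hl, h5, h6⟩ := h2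
    refine ⟨fun x => l (k x), hk.comp hl (H754.mp_sup_mem hk (fun x hx => ?_) (fun x hx => ?_)),
      fun x hx => ?_, fun w hw => h6 _ (h4 w hw)⟩
    · rw [h3 x hx]
      exact (le_sup_left : Q ≤ Q ⊔ W) (hPQ x hx)
    · exact (le_sup_right : W ≤ Q ⊔ W) (h4 x hx)
    · show l (k x) = g (f x)
      rw [h3 x hx, h5 _ (hPQ x hx)]
  inv P R f g _ h _ he hPR := by
    obtain ⟨k, hk, h1, h2⟩ := h
    have hfin : Finite W := finite_of_le hW
    obtain ⟨T, hT, -, -⟩ := hk.exists_image le_rfl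
    obtain ⟨l, hl, h3, -⟩ := hk.exists_symm le_rfl hT
    have hle : R ⊔ W ≤ T := by
      refine sup_le (fun y hy => ?_) (fun y hy => ?_)
      · obtain ⟨x, hx, h4, -⟩ := he y hy
        exact (hT y).2 ⟨x, (le_sup_left : P ≤ P ⊔ W) hx, (h1 x hx).trans h4⟩
      · obtain ⟨x, hx, h4⟩ := (hk.res le_sup_right).surj h2 hy
        exact (hT y).2 ⟨x, (le_sup_right : W ≤ P ⊔ W) hx, h4⟩
    refine ⟨l, hl.res hle, fun y hy => ?_, fun y hy => ?_⟩
    · obtain ⟨x, hx, h4, h5⟩ := he y hy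
      rw [h5, ← h4, ← h1 x hx, h3 x ((le_sup_left : P ≤ P ⊔ W) hx)]
    · obtain ⟨x, hx, h4⟩ := (hk.res le_sup_right).surj h2 hy
      rw [← h4, h3 x ((le_sup_right : W ≤ P ⊔ W) hx)]
      exact hx
  conj P hP s hs := ⟨_, mp_conj F (sup_le hP hW) hs, fun _ _ => rfl, fun w hw => hWn s hs w hw⟩

theorem norP_iff_of_le {F : FusionSystem S} {W P : Subgroup Ω} (hWP : W ≤ P) {f : Ω → Ω} (hf : Mp F P f) :
    norP F W P f ↔ ∀ w ∈ W, f w ∈ W := by
  constructor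
  · rintro ⟨g, -, h1, h2⟩ w hw
    rw [← h1 w (hWP hw)]
    exact h2 w hw
  · intro h
    exact ⟨f, hf.res (sup_le le_rfl hWP), fun _ _ => rfl, h⟩

theorem norP.mem {F : FusionSystem S} {W P : Subgroup Ω} {f : Ω → Ω} (h : norP F W P f) {w : Ω} (hw : w ∈ W)
    (hwP : w ∈ P) : f w ∈ W := by
  obtain ⟨g, -, h1, h2⟩ := h
  rw [← h1 w hwP]
  exact h2 w hw

theorem isNormal_of_norP [Finite S] (F : FusionSystem S) {W : Subgroup Ω} (hW : W ≤ S)
    (h : ∀ (P : Subgroup Ω) (f : Ω → Ω), Mp F P f → norP F W P f) : F.IsNormal W := by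
  have hfin : Finite W := finite_of_le hW
  refine ⟨hW, fun P φ hφ => ?_⟩
  obtain ⟨g, hg, h1, h2⟩ := h P _ (mp_ex hφ)
  obtain ⟨ψ, hψ, h3⟩ := id hg
  refine ⟨ψ, hψ, fun x => ?_, ?_⟩
  · rw [← ex_coe φ x, ← h1 x x.2]
    exact h3 x _
  · ext y
    constructor
    · rintro ⟨x, hx, rfl⟩
      have h4 : ψ x = g x := h3 x x.2
      rw [h4]
      exact h2 x hx
    · intro hy
      obtain ⟨x, hx, h4⟩ := (hg.res le_sup_right).surj h2 hy
      exact ⟨⟨x, (le_sup_right : W ≤ P ⊔ W) hx⟩, hx, (h3 x _).trans h4⟩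

/-- A normal subgroup of `S` which is not normal in `F`. -/
theorem normal_failure {p : ℕ} [Fact p.Prime] [Finite S] (hS : IsPGroup p S) {F : FusionSystem S}
    (hF : F.IsSaturated p) {W : Subgroup Ω} (hW : W ≤ S) (hWn : ∀ s ∈ S, ∀ w ∈ W, s * w * s⁻¹ ∈ W)
    (hne : ¬ F.IsNormal W) :
    (∃ α ∈ F.autGroup S, ∃ r k : ℕ, r.Prime ∧ r ≠ p ∧ orderOf α = r ^ k ∧ (∃ w ∈ W, fn α w ∉ W) ∧
      ∀ w ∈ W, fn (α ^ r) w ∈ W) ∨
    ((∀ f : Ω → Ω, Mp F S f → ∀ w ∈ W, f w ∈ W) ∧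
      ∃ (P : Subgroup Ω) (H : Subgroup (MulAut P)), Failure F p (norP F W) P H) := by
  have h1 : ∃ (P : Subgroup Ω) (f : Ω → Ω), Mp F P f ∧ ¬ norP F W P f := by
    by_contra hcon
    push Not at hcon
    exact hne (isNormal_of_norP F hW hcon)
  obtain ⟨P, f, hf, hn⟩ := h1
  rcases first_failure' hS hF (closed_norP F hW hWn) hf hn with ⟨α, hα, r, k, hr, hrp, ho, h2, h3⟩ | ⟨h2, h3⟩
  · left
    rw [norP_iff_of_le hW (mp_fn le_rfl hα)] at h2
    rw [norP_iff_of_le hW (mp_fn le_rfl (Subgroup.pow_mem _ hα r))] at h3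
    push Not at h2
    exact ⟨α, hα, r, k, hr, hrp, ho, h2, h3⟩
  · exact Or.inr ⟨fun f hf => (norP_iff_of_le hW hf).1 (h2 f hf), h3⟩

theorem not_isNormal_of_core {F : FusionSystem S} (hcore : F.core = ⊥) {W : Subgroup Ω} (hne : W ≠ ⊥) :
    ¬ F.IsNormal W := fun h => hne (le_bot_iff.1 (hcore ▸ H759.IsNormal.le_core h))

/-! ### The moved centre -/

/-- `P` fully normalized and centric, `H` a subgroup of `Aut(P)` containing the elements of `Aut_F(P)` that extend;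
`w ∈ P` fixed by `N_S(P)`; `α ∈ Aut_F(P)`.  If some element of `S` outside `P` centralizes `α w` then
`α w = β w` for some `β ∈ H`. -/
theorem exists_mem_of_centralizes {p : ℕ} [Fact p.Prime] [Finite S] (hS : IsPGroup p S) {F : FusionSystem S}
    (hF : F.IsSaturated p) {P : Subgroup Ω} (hP : F.IsFullyNormalized P) {H : Subgroup (MulAut P)}
    (hH : ∀ α ∈ F.autGroup P, Extends F P α → α ∈ H) {w : Ω} (hwP : w ∈ P)
    (hw : ∀ s ∈ normalizerIn S P, s * w = w * s) {α : MulAut P} (hα : α ∈ F.autGroup P) {s : Ω} (hs : s ∈ S)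
    (hsP : s ∉ P) (hsw : s * fn α w = fn α w * s) : ∃ β ∈ H, β ∈ F.autGroup P ∧ fn β w = fn α w := by
  have hPS : P ≤ S := hP.1
  have hfin : Finite P := finite_of_le hPS
  set u : Ω := fn α w with hu
  have huP : u ∈ P := fn_mem α hwP
  -- `u` is central in `P`
  have huc : ∀ x ∈ P, x * u = u * x := by
    intro x hx
    have h1 := hw (fn α⁻¹ x) (le_normalizerIn hPS (fn_mem _ hx))
    have h2 := congrArg (fn α) h1
    rw [(mp_fn hPS hα).mul (fn_mem _ hx) hwP, (mp_fn hPS hα).mul hwP (fn_mem _ hx), fn_fn_inv α hx] at h2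
    exact h2
  -- an element of `N_S(P) \ P` centralizing `u`
  set C : Subgroup Ω := S ⊓ Subgroup.centralizer {u} with hC
  have hPC : P ≤ C := fun x hx => ⟨hPS hx, Subgroup.mem_centralizer_singleton_iff.2 (huc x hx)⟩
  have hne : P ≠ C := fun h => hsP (h ▸ ⟨hs, Subgroup.mem_centralizer_singleton_iff.2 hsw⟩)
  obtain ⟨n, hn, hnP⟩ := SetLike.exists_of_lt (lt_inf_normalizer hS hPC inf_le_left hne)
  have hnu : n * u = u * n := Subgroup.mem_centralizer_singleton_iff.1 hn.1.2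
  obtain ⟨γ, hγ⟩ := exists_conjAut hn.2
  have hγS : γ ∈ autInducedBy S P := conj_mem_autInducedBy hn.1.1 hγ
  have hγF : γ ∈ F.autGroup P := autInducedBy_le_autGroup F hPS hγS
  -- the stabilizer of `w` in `Aut_F(P)`
  let A := F.autGroup P
  let St : Subgroup A := MulAction.stabilizer A (⟨w, hwP⟩ : P)
  obtain ⟨-, R, hR⟩ := isFullyAutomized_of_isFullyNormalized hS hF hP
  have hRSt : (R : Subgroup A) ≤ St := by
    intro δ hδ
    rw [hR, Subgroup.mem_subgroupOf, mem_autInducedBy_iff] at hδ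
    obtain ⟨g, hg, h1⟩ := hδ
    have h2 := hw g ⟨hg, mem_normalizer_of_aut h1⟩
    apply Subtype.ext
    show (((δ : MulAut P) ⟨w, hwP⟩ : P) : Ω) = w
    rw [h1, h2]
    simp
  have hδA : α⁻¹ * γ * α ∈ A := A.mul_mem (A.mul_mem (A.inv_mem hα) hγF) hα
  have hδSt : (⟨_, hδA⟩ : A) ∈ St := by
    apply Subtype.ext
    show (((α⁻¹ * γ * α) ⟨w, hwP⟩ : P) : Ω) = w
    rw [← fn_apply, fn_mul _ _ hwP, fn_mul _ _ huP, fn_apply γ huP, hγ]
    show fn α⁻¹ (n * u * n⁻¹) = w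
    rw [hnu, mul_inv_cancel_right, hu, fn_inv_fn α hwP]
  -- Sylow's theorem in the stabilizer
  have hγp : IsPGroup p (Subgroup.zpowers (⟨⟨_, hδA⟩, hδSt⟩ : St)) := by
    obtain ⟨k, hk⟩ := isPGroup_autInducedBy hS P ⟨γ, hγS⟩
    have hk' : γ ^ p ^ k = 1 := congrArg Subtype.val hk
    have h1 : (⟨⟨_, hδA⟩, hδSt⟩ : St) ^ p ^ k = 1 := by
      apply Subtype.ext
      apply Subtype.ext
      show (α⁻¹ * γ * α) ^ p ^ k = 1
      have := conj_pow (a := α⁻¹) (b := γ) (i := p ^ k)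
      rw [inv_inv] at this
      rw [this, hk']
      simp
    rintro ⟨b, hb⟩
    obtain ⟨m, rfl⟩ := Subgroup.mem_zpowers_iff.1 hb
    refine ⟨k, Subtype.ext ?_⟩
    show (_ ^ m) ^ p ^ k = 1
    rw [← zpow_natCast, ← zpow_mul, mul_comm, zpow_mul, zpow_natCast, h1, one_zpow]
  obtain ⟨R', hR'⟩ := hγp.exists_le_sylow
  obtain ⟨c, hc⟩ := MulAction.exists_smul_eq St R' (R.subtype hRSt)
  have h3 : c * ⟨⟨_, hδA⟩, hδSt⟩ * c⁻¹ ∈ ((R.subtype hRSt : Sylow p St) : Subgroup St) := by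
    rw [← hc]
    exact Subgroup.smul_mem_pointwise_smul _ (MulAut.conj c) (R' : Subgroup St) (hR' (Subgroup.mem_zpowers _))
  rw [Sylow.coe_subtype, Subgroup.mem_subgroupOf, hR, Subgroup.mem_subgroupOf] at h3
  set c' : MulAut P := ((c : A) : MulAut P) with hc'
  have hc'A : c' ∈ F.autGroup P := (c : A).2
  have h4 : (c' * α⁻¹) * γ * (c' * α⁻¹)⁻¹ ∈ autInducedBy S P := by
    have h5 : (c' * α⁻¹) * γ * (c' * α⁻¹)⁻¹ = c' * (α⁻¹ * γ * α) * c'⁻¹ := by group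
    rw [h5]
    exact h3
  have h5 : c' * α⁻¹ ∈ F.autGroup P := A.mul_mem hc'A (A.inv_mem hα)
  have h6 := hH _ h5 (extends_of_conj_mem (isReceptive_of_isFullyNormalized hS hF hP) h5 hn.1.1 hnP hγ h4)
  refine ⟨(c' * α⁻¹)⁻¹, H.inv_mem h6, A.inv_mem h5, ?_⟩
  have h7 : fn c'⁻¹ w = w := by
    have h8 : fn c' w = w := by
      rw [fn_apply _ hwP]
      exact congrArg Subtype.val c.2
    rw [← h8, fn_inv_fn _ hwP, h8]
  rw [mul_inv_rev, inv_inv, fn_mul _ _ hwP, h7]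

/-- **C1.**  `W ≤ Z(S)`; `P`, `H` the first failure of normality of `W`.  Then `W ≤ P`, `H` is the stabilizer of `W` in
`Aut_F(P)`, some element of `Aut_F(P)` moves `W`, and `P = C_S(α w)` whenever `α ∈ Aut_F(P)`, `w ∈ W`, `α w ∉ W`. -/
theorem moved_centre {p : ℕ} [Fact p.Prime] [Finite S] (hS : IsPGroup p S) {F : FusionSystem S}
    (hF : F.IsSaturated p) {W : Subgroup Ω} (hW : W ≤ S) (hWc : ∀ s ∈ S, ∀ w ∈ W, s * w = w * s)
    {P : Subgroup Ω} {H : Subgroup (MulAut P)} (h : Failure F p (norP F W) P H) :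
    W ≤ P ∧ (∀ α : MulAut P, α ∈ H ↔ α ∈ F.autGroup P ∧ ∀ w ∈ W, fn α w ∈ W) ∧
      (∀ α ∈ F.autGroup P, α ∉ H → ∃ w ∈ W, fn α w ∉ W) ∧
      ∀ α ∈ F.autGroup P, ∀ w ∈ W, fn α w ∉ W → ∀ s ∈ S, (s * fn α w = fn α w * s ↔ s ∈ P) := by
  have hPS : P ≤ S := h.ess.1.1
  have hWP : W ≤ P := fun w hw => h.ess.1.2 P (isConj_refl F hPS)
    ⟨hW hw, Subgroup.mem_centralizer_iff.2 fun x hx => hWc x (hPS hx) w hw⟩
  have hmem : ∀ α : MulAut P, α ∈ H ↔ α ∈ F.autGroup P ∧ ∀ w ∈ W, fn α w ∈ W := by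
    intro α
    rw [h.mem]
    exact and_congr_right fun hα => norP_iff_of_le hWP (mp_fn hPS hα)
  refine ⟨hWP, hmem, fun α hα hαH => ?_, fun α hα w hw hαw s hs => ⟨fun hsw => ?_, fun hsP => ?_⟩⟩
  · by_contra hcon
    push Not at hcon
    exact hαH ((hmem α).2 ⟨hα, hcon⟩)
  · by_contra hsP
    obtain ⟨β, hβ, -, h1⟩ := exists_mem_of_centralizes hS hF h.ess.2.1 h.ext (hWP hw)
      (fun s hs => hWc s hs.1 w hw) hα hs hsP hsw
    exact hαw (h1 ▸ ((hmem β).1 hβ).2 w hw)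
  · have h1 := hWc (fn α⁻¹ s) (hPS (fn_mem _ hsP)) w hw
    have h2 := congrArg (fn α) h1
    rw [(mp_fn hPS hα).mul (fn_mem _ hsP) (hWP hw), (mp_fn hPS hα).mul (hWP hw) (fn_mem _ hsP),
      fn_fn_inv α hsP] at h2
    exact h2

/-- In the situation of `moved_centre`: an automorphism `β` of odd order preserving `W` and inverted by an element
`t` of `S` centralizes `W`. -/
theorem fixes_of_inverted {P W : Subgroup Ω} (hWP : W ≤ P) {t : Ω} (htW : ∀ w ∈ W, t * w = w * t)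
    {β : MulAut P} (hodd : Odd (orderOf β)) (hβW : ∀ w ∈ W, fn β w ∈ W)
    (hinv : ∀ x ∈ P, fn β (t * fn β x * t⁻¹) = t * x * t⁻¹) : ∀ w ∈ W, fn β w = w := by
  intro w hw
  have h1 : ∀ w ∈ W, fn β (fn β w) = w := by
    intro w hw
    have h2 := hinv w (hWP hw)
    rw [htW _ (hβW w hw), htW w hw, mul_inv_cancel_right, mul_inv_cancel_right] at h2
    exact h2
  have h2 : ∀ n : ℕ, fn (β ^ (2 * n + 1)) w = fn β w := by
    intro n
    induction n with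
    | zero => rw [mul_zero, zero_add, pow_one]
    | succ n ih =>
      have h3 : β ^ (2 * (n + 1) + 1) = β * β * β ^ (2 * n + 1) := by
        rw [← pow_two, ← pow_add]
        congr 1
        ring
      rw [h3, fn_mul _ _ (hWP hw), ih, fn_mul _ _ (hWP (hβW w hw)), h1 _ (hβW w hw)]
  obtain ⟨n, hn⟩ := hodd
  rw [← h2 n, ← hn, pow_orderOf_eq_one, fn_one (hWP hw)]

end Cfsg.Agent.FS.Th
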