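import Cfsg.Agent.FS.Th.Transfer
import Cfsg.Agent.H754.MpSat
import Cfsg.Agent.H802.FusNorm

/-!
# Extremal Thompson transfer, function form (helper80, project FS, item T1)

Maps of `F` are written as functions (`H752.Mp F P f`).  `M` is a subgroup of the ambient group containing all
commutators of elements of `S`.

* `extremal_coset`: if all maps of `F` on `N_S(⟨g⟩)` send `g` into one coset `a M`, then `a ∈ M`.
* `extremal_cyclic`: if `S / (S ∩ M)` has at most one involution, some map on `N_S(⟨g⟩)` sends `g` to an element of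
  `M` generating a fully normalized subgroup.
* `thompson_involution`: the case of an involution.
* `central_mem`: central involutions.
-/

set_option autoImplicit false

namespace Cfsg.Agent.FS.Th

open Cfsg Cfsg.FusionSystem Cfsg.Agent.H802 Cfsg.Agent.H752

universe u v

variable {Ω : Type u} [Group Ω] {S : Subgroup Ω}

theorem mem_normalizerIn_zpowers {g : Ω} (hg : g ∈ S) : g ∈ normalizerIn S (Subgroup.zpowers g) :=
  ⟨hg, Subgroup.le_normalizer (Subgroup.mem_zpowers g)⟩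

theorem normalizerIn_zpowers_le {g : Ω} (hgS : g ∈ S) {P : Subgroup Ω}
    (hw : ∀ w : S, w ∈ Subgroup.normalizer (Subgroup.zpowers (⟨g, hgS⟩ : S) : Set S) → (w : Ω) ∈ P) :
    normalizerIn S (Subgroup.zpowers g) ≤ P := by
  intro w hw'
  refine hw ⟨w, hw'.1⟩ ?_
  rw [Subgroup.mem_normalizer_iff]
  intro y
  have h2 := Subgroup.mem_normalizer_iff.1 hw'.2 (y : Ω)
  have h3 : ∀ y : S, y ∈ Subgroup.zpowers (⟨g, hgS⟩ : S) ↔ (y : Ω) ∈ Subgroup.zpowers g := by
    intro y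
    constructor
    · rintro ⟨k, rfl⟩
      exact ⟨k, by simp⟩
    · rintro ⟨k, hk⟩
      exact ⟨k, Subtype.ext (by simpa using hk)⟩
  exact (h3 y).trans (h2.trans (h3 (⟨w, hw'.1⟩ * y * (⟨w, hw'.1⟩ : S)⁻¹)).symm)

/-- **Extremal transfer, coset form.** -/
theorem extremal_coset [Finite S] (hS : IsPGroup 2 S) {F : FusionSystem S} (hF : F.IsSaturated 2)
    (M : Subgroup Ω) (hM : ∀ x ∈ S, ∀ y ∈ S, x * y * x⁻¹ * y⁻¹ ∈ M) {g : Ω} (hgS : g ∈ S)
    (hg : g ∈ F.focalSubgroup) {a : Ω} (ha : a ∈ S)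
    (h1 : ∀ (k : ℕ) (P : Subgroup Ω) (f : Ω → Ω), Mp F P f → g ^ (2 * k) ∈ P → f (g ^ (2 * k)) ∈ M)
    (h2 : ∀ f : Ω → Ω, Mp F (normalizerIn S (Subgroup.zpowers g)) f → a⁻¹ * f g ∈ M) : a ∈ M := by
  have hN : (M.subgroupOf S).Normal := ⟨fun n hn x => by
    have h3 := M.mul_mem (hM x x.2 n n.2) hn
    rw [Subgroup.mem_subgroupOf]
    have h4 : ((x * n * x⁻¹ : S) : Ω) = x * n * x⁻¹ * (n : Ω)⁻¹ * n := by
      simp only [Subgroup.coe_mul, Subgroup.coe_inv]
      group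
    rw [h4]
    exact h3⟩
  let _ : CommGroup (S ⧸ M.subgroupOf S) :=
    { (inferInstance : Group (S ⧸ M.subgroupOf S)) with
      mul_comm := by
        intro x y
        obtain ⟨x, rfl⟩ := QuotientGroup.mk_surjective x
        obtain ⟨y, rfl⟩ := QuotientGroup.mk_surjective y
        rw [← QuotientGroup.mk_mul, ← QuotientGroup.mk_mul, QuotientGroup.eq, Subgroup.mem_subgroupOf]
        have h3 := hM (y : Ω)⁻¹ (S.inv_mem y.2) (x : Ω)⁻¹ (S.inv_mem x.2)
        have h4 : (((x * y)⁻¹ * (y * x) : S) : Ω) = (y : Ω)⁻¹ * (x : Ω)⁻¹ * (y : Ω)⁻¹⁻¹ * (x : Ω)⁻¹⁻¹ := by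
          simp only [Subgroup.coe_mul, Subgroup.coe_inv]
          group
        rw [h4]
        exact h3 }
  have key := extremal_value hS hF (QuotientGroup.mk' (M.subgroupOf S)) ⟨g, hgS⟩ hg
    (QuotientGroup.mk' (M.subgroupOf S) ⟨a, ha⟩) (by
      intro k P φ hφ hy
      rw [QuotientGroup.mk'_apply, QuotientGroup.eq_one_iff, Subgroup.mem_subgroupOf]
      have hy' : g ^ (2 * k) ∈ P := hy
      have h3 := h1 k P (ex φ) (mp_ex hφ) hy'
      rw [ex_apply _ hy'] at h3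
      exact h3) (by
      intro P φ hφ hgP hw
      have hle := normalizerIn_zpowers_le hgS hw
      have h3 := h2 (ex φ) ((mp_ex hφ).res hle)
      have hgP' : g ∈ P := hgP
      rw [ex_apply _ hgP'] at h3
      rw [QuotientGroup.mk'_apply, QuotientGroup.mk'_apply, eq_comm, QuotientGroup.eq, Subgroup.mem_subgroupOf]
      exact h3)
  rw [QuotientGroup.mk'_apply, QuotientGroup.eq_one_iff, Subgroup.mem_subgroupOf] at key
  exact key

/-- The image of a cyclic group. -/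
theorem mem_zpowers_image {F : FusionSystem S} {P : Subgroup Ω} {f : Ω → Ω} (hf : Mp F P f) {g : Ω} (hg : g ∈ P)
    (y : Ω) : y ∈ Subgroup.zpowers (f g) ↔ ∃ x ∈ Subgroup.zpowers g, f x = y := by
  obtain ⟨φ, hφ, h1⟩ := hf
  have h2 : ∀ k : ℤ, f (g ^ k) = f g ^ k := by
    intro k
    rw [← h1 _ (P.zpow_mem hg k), ← h1 g hg, ← map_zpow]
    rfl
  constructor
  · rintro ⟨k, rfl⟩
    exact ⟨g ^ k, ⟨k, rfl⟩, h2 k⟩
  · rintro ⟨_, ⟨k, rfl⟩, rfl⟩
    exact ⟨k, (h2 k).symm⟩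

/-- A map defined on the normalizer of `P` carries it into the normalizer of the image of `P`. -/
theorem mp_mem_normalizerIn {F : FusionSystem S} {P Q N : Subgroup Ω} {f : Ω → Ω} (hf : Mp F N f) (hPN : P ≤ N)
    (hN : N ≤ Subgroup.normalizer (P : Set Ω)) (hQ : ∀ y, y ∈ Q ↔ ∃ x ∈ P, f x = y) {w : Ω} (hw : w ∈ N) :
    f w ∈ normalizerIn S Q := by
  refine ⟨hf.mem hw, ?_⟩
  have h1 : ∀ w ∈ N, ∀ y ∈ Q, f w * y * (f w)⁻¹ ∈ Q := by
    intro w hw y hy
    obtain ⟨x, hx, rfl⟩ := (hQ y).1 hy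
    rw [← hf.inv hw, ← hf.mul hw (hPN hx), ← hf.mul (N.mul_mem hw (hPN hx)) (N.inv_mem hw)]
    exact (hQ _).2 ⟨_, (Subgroup.mem_normalizer_iff.1 (hN hw) x).1 hx, rfl⟩
  refine Subgroup.mem_normalizer_iff.2 fun y => ⟨h1 w hw y, fun h => ?_⟩
  have h2 := h1 w⁻¹ (N.inv_mem hw) _ h
  rw [hf.inv hw] at h2
  have h3 : (f w)⁻¹ * (f w * y * (f w)⁻¹) * (f w)⁻¹⁻¹ = y := by group
  rwa [h3] at h2

/-- The image of a fully normalized subgroup under a map defined on its normalizer is fully normalized. -/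
theorem isFullyNormalized_image [Finite S] {F : FusionSystem S} {P Q : Subgroup Ω} {f : Ω → Ω}
    (hP : F.IsFullyNormalized P) (hf : Mp F (normalizerIn S P) f) (hQ : ∀ y, y ∈ Q ↔ ∃ x ∈ P, f x = y) :
    F.IsFullyNormalized Q := by
  have hPN : P ≤ normalizerIn S P := le_normalizerIn hP.1
  have hQS : Q ≤ S := fun y hy => by
    obtain ⟨x, hx, rfl⟩ := (hQ y).1 hy
    exact hf.mem (hPN hx)
  have hc : F.IsConj P Q := by
    obtain ⟨φ, hφ, h1⟩ := hf.res hPN
    refine ⟨φ, hφ, ?_⟩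
    ext y
    rw [hQ]
    constructor
    · rintro ⟨x, rfl⟩
      exact ⟨x, x.2, (h1 x x.2).symm⟩
    · rintro ⟨x, hx, rfl⟩
      exact ⟨⟨x, hx⟩, h1 x hx⟩
  refine ⟨hQS, fun R hR => (hP.2 R (isConj_trans hc hR)).trans ?_⟩
  have : Finite (normalizerIn S Q) := finite_of_le inf_le_left
  refine Nat.card_le_card_of_injective
    (fun x : normalizerIn S P => (⟨f x, mp_mem_normalizerIn hf hPN inf_le_right hQ x.2⟩ : normalizerIn S Q)) ?_
  intro x y hxy
  exact Subtype.ext (hf.inj x.2 y.2 (congrArg Subtype.val hxy))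

/-- Every subgroup `P ≤ S` is carried onto a fully normalized subgroup by a map defined on `N_S(P)`. -/
theorem exists_mp_fullyNormalized {p : ℕ} [Fact p.Prime] [Finite S] (hS : IsPGroup p S) {F : FusionSystem S}
    (hF : F.IsSaturated p) {P : Subgroup Ω} (hP : P ≤ S) :
    ∃ (Q : Subgroup Ω) (f : Ω → Ω), F.IsFullyNormalized Q ∧ Mp F (normalizerIn S P) f ∧
      ∀ y, y ∈ Q ↔ ∃ x ∈ P, f x = y := by
  obtain ⟨Q, ⟨φ, hφ, hφr⟩, hQ⟩ := exists_isFullyNormalized hS hF hP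
  obtain ⟨β, -, ψ, hψ, h1, -⟩ := exists_extension_normalizer hS hF hφ hφr hQ
  have hPN : P ≤ normalizerIn S P := le_normalizerIn hP
  refine ⟨Q, ex ψ, hQ, mp_ex hψ, fun y => ?_⟩
  constructor
  · intro hy
    have h2 : ((β.symm ⟨y, hy⟩ : Q) : Ω) ∈ φ.range := by rw [hφr]; exact (β.symm ⟨y, hy⟩).2
    obtain ⟨x, hx⟩ := h2
    have hx' : φ x ∈ Q := by rw [hx]; exact (β.symm ⟨y, hy⟩).2
    refine ⟨x, x.2, ?_⟩
    rw [ex_apply _ (hPN x.2), h1 x hx' (hPN x.2)]
    have h3 : (⟨φ x, hx'⟩ : Q) = β.symm ⟨y, hy⟩ := Subtype.ext hx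
    rw [h3, MulEquiv.apply_symm_apply]
  · rintro ⟨x, hx, rfl⟩
    have hx' : φ ⟨x, hx⟩ ∈ Q := by rw [← hφr]; exact ⟨_, rfl⟩
    rw [ex_apply _ (hPN hx), h1 ⟨x, hx⟩ hx' (hPN hx)]
    exact (β _).2

/-- **Extremal Thompson transfer.**  `S ≤ foc(F)`, `S / (S ∩ M)` abelian with at most one involution, all
`F`-conjugates of the even powers of `g` lie in `M`.  Then a map of `F` defined on `N_S(⟨g⟩)` sends `g` to an
element of `M` which generates a fully normalized subgroup. -/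
theorem extremal_cyclic [Finite S] (hS : IsPGroup 2 S) {F : FusionSystem S} (hF : F.IsSaturated 2)
    (hfoc : S ≤ F.focalSubgroup) (M : Subgroup Ω) (hM : ∀ x ∈ S, ∀ y ∈ S, x * y * x⁻¹ * y⁻¹ ∈ M)
    (hM2 : ∀ x ∈ S, ∀ y ∈ S, x ∉ M → y ∉ M → x ^ 2 ∈ M → y ^ 2 ∈ M → x⁻¹ * y ∈ M) {g : Ω} (hgS : g ∈ S)
    (h1 : ∀ (k : ℕ) (P : Subgroup Ω) (f : Ω → Ω), Mp F P f → g ^ (2 * k) ∈ P → f (g ^ (2 * k)) ∈ M) :
    ∃ f : Ω → Ω, Mp F (normalizerIn S (Subgroup.zpowers g)) f ∧ f g ∈ M ∧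
      F.IsFullyNormalized (Subgroup.zpowers (f g)) := by
  have : Fact (Nat.Prime 2) := ⟨Nat.prime_two⟩
  have hzS : Subgroup.zpowers g ≤ S := by rw [Subgroup.zpowers_le]; exact hgS
  have hgN := mem_normalizerIn_zpowers hgS
  have hzN : Subgroup.zpowers g ≤ normalizerIn S (Subgroup.zpowers g) := le_normalizerIn hzS
  obtain ⟨Q, f, hQ, hf, hQf⟩ := exists_mp_fullyNormalized hS hF hzS
  have hQe : Q = Subgroup.zpowers (f g) := by
    ext y
    rw [hQf, mem_zpowers_image hf hgN]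
  subst hQe
  have hg0S : f g ∈ S := hf.mem hgN
  have hg0N := mem_normalizerIn_zpowers hg0S
  -- the hypothesis on even powers for `f g`
  have h2 : ∀ (k : ℕ) (P : Subgroup Ω) (f' : Ω → Ω), Mp F P f' → f g ^ (2 * k) ∈ P → f' (f g ^ (2 * k)) ∈ M := by
    intro k P f' hf' hk
    have h3 : Subgroup.zpowers (g ^ (2 * k)) ≤ normalizerIn S (Subgroup.zpowers g) := by
      rw [Subgroup.zpowers_le]
      exact Subgroup.pow_mem _ hgN _
    have h4 := (hf.res h3).comp hf' (fun x hx => by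
      have h5 : f x ∈ Subgroup.zpowers (f (g ^ (2 * k))) :=
        (mem_zpowers_image hf (Subgroup.pow_mem _ hgN _) _).2 ⟨x, hx, rfl⟩
      rw [hf.pow hgN] at h5
      exact (Subgroup.zpowers_le.2 hk) h5)
    have h5 := h1 k _ _ h4 (Subgroup.mem_zpowers _)
    rw [hf.pow hgN] at h5
    exact h5
  have key : ∃ f' : Ω → Ω, Mp F (normalizerIn S (Subgroup.zpowers (f g))) f' ∧ f' (f g) ∈ M := by
    by_contra hcon
    push Not at hcon
    have hid := mp_id F (P := normalizerIn S (Subgroup.zpowers (f g))) inf_le_left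
    have hsq : ∀ f' : Ω → Ω, Mp F (normalizerIn S (Subgroup.zpowers (f g))) f' → f' (f g) ^ 2 ∈ M := by
      intro f' hf'
      have h3 := h2 1 _ f' hf' (Subgroup.pow_mem _ hg0N _)
      rwa [hf'.pow hg0N] at h3
    refine hcon _ hid (extremal_coset hS hF M hM hg0S (hfoc hg0S) hg0S h2 fun f' hf' => ?_)
    exact hM2 _ hg0S _ (hf'.mem hg0N) (hcon _ hid) (hcon _ hf') (hsq _ hid) (hsq _ hf')
  obtain ⟨f', hf', hM'⟩ := key
  have hmap : ∀ x ∈ normalizerIn S (Subgroup.zpowers g), f x ∈ normalizerIn S (Subgroup.zpowers (f g)) :=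
    fun x hx => mp_mem_normalizerIn hf hzN inf_le_right hQf hx
  exact ⟨fun x => f' (f x), hf.comp hf' hmap, hM',
    isFullyNormalized_image hQ hf' (mem_zpowers_image hf' hg0N)⟩

/-- For an element of order at most two, the normalizer of the generated subgroup is the centralizer. -/
theorem mem_normalizer_zpowers_iff {G : Type*} [Group G] {j : G} (hj : j ^ 2 = 1) (w : G) :
    w ∈ Subgroup.normalizer (Subgroup.zpowers j : Set G) ↔ w * j = j * w := by
  have hz : ∀ y ∈ Subgroup.zpowers j, y = 1 ∨ y = j := by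
    rintro _ ⟨k, rfl⟩
    have h2 : j ^ (2 : ℤ) = 1 := by exact_mod_cast hj
    rcases Int.even_or_odd' k with ⟨l, hl | hl⟩
    · left
      show j ^ k = 1
      rw [hl, zpow_mul, h2, one_zpow]
    · right
      show j ^ k = j
      rw [hl, zpow_add, zpow_mul, h2, one_zpow, one_mul, zpow_one]
  rw [Subgroup.mem_normalizer_iff]
  constructor
  · intro h
    rcases hz _ ((h j).1 (Subgroup.mem_zpowers j)) with h1 | h1
    · have h2 : j = 1 := by
        have h3 : j = w⁻¹ * (w * j * w⁻¹) * w := by group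
        rw [h3, h1]
        group
      rw [h2, mul_one, one_mul]
    · rw [mul_inv_eq_iff_eq_mul] at h1
      exact h1
  · intro h y
    have h1 : w * j * w⁻¹ = j := by rw [h]; group
    constructor
    · intro hy
      rcases hz y hy with rfl | rfl
      · simp
      · rw [h1]
        exact Subgroup.mem_zpowers _
    · intro hy
      rcases hz _ hy with h2 | h2
      · have h3 : y = w⁻¹ * (w * y * w⁻¹) * w := by group
        rw [h3, h2]
        simp
      · have h3 : y = j := mul_left_cancel (mul_right_cancel (h2.trans h1.symm))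
        rw [h3]
        exact Subgroup.mem_zpowers _

/-- **Thompson transfer for involutions.**  `S ≤ foc(F)`, `S / (S ∩ M)` abelian with at most one involution, `i ∈ S`
with `i² = 1`, `C = C_S(i)`.  Then a map `f` of `F` defined on `C` sends `i` into `M`, and `f i` is fully
centralized: `|C_S(j)| ≤ |C_S(f i)|` for every `F`-conjugate `j` of `i`. -/
theorem thompson_involution [Finite S] (hS : IsPGroup 2 S) {F : FusionSystem S} (hF : F.IsSaturated 2)
    (hfoc : S ≤ F.focalSubgroup) (M : Subgroup Ω) (hM : ∀ x ∈ S, ∀ y ∈ S, x * y * x⁻¹ * y⁻¹ ∈ M)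
    (hM2 : ∀ x ∈ S, ∀ y ∈ S, x ∉ M → y ∉ M → x ^ 2 ∈ M → y ^ 2 ∈ M → x⁻¹ * y ∈ M) {i : Ω} (hiS : i ∈ S)
    (hi : i ^ 2 = 1) (C : Subgroup Ω) (hC : ∀ w ∈ C, w ∈ S ∧ w * i = i * w) :
    ∃ f : Ω → Ω, Mp F C f ∧ Mp F (Subgroup.zpowers i) f ∧ f i ∈ M ∧
      F.IsFullyNormalized (Subgroup.zpowers (f i)) ∧ F.IsFullyCentralized (Subgroup.zpowers (f i)) := by
  have : Fact (Nat.Prime 2) := ⟨Nat.prime_two⟩
  obtain ⟨f, hf, h1, h2⟩ := extremal_cyclic hS hF hfoc M hM hM2 hiS (fun k P f hf _ => by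
    rw [pow_mul, hi, one_pow, hf.one]
    exact M.one_mem)
  refine ⟨f, hf.res fun w hw => ⟨(hC w hw).1, (mem_normalizer_zpowers_iff hi w).2 (hC w hw).2⟩,
    hf.res (le_normalizerIn (Subgroup.zpowers_le.2 hiS)), h1, h2,
    isFullyCentralized_of_isFullyNormalized hS hF h2⟩

/-- **Central involutions.**  `z ∈ foc(F)` central in `S` with `z² = 1`; if `Aut_F(S)` fixes the coset `z M` then
`z ∈ M`. -/
theorem central_mem [Finite S] (hS : IsPGroup 2 S) {F : FusionSystem S} (hF : F.IsSaturated 2)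
    (M : Subgroup Ω) (hM : ∀ x ∈ S, ∀ y ∈ S, x * y * x⁻¹ * y⁻¹ ∈ M) {z : Ω} (hzS : z ∈ S)
    (hz : z ∈ F.focalSubgroup) (hz2 : z ^ 2 = 1) (hzc : ∀ w ∈ S, w * z = z * w)
    (h : ∀ f : Ω → Ω, Mp F S f → z⁻¹ * f z ∈ M) : z ∈ M := by
  refine extremal_coset hS hF M hM hzS hz hzS (fun k P f hf _ => ?_) (fun f hf => h f (hf.res fun w hw => ?_))
  · rw [pow_mul, hz2, one_pow, hf.one]
    exact M.one_mem
  · exact ⟨hw, (mem_normalizer_zpowers_iff hz2 w).2 (hzc w hw)⟩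

end Cfsg.Agent.FS.Th
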