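import Cfsg.Agent.FS.Th.Shape
import Cfsg.Agent.FS.Th.Thompson

/-!
# Chain tests, N-test, H-test, Thompson counts (TH2 d, f) (helper79, project FS)

* `triv_of_chain`: an automorphism of odd prime power order stabilizing a chain is trivial on the top modulo the bottom.
* `Loc.exists_triv`: if `g ∈ N(P) \ P` stabilizes an `A`-invariant chain, some `α ∈ A \ D` is trivial on the top modulo
  the bottom.  Consequences `LocM.chain` (H-test), `LocN.chain` (N-test), `LocZ.chain`.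
* `TopM.chain`, `inner_of_chain`, `top_mapsTo_of_chain`: chains with steps of index `2` in `G`.
* `Hyp.thompson`, `Emb`: the extremal conjugate of an involution and the counts that grow.
-/

set_option autoImplicit false

namespace Cfsg.Agent.FS.Th

open Cfsg Cfsg.FusionSystem Cfsg.Agent.H802 Cfsg.Agent.H752

universe u v

variable {G : Type u} [Group G]

theorem triv_of_chain [Finite G] (hG : IsPGroup 2 G) {K : ℕ → Subgroup G} {m : ℕ} {β : MulAut G}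
    (hβ : β ∈ chainStab K m) {r k : ℕ} (hr : r.Prime) (hr2 : r ≠ 2) (hk : β ^ r ^ k = 1)
    (h0 : ∀ y, ∀ x ∈ K 0, y * x * y⁻¹ ∈ K 0) : ∀ x ∈ K m, x⁻¹ * β x ∈ K 0 := by
  have : Fact (Nat.Prime 2) := ⟨Nat.prime_two⟩
  let T : Subgroup G :=
    { carrier := {x | x⁻¹ * β x ∈ K 0}
      one_mem' := by
        show (1 : G)⁻¹ * β 1 ∈ K 0
        rw [map_one, inv_mul_cancel]
        exact (K 0).one_mem
      mul_mem' := fun {a b} (ha : a⁻¹ * β a ∈ K 0) (hb : b⁻¹ * β b ∈ K 0) => by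
        show (a * b)⁻¹ * β (a * b) ∈ K 0
        have h1 : (a * b)⁻¹ * β (a * b) = b⁻¹ * (a⁻¹ * β a) * b⁻¹⁻¹ * (b⁻¹ * β b) := by
          rw [map_mul]
          group
        rw [h1]
        exact (K 0).mul_mem (h0 _ _ ha) hb
      inv_mem' := fun {a} (ha : a⁻¹ * β a ∈ K 0) => by
        show a⁻¹⁻¹ * β a⁻¹ ∈ K 0
        have h1 : a⁻¹⁻¹ * β a⁻¹ = a * (a⁻¹ * β a)⁻¹ * a⁻¹ := by
          rw [map_inv]
          group
        rw [h1]
        exact h0 _ _ ((K 0).inv_mem ha) }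
  refine (le_fixed_sup hG hβ hr hr2 hk m le_rfl).trans (sup_le (fun x hx => ?_) fun x hx => ?_ : _ ≤ T)
  · show x⁻¹ * β x ∈ K 0
    rw [show β x = x from hx, inv_mul_cancel]
    exact (K 0).one_mem
  · exact (K 0).mul_mem ((K 0).inv_mem hx) ((hβ.1 0 x).2 hx)

theorem exists_pow_sq_mem (hG : IsPGroup 2 G) {P : Subgroup G} {g : G} (hg : g ∉ P) :
    ∃ n : ℕ, g ^ n ∉ P ∧ g ^ n * g ^ n ∈ P := by
  classical
  obtain ⟨k, hk⟩ := hG g
  have h1 : ∃ k, g ^ 2 ^ k ∈ P := ⟨k, hk ▸ P.one_mem⟩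
  have h2 := Nat.find_spec h1
  rcases h3 : Nat.find h1 with _ | j
  · rw [h3, pow_zero, pow_one] at h2
    exact (hg h2).elim
  · refine ⟨2 ^ j, Nat.find_min h1 (by omega), ?_⟩
    rwa [h3, pow_succ, pow_mul, pow_two] at h2

theorem Cj.pow {P : Subgroup G} {g : G} {γ : MulAut P} (h : Cj g γ) : ∀ n : ℕ, Cj (g ^ n) (γ ^ n)
  | 0 => fun x => by rw [pow_zero, pow_zero, one_mul, inv_one, mul_one]; rfl
  | n + 1 => by rw [pow_succ, pow_succ]; exact (h.pow n).mul h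

/-- **The chain lemma.** -/
theorem Loc.exists_triv [Finite G] {P : Subgroup G} {A D : Subgroup (MulAut P)} (h : Loc P A D) {g : G}
    (hgN : ∀ x ∈ P, g * x * g⁻¹ ∈ P) (hgP : g ∉ P) {K : ℕ → Subgroup G} {m : ℕ} (hKP : ∀ i, K i ≤ P)
    (hKA : ∀ α ∈ A, ∀ i, ∀ x ∈ K i, fn α x ∈ K i) (hstep : ∀ i < m, ∀ x ∈ K (i + 1), g * x * g⁻¹ * x⁻¹ ∈ K i) :
    ∃ α ∈ A, α ∉ D ∧ ∀ x ∈ K m, x⁻¹ * fn α x ∈ K 0 := by
  obtain ⟨γ, hγ⟩ := exists_cj hgN
  let K' : ℕ → Subgroup P := fun i => (K i).subgroupOf P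
  have hK' : ∀ α ∈ A, ∀ i, ∀ x ∈ K' i, α x ∈ K' i := fun α hα i x hx => by
    have h1 := hKA α hα i x hx
    rwa [fn_apply α x.2] at h1
  have hγK : γ ∈ chainStab K' m := mem_chainStab (hK' γ (h.autA hγ.mem)) fun i hi x hx => by
    show ((γ x : P) : G) * (x : G)⁻¹ ∈ K i
    rw [hγ]
    exact hstep i hi x hx
  obtain ⟨n, h1, h2⟩ := exists_pow_sq_mem h.pg hgP
  obtain ⟨a, ha, haD⟩ := SetLike.not_le_iff_exists.1 h.ne
  obtain ⟨y, -, r, j, hd⟩ := h.exists_dih' ha haD h1 h2 (hγ.pow n)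
  obtain ⟨k, hk⟩ := hd.ord
  have h3 := Subgroup.pow_mem _ hγK n
  refine ⟨_, hd.mem, hd.notMem, fun x hx => ?_⟩
  have h4 := triv_of_chain (h.pg.to_subgroup P) (Subgroup.pow_mem _ (Subgroup.mul_mem _ h3
    (conj_mem_chainStab (fun i => iff_of_mapsTo (hK' a ha i)) h3)) j) hd.prime hd.ne_two hk
    (fun y => hK' _ (h.autA (cj_conj y).mem) 0) ⟨x, hKP m hx⟩ hx
  rw [fn_apply _ (hKP m hx)]
  exact h4

/-- `K` is a subgroup of `P` invariant under `Aut(P)`. -/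
def CharIn (P K : Subgroup G) : Prop := K ≤ P ∧ ∀ α : MulAut P, ∀ x ∈ K, fn α x ∈ K

/-- **H-test at `P`.** -/
theorem LocM.chain [Finite G] {P M : Subgroup G} (h : LocM P M) {g : G} (hgN : ∀ x ∈ P, g * x * g⁻¹ ∈ P) (hgP : g ∉ P)
    {K : ℕ → Subgroup G} {m : ℕ} (hK : ∀ i, CharIn P (K i))
    (hstep : ∀ i < m, ∀ x ∈ K (i + 1), g * x * g⁻¹ * x⁻¹ ∈ K i) (h0 : K 0 ≤ M) (hm : P ≤ K m) : False := by
  obtain ⟨A, D, h1, h2⟩ := h
  obtain ⟨α, hα, h3, h4⟩ := h1.exists_triv hgN hgP (fun i => (hK i).1) (fun α _ i => (hK i).2 α) hstep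
  exact h3 (h2 α hα fun x hx => h0 (h4 x (hm hx)))

theorem LocZ.chain [Finite G] {P M : Subgroup G} {z : G} (h : LocZ z P M) {g : G} (hgN : ∀ x ∈ P, g * x * g⁻¹ ∈ P)
    (hgP : g ∉ P) {K : ℕ → Subgroup G} {m : ℕ} (hK : ∀ i, CharIn P (K i))
    (hstep : ∀ i < m, ∀ x ∈ K (i + 1), g * x * g⁻¹ * x⁻¹ ∈ K i) (h0 : ∀ x ∈ K 0, x = 1) (hm : z ∈ K m) : False := by
  obtain ⟨A, D, h1, -, h2⟩ := h
  obtain ⟨α, hα, h3, h4⟩ := h1.exists_triv hgN hgP (fun i => (hK i).1) (fun α _ i => (hK i).2 α) hstep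
  exact h3 (h2 α hα (inv_mul_eq_one.1 (h0 _ (h4 z hm))).symm)

/-- A local datum at `P` in which the automorphisms preserving `Q` lie in `D`. -/
def LocN (P Q : Subgroup G) : Prop :=
  ∃ A D : Subgroup (MulAut P), Loc P A D ∧ ∀ α ∈ A, (∀ x ∈ Q, fn α x ∈ Q) → α ∈ D

theorem LocN.not_char {P Q : Subgroup G} (h : LocN P Q) (hQ : ∀ α : MulAut P, ∀ x ∈ Q, fn α x ∈ Q) : False := by
  obtain ⟨A, D, h1, h2⟩ := h
  exact h1.ne fun α hα => h2 α hα (hQ α)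

/-- **N-test at `P`.** -/
theorem LocN.chain [Finite G] {P Q : Subgroup G} (h : LocN P Q) {g : G} (hgN : ∀ x ∈ P, g * x * g⁻¹ ∈ P) (hgP : g ∉ P)
    {K : ℕ → Subgroup G} {m : ℕ} (hK : ∀ i, CharIn P (K i))
    (hstep : ∀ i < m, ∀ x ∈ K (i + 1), g * x * g⁻¹ * x⁻¹ ∈ K i) (h0 : K 0 ≤ Q) (hm : Q ≤ K m) : False := by
  obtain ⟨A, D, h1, h2⟩ := h
  obtain ⟨α, hα, h3, h4⟩ := h1.exists_triv hgN hgP (fun i => (hK i).1) (fun α _ i => (hK i).2 α) hstep
  exact h3 (h2 α hα fun x hx => (Q.mul_mem_cancel_left (Q.inv_mem hx)).1 (h0 (h4 x (hm hx))))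

/-- **N-test.** -/
theorem Hyp.locN [Finite G] (hG : IsPGroup 2 G) {F : FusionSystem (⊤ : Subgroup G)} (h : Hyp F) {Q : Subgroup G}
    (hQ : Q ≠ ⊥) (hn : ∀ g, ∀ x ∈ Q, g * x * g⁻¹ ∈ Q) (htop : ∀ f, Mp F ⊤ f → ∀ x ∈ Q, f x ∈ Q) :
    ∃ P, F.IsEssential 2 P ∧ (Q ≤ P → LocN P Q) := by
  have : Fact (Nat.Prime 2) := ⟨Nat.prime_two⟩
  rcases normal_failure (hG.to_subgroup ⊤) h.sat (W := Q) le_top (fun s _ => hn s) (not_isNormal_of_core h.core hQ) with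
    ⟨α, hα, r, k, -, -, -, ⟨w, hw, h1⟩, -⟩ | ⟨-, P, H, hf⟩
  · exact (h1 (htop _ (mp_fn le_rfl hα) w hw)).elim
  · exact ⟨P, hf.ess, fun hle => ⟨_, H, hf.loc hG h.sat, fun α hα h1 =>
      (hf.mem α).2 ⟨hα, (norP_iff_of_le hle (mp_fn le_top hα)).2 h1⟩⟩⟩

/-- Every essential subgroup carries a local datum. -/
theorem locM_of_essential [Finite G] (hG : IsPGroup 2 G) {F : FusionSystem (⊤ : Subgroup G)} (hF : F.IsSaturated 2)
    {P : Subgroup G} (hP : F.IsEssential 2 P) : ∃ D, Loc P (F.autGroup P) D := by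
  have : Fact (Nat.Prime 2) := ⟨Nat.prime_two⟩
  obtain ⟨D, h1, -, h2⟩ := exists_ctx (hG.to_subgroup ⊤) hF hP
  exact ⟨D, h1.loc h2 (ne_of_isEssential (hG.to_subgroup ⊤) hF hP)⟩

/-! ### chains with steps of index two -/

/-- A chain of characteristic subgroups with steps of index at most `2`. -/
structure Chain2 (K : ℕ → Subgroup G) (m : ℕ) : Prop where
  char : ∀ (θ : MulAut G) (i : ℕ), ∀ x ∈ K i, θ x ∈ K i
  step : ∀ i < m, ∀ x ∈ K (i + 1), ∀ y ∈ K (i + 1), x ∉ K i → y ∉ K i → y * x⁻¹ ∈ K i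

theorem Chain2.mem [Finite G] {K : ℕ → Subgroup G} {m : ℕ} (h : Chain2 K m) (θ : MulAut G) : θ ∈ chainStab K m :=
  mem_chainStab (h.char θ) fun i hi x hx => by
    by_cases h1 : x ∈ K i
    · exact (K i).mul_mem (h.char θ i x h1) ((K i).inv_mem h1)
    · exact h.step i hi x hx _ (h.char θ _ x hx) h1 fun h2 => h1 ((iff_of_mapsTo (h.char θ i) x).1 h2)

theorem Chain2.triv [Finite G] (hG : IsPGroup 2 G) {K : ℕ → Subgroup G} {m : ℕ} (h : Chain2 K m) {θ : MulAut G}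
    {r k : ℕ} (hr : r.Prime) (hr2 : r ≠ 2) (hk : θ ^ r ^ k = 1) : ∀ x ∈ K m, x⁻¹ * θ x ∈ K 0 :=
  triv_of_chain hG (h.mem θ) hr hr2 hk fun y => h.char (MulAut.conj y) 0

/-- **H-test at the top.** -/
theorem TopM.chain [Finite G] (hG : IsPGroup 2 G) {F : FusionSystem (⊤ : Subgroup G)} {M : Subgroup G} (h : TopM F M)
    {K : ℕ → Subgroup G} {m : ℕ} (hK : Chain2 K m) (h0 : K 0 ≤ M) (hm : ∀ x, x ∈ K m) : False := by
  obtain ⟨α, r, k, -, hr, hr2, hk, ⟨x, hx⟩, -⟩ := h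
  exact hx (h0 (hK.triv hG hr hr2 hk x (hm x)))

/-- A normal subgroup between the ends of a chain is invariant under `Aut_F(G)`. -/
theorem top_mapsTo_of_chain [Finite G] (hG : IsPGroup 2 G) {F : FusionSystem (⊤ : Subgroup G)} (hF : F.IsSaturated 2)
    {Q : Subgroup G} (hn : ∀ g, ∀ x ∈ Q, g * x * g⁻¹ ∈ Q) {K : ℕ → Subgroup G} {m : ℕ} (hK : Chain2 K m)
    (h0 : K 0 ≤ Q) (hm : Q ≤ K m) {f : G → G} (hf : Mp F ⊤ f) : ∀ x ∈ Q, f x ∈ Q := by
  obtain ⟨θ, hθ⟩ := Mp.exists_top hf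
  have h1 : θ ∈ chainStab (fun _ => Q) 0 :=
    top_ind hG hF (fun g => mem_chainStab (fun _ => hn g) fun i hi => by omega)
      (fun β r k _ hr hr2 hk _ => mem_chainStab (fun _ x hx =>
        (Q.mul_mem_cancel_left (Q.inv_mem hx)).1 (h0 (hK.triv hG hr hr2 hk x (hm hx)))) fun i hi => by omega)
      (hf.congr fun x _ => hθ x)
  intro x hx
  rw [← hθ]
  exact (h1.1 0 x).2 hx

/-- `Aut_F(G)` acts trivially on the top modulo `M` if `G` does and the bottom lies in `M`. -/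
theorem top_triv_of_chain [Finite G] (hG : IsPGroup 2 G) {F : FusionSystem (⊤ : Subgroup G)} (hF : F.IsSaturated 2)
    {M : Subgroup G} {K : ℕ → Subgroup G} {m : ℕ} (hK : Chain2 K m) (h0 : K 0 ≤ M) (hM : M ≤ K m)
    (hc : ∀ g, ∀ x ∈ K m, g * x * g⁻¹ * x⁻¹ ∈ M) {f : G → G} (hf : Mp F ⊤ f) : ∀ x ∈ K m, f x * x⁻¹ ∈ M := by
  obtain ⟨θ, hθ⟩ := Mp.exists_top hf
  let L : ℕ → Subgroup G := fun i => if i = 0 then M else K m
  have hL : ∀ β : MulAut G, (∀ x ∈ K m, β x * x⁻¹ ∈ M) → β ∈ chainStab L 1 := fun β hβ =>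
    mem_chainStab (fun i x hx => by
      cases i with
      | zero => exact (M.mul_mem_cancel_right (M.inv_mem hx)).1 (hβ x (hM hx))
      | succ i => exact hK.char β m x hx) fun i hi x hx => by
        obtain rfl : i = 0 := by omega
        exact hβ x hx
  have h1 : θ ∈ chainStab L 1 := top_ind hG hF (fun g => hL _ (hc g)) (fun β r k _ hr hr2 hk _ => hL β fun x hx => by
      have h2 := hK.char (MulAut.conj x) 0 _ (hK.triv hG hr hr2 hk x hx)
      rw [MulAut.conj_apply, mul_inv_cancel_left] at h2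
      exact h0 h2) (hf.congr fun x _ => hθ x)
  intro x hx
  rw [← hθ]
  exact h1.2 0 Nat.one_pos x hx

/-- If the chain runs from a nongenerating subgroup to `G`, all maps of `F` on `G` are inner. -/
theorem inner_of_chain [Finite G] (hG : IsPGroup 2 G) {F : FusionSystem (⊤ : Subgroup G)} (hF : F.IsSaturated 2)
    {K : ℕ → Subgroup G} {m : ℕ} (hK : Chain2 K m) (h0 : K 0 ≤ Subgroup.closure {y | ∃ x, y = x * x})
    (hm : ∀ x, x ∈ K m) {f : G → G} (hf : Mp F ⊤ f) : ∃ g, ∀ x, f x = g * x * g⁻¹ := by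
  have : Fact (Nat.Prime 2) := ⟨Nat.prime_two⟩
  obtain ⟨θ, hθ⟩ := Mp.exists_top hf
  have hp := isPGroup_chainStab hG ((Subgroup.eq_top_iff' _).2 hm) (nonGen_of_sq hG h0)
  obtain ⟨g, hg⟩ : θ ∈ (MulAut.conj : G →* MulAut G).range :=
    top_ind hG hF (D := (MulAut.conj : G →* MulAut G).range) (fun g => ⟨g, rfl⟩) (fun β r k _ hr hr2 hk _ => by
      obtain ⟨j, hj⟩ := hp ⟨β, hK.mem β⟩
      have h1 : orderOf β ∣ Nat.gcd (r ^ k) (2 ^ j) :=
        Nat.dvd_gcd (orderOf_dvd_of_pow_eq_one hk) (orderOf_dvd_of_pow_eq_one (congrArg Subtype.val hj))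
      rw [(Nat.Coprime.pow k j ((Nat.coprime_primes hr Nat.prime_two).2 hr2)).gcd_eq_one, Nat.dvd_one,
        orderOf_eq_one_iff] at h1
      rw [h1]
      exact Subgroup.one_mem _) (hf.congr fun x _ => hθ x)
  exact ⟨g, fun x => by rw [← hθ, ← hg, MulAut.conj_apply]⟩

/-! ### Thompson transfer -/

/-- `f` is an injective homomorphism `C(i) → C(j)` with `i ↦ j`. -/
structure Emb (i j : G) (f : G → G) : Prop where
  map : f i = j
  mul : ∀ x y, x * i = i * x → y * i = i * y → f (x * y) = f x * f y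
  inj : ∀ x y, x * i = i * x → y * i = i * y → f x = f y → x = y

namespace Emb

variable {i j : G} {f : G → G}

theorem comm (h : Emb i j f) {x : G} (hx : x * i = i * x) : f x * j = j * f x := by
  rw [← h.map, ← h.mul x i hx rfl, ← h.mul i x rfl hx, hx]

theorem one (h : Emb i j f) : f 1 = 1 := by
  have h1 := h.mul 1 1 (by rw [one_mul, mul_one]) (by rw [one_mul, mul_one])
  rw [one_mul] at h1
  exact left_eq_mul.1 h1

theorem eq_one (h : Emb i j f) {x : G} (hx : x * i = i * x) : f x = 1 ↔ x = 1 :=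
  ⟨fun h1 => h.inj x 1 hx (by rw [one_mul, mul_one]) (h1.trans h.one.symm), fun h1 => by rw [h1, h.one]⟩

theorem ncard_le [Finite G] (h : Emb i j f) {p q : G → Prop} (hp : ∀ x, x * i = i * x → p x → q (f x)) :
    Set.ncard {x | x * i = i * x ∧ p x} ≤ Set.ncard {x | x * j = j * x ∧ q x} :=
  Set.ncard_le_ncard_of_injOn f (fun x hx => ⟨h.comm hx.1, hp x hx.1 hx.2⟩)
    (fun x hx y hy => h.inj x y hx.1 hy.1) (Set.toFinite _)

theorem card_cent [Finite G] (h : Emb i j f) : Set.ncard {x | x * i = i * x} ≤ Set.ncard {x | x * j = j * x} :=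
  Set.ncard_le_ncard_of_injOn f (fun _ hx => h.comm hx) (fun x hx y hy => h.inj x y hx hy) (Set.toFinite _)

theorem card_inv [Finite G] (h : Emb i j f) :
    Set.ncard {x | x * i = i * x ∧ x * x = 1} ≤ Set.ncard {x | x * j = j * x ∧ x * x = 1} :=
  h.ncard_le fun x hx h1 => by rw [← h.mul x x hx hx, h1, h.one]

theorem card_sqrt [Finite G] (h : Emb i j f) : Set.ncard {x | x * x = i} ≤ Set.ncard {x | x * x = j} := by
  have h1 : ∀ x, x * x = i → x * i = i * x := fun x hx => by rw [← hx, mul_assoc]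
  exact Set.ncard_le_ncard_of_injOn f (fun x hx => by
    show f x * f x = j
    rw [← h.mul x x (h1 x hx) (h1 x hx), show x * x = i from hx, h.map])
    (fun x hx y hy => h.inj x y (h1 x hx) (h1 y hy)) (Set.toFinite _)

theorem card_noninv [Finite G] (h : Emb i j f) :
    Set.ncard {x | x * i = i * x ∧ x * x ≠ 1} ≤ Set.ncard {x | x * j = j * x ∧ x * x ≠ 1} :=
  h.ncard_le fun x hx h1 h2 => h1 ((h.eq_one (by rw [mul_assoc, hx, ← mul_assoc, hx, mul_assoc])).1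
    (by rw [h.mul x x hx hx, h2]))

theorem card_four [Finite G] (h : Emb i j f) :
    Set.ncard {x | x * i = i * x ∧ x * x ≠ 1 ∧ x * x * (x * x) = 1} ≤
      Set.ncard {x | x * j = j * x ∧ x * x ≠ 1 ∧ x * x * (x * x) = 1} :=
  h.ncard_le fun x hx h1 => by
    have h2 : x * x * i = i * (x * x) := by rw [mul_assoc, hx, ← mul_assoc, hx, mul_assoc]
    rw [← h.mul x x hx hx, ← h.mul _ _ h2 h2, h1.2, h.one]
    exact ⟨fun h3 => h1.1 ((h.eq_one h2).1 h3), rfl⟩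

end Emb

/-- **T1.**  `G / M` is abelian with at most one involution. -/
theorem Hyp.thompson' [Finite G] (hG : IsPGroup 2 G) {F : FusionSystem (⊤ : Subgroup G)} (h : Hyp F) {M : Subgroup G}
    (hM : ∀ x y, x * y * x⁻¹ * y⁻¹ ∈ M) (hM2 : ∀ x y, x ∉ M → y ∉ M → x * x ∈ M → y * y ∈ M → x⁻¹ * y ∈ M) {i : G}
    (hi : i * i = 1) (hi1 : i ≠ 1) : ∃ j ∈ M, j * j = 1 ∧ j ≠ 1 ∧ ∃ f, Emb i j f := by
  obtain ⟨f, h1, -, h2, -⟩ := thompson_involution (hG.to_subgroup ⊤) h.sat h.foc M (fun x _ y _ => hM x y)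
    (fun x _ y _ hx hy h1 h2 => hM2 x y hx hy (pow_two x ▸ h1) (pow_two y ▸ h2)) (Subgroup.mem_top i)
    (by rw [pow_two, hi]) (Subgroup.centralizer {i})
    fun w hw => ⟨Subgroup.mem_top w, Subgroup.mem_centralizer_singleton_iff.1 hw⟩
  have h3 : Emb i (f i) f := ⟨rfl, fun x y hx hy => h1.mul (Subgroup.mem_centralizer_singleton_iff.2 hx)
    (Subgroup.mem_centralizer_singleton_iff.2 hy), fun x y hx hy => h1.inj
      (Subgroup.mem_centralizer_singleton_iff.2 hx) (Subgroup.mem_centralizer_singleton_iff.2 hy)⟩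
  exact ⟨f i, h2, by rw [← h3.mul i i rfl rfl, hi, h3.one], fun h4 => hi1 ((h3.eq_one rfl).1 h4), f, h3⟩

/-- **T1** for a subgroup of index at most `2`. -/
theorem Hyp.thompson [Finite G] (hG : IsPGroup 2 G) {F : FusionSystem (⊤ : Subgroup G)} (h : Hyp F) {M : Subgroup G}
    (hM : ∀ x y, x ∉ M → y ∉ M → x * y ∈ M) {i : G} (hi : i * i = 1) (hi1 : i ≠ 1) :
    ∃ j ∈ M, j * j = 1 ∧ j ≠ 1 ∧ ∃ f, Emb i j f := by
  have h1 : ∀ x y, x ∉ M → y ∈ M → x * y * x⁻¹ ∈ M := fun x y hx hy =>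
    hM _ _ (fun h2 => hx ((M.mul_mem_cancel_right hy).1 h2)) fun h2 => hx (M.inv_mem_iff.1 h2)
  refine h.thompson' hG (fun x y => ?_) (fun x y hx hy _ _ => hM _ _ (fun h2 => hx (M.inv_mem_iff.1 h2)) hy) hi hi1
  by_cases hx : x ∈ M <;> by_cases hy : y ∈ M
  · exact M.mul_mem (M.mul_mem (M.mul_mem hx hy) (M.inv_mem hx)) (M.inv_mem hy)
  · rw [mul_assoc, mul_assoc, ← mul_assoc y]
    exact M.mul_mem hx (h1 y _ hy (M.inv_mem hx))
  · exact M.mul_mem (h1 x y hx hy) (M.inv_mem hy)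
  · rw [mul_assoc]
    exact M.mul_mem (hM x y hx hy) (hM _ _ (fun h2 => hx (M.inv_mem_iff.1 h2)) fun h2 => hy (M.inv_mem_iff.1 h2))

/-- **T2.**  A central involution whose coset of `M` is fixed by `Aut_F(G)` lies in `M`. -/
theorem Hyp.central_mem [Finite G] (hG : IsPGroup 2 G) {F : FusionSystem (⊤ : Subgroup G)} (h : Hyp F)
    {M : Subgroup G} (hM : ∀ x y, x * y * x⁻¹ * y⁻¹ ∈ M) {z : G} (hz2 : z * z = 1) (hzc : ∀ g, g * z = z * g)
    (hf : ∀ f, Mp F ⊤ f → z⁻¹ * f z ∈ M) : z ∈ M :=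
  Th.central_mem (hG.to_subgroup ⊤) h.sat M (fun x _ y _ => hM x y) (Subgroup.mem_top z) (h.foc (Subgroup.mem_top z))
    (by rw [pow_two, hz2]) (fun w _ => hzc w) hf

end Cfsg.Agent.FS.Th
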