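import Cfsg.Agent.FS.Th.Level

/-!
# Existence and shape of the data of level `0` (TH2 a, b) (helper79, project FS)

* `Hyp.top_ind`: a subgroup of `Aut(G)` with the inner automorphisms and the maps of `F` of odd prime power order
  contains all maps of `F` on `G`.  `Hyp.fixes_of_two`: invariant sets of at most two central elements are fixed.
* `Hyp.exists_locZ`: an invariant set of central involutions contains a `z` with a datum `LocZ z P ⊥`.
* `Loc.shape`, `LocZ.shape`: the orbit of `z` under the dihedral element.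
-/

set_option autoImplicit false

namespace Cfsg.Agent.FS.Th

open Cfsg Cfsg.FusionSystem Cfsg.Agent.H802 Cfsg.Agent.H752

universe u v

variable {G : Type u} [Group G]

theorem fn_map_mul {P : Subgroup G} (α : MulAut P) {x y : G} (hx : x ∈ P) (hy : y ∈ P) :
    fn α (x * y) = fn α x * fn α y := by
  rw [fn_apply α hx, fn_apply α hy, fn_apply α (P.mul_mem hx hy), ← Subgroup.coe_mul, ← map_mul]
  rfl

theorem fn_map_inv {P : Subgroup G} (α : MulAut P) {x : G} (hx : x ∈ P) : fn α x⁻¹ = (fn α x)⁻¹ := by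
  rw [fn_apply α hx, fn_apply α (P.inv_mem hx), ← Subgroup.coe_inv, ← map_inv]
  rfl

theorem fn_map_one {P : Subgroup G} (α : MulAut P) : fn α 1 = 1 := by
  rw [fn_apply α P.one_mem]
  exact congrArg Subtype.val (map_one α)

theorem fn_inj {P : Subgroup G} (α : MulAut P) {x y : G} (hx : x ∈ P) (hy : y ∈ P) (h : fn α x = fn α y) : x = y := by
  rw [← fn_inv_fn α hx, h, fn_inv_fn α hy]

theorem mem_of_sq_mem {A : Type*} [Group A] {H : Subgroup A} {a : A} {n : ℕ} (hn : Odd n) (ha : a ^ n = 1)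
    (h : a * a ∈ H) : a ∈ H := by
  obtain ⟨k, rfl⟩ := hn
  have h1 : a = (a * a) ^ (k + 1) := by
    rw [← pow_two, ← pow_mul, show 2 * (k + 1) = 2 * k + 1 + 1 by ring, pow_succ, ha, one_mul]
  rw [h1]
  exact H.pow_mem h _

/-! ### the top group -/

theorem Mp.exists_top [Finite G] {F : FusionSystem (⊤ : Subgroup G)} {f : G → G} (h : Mp F ⊤ f) :
    ∃ θ : MulAut G, ∀ x, θ x = f x := by
  obtain ⟨α, -, h1⟩ := h.exists_aut fun _ _ => Subgroup.mem_top _
  exact ⟨MulAut.congr Subgroup.topEquiv α, fun x => (h1 x (Subgroup.mem_top x)).symm⟩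

/-- **Induction over `Aut_F(G)`.** -/
theorem top_ind [Finite G] (hG : IsPGroup 2 G) {F : FusionSystem (⊤ : Subgroup G)} (hF : F.IsSaturated 2)
    {D : Subgroup (MulAut G)} (hinn : ∀ g, MulAut.conj g ∈ D)
    (hodd : ∀ (θ : MulAut G) (r k : ℕ), Mp F ⊤ θ → r.Prime → r ≠ 2 → θ ^ r ^ k = 1 → θ ^ r ∈ D → θ ∈ D)
    {θ : MulAut G} (hθ : Mp F ⊤ θ) : θ ∈ D := by
  have : Fact (Nat.Prime 2) := ⟨Nat.prime_two⟩
  have := Loc.finAut (⊤ : Subgroup G)
  by_contra hD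
  obtain ⟨α, hα, h1⟩ := hθ.exists_aut fun _ _ => Subgroup.mem_top _
  let c : MulAut (⊤ : Subgroup G) →* MulAut G := (MulAut.congr Subgroup.topEquiv).toMonoidHom
  have hc : ∀ (β : MulAut (⊤ : Subgroup G)) (x : G), c β x = fn β x := fun β x => by
    rw [fn_apply _ (Subgroup.mem_top x)]
    rfl
  have h2 : c α = θ := by
    ext x
    exact (h1 x (Subgroup.mem_top x)).symm
  obtain ⟨r, k, m, hr, ho, h3, h4⟩ := exists_primePow_not_mem (D.comap c) _ α rfl (by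
    rw [Subgroup.mem_comap, h2]
    exact hD)
  have hβ := Subgroup.pow_mem _ hα m
  by_cases hr2 : r = 2
  · subst hr2
    obtain ⟨g, hg⟩ := mem_autTop_iff.1 (mem_autInducedBy_of_orderOf (hG.to_subgroup ⊤) hF hβ ho)
    refine h3 ?_
    have h5 : c (α ^ m) = MulAut.conj g := by
      ext x
      rw [hc, hg.fn (Subgroup.mem_top x), MulAut.conj_apply]
    rw [Subgroup.mem_comap, h5]
    exact hinn g
  · exact h3 (hodd _ r k ((mp_fn le_rfl hβ).congr fun x _ => hc _ x) hr hr2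
      (by rw [← map_pow, ← ho, pow_orderOf_eq_one, map_one]) (by rw [← map_pow]; exact h4))

/-- An invariant set of at most two central elements is fixed by `Aut_F(G)`. -/
theorem fixes_of_two [Finite G] (hG : IsPGroup 2 G) {F : FusionSystem (⊤ : Subgroup G)} (hF : F.IsSaturated 2)
    {X : Set G} (hX : ∀ w ∈ X, ∀ g, g * w = w * g) (hinv : ∀ f, Mp F ⊤ f → ∀ w ∈ X, f w ∈ X)
    (h2 : ∀ a ∈ X, ∀ b ∈ X, ∀ c ∈ X, a = b ∨ a = c ∨ b = c) {f : G → G} (hf : Mp F ⊤ f) {w : G} (hw : w ∈ X) :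
    f w = w := by
  obtain ⟨θ, hθ⟩ := Mp.exists_top hf
  rw [← hθ]
  refine top_ind hG hF (D := MulAction.stabilizer (MulAut G) w) (fun g => ?_) (fun β r k hβ hr hr2 ho _ => ?_)
    (hf.congr fun x _ => hθ x)
  · show g * w * g⁻¹ = w
    rw [hX w hw, mul_inv_cancel_right]
  · refine mem_of_sq_mem (hr.odd_of_ne_two hr2).pow ho ?_
    show β (β w) = w
    rcases h2 w hw _ (hinv _ hβ w hw) _ (hinv _ hβ _ (hinv _ hβ w hw)) with h3 | h3 | h3
    · rw [← h3, ← h3]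
    · exact h3.symm
    · have h4 := β.injective h3
      rw [← h4, ← h4]

/-- The same for a set invariant under `Aut(G)`. -/
theorem fixes_of_two' [Finite G] (hG : IsPGroup 2 G) {F : FusionSystem (⊤ : Subgroup G)} (hF : F.IsSaturated 2)
    {X : Set G} (hX : ∀ w ∈ X, ∀ g, g * w = w * g) (hinv : ∀ θ : MulAut G, ∀ w ∈ X, θ w ∈ X)
    (h2 : ∀ a ∈ X, ∀ b ∈ X, ∀ c ∈ X, a = b ∨ a = c ∨ b = c) {f : G → G} (hf : Mp F ⊤ f) {w : G} (hw : w ∈ X) :
    f w = w :=
  fixes_of_two hG hF hX (fun f hf w hw => by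
    obtain ⟨θ, hθ⟩ := Mp.exists_top hf
    rw [← hθ]
    exact hinv θ w hw) h2 hf hw

/-! ### existence -/

theorem Loc.stab [Finite G] {P : Subgroup G} {A D : Subgroup (MulAut P)} (h : Loc P A D) {X : Set G}
    (hX : ∀ z ∈ X, ∀ g, g * z = z * g) (hD : ∀ α ∈ A, (∀ z ∈ X, fn α z = z) → α ∈ D) :
    ∃ z ∈ X, ∃ A', A' ≤ A ∧ Loc P A' D ∧ ∀ α ∈ A', fn α z = z → α ∈ D := by
  have := Loc.finAut P
  induction A using WellFoundedLT.induction with
  | ind A ih =>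
  obtain ⟨a, ha, haD⟩ := SetLike.not_le_iff_exists.1 h.ne
  have h1 : ∃ z ∈ X, fn a z ≠ z := by
    by_contra h1
    push Not at h1
    exact haD (hD a ha h1)
  obtain ⟨z, hz, h1⟩ := h1
  have hzP : z ∈ P := h.mem_of_centralizes fun x _ => (hX z hz x).symm
  let A₁ : Subgroup (MulAut P) := A ⊓ MulAction.stabilizer (MulAut P) (⟨z, hzP⟩ : P)
  have hA₁ : ∀ α, α ∈ A₁ ↔ α ∈ A ∧ fn α z = z := fun α => by
    rw [fn_apply α hzP]
    exact and_congr_right fun _ => ⟨fun h3 => congrArg Subtype.val h3, fun h3 => Subtype.ext h3⟩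
  by_cases h3 : A₁ ≤ D
  · exact ⟨z, hz, A, le_rfl, h, fun α hα h4 => h3 ((hA₁ α).2 ⟨hα, h4⟩)⟩
  have h4 : Loc P A₁ D := h.sub (fun γ hγ => by
    obtain ⟨g, hg⟩ := mem_autTop_iff.1 hγ
    refine (hA₁ γ).2 ⟨h.autA hγ, ?_⟩
    rw [hg.fn hzP, hX z hz, mul_inv_cancel_right]) inf_le_left h3
  obtain ⟨w, hw, A', h5, h6⟩ := ih A₁ (lt_of_le_of_ne inf_le_left fun h5 => h1 ((hA₁ a).1 (h5 ▸ ha)).2) h4
    fun α hα => hD α hα.1
  exact ⟨w, hw, A', h5.trans inf_le_left, h6⟩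

theorem Loc.locZ_bot {P : Subgroup G} {A D : Subgroup (MulAut P)} (h : Loc P A D) {z : G}
    (hz : ∀ α ∈ A, fn α z = z → α ∈ D) : LocZ z P ⊥ :=
  ⟨A, D, h, fun α _ h1 => by
    have h2 : α = 1 := by
      ext x
      have h3 := h1 x x.2
      rw [Subgroup.mem_bot, inv_mul_eq_one, fn_apply _ x.2] at h3
      exact h3.symm
    rw [h2]
    exact D.one_mem, hz⟩

/-- **TH2 a**, with the data: `A ≤ Aut_F(P)`.  `X` is any invariant set of central elements, not all trivial. -/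
theorem Hyp.exists_locZ' [Finite G] (hG : IsPGroup 2 G) {F : FusionSystem (⊤ : Subgroup G)} (h : Hyp F) {X : Set G}
    (hX : ∀ z ∈ X, ∀ g, g * z = z * g) (hne : ∃ z ∈ X, z ≠ 1) (hinv : ∀ f, Mp F ⊤ f → ∀ w ∈ X, f w ∈ X) :
    ∃ z ∈ X, ∃ (P : Subgroup G) (A D : Subgroup (MulAut P)), F.IsEssential 2 P ∧ A ≤ F.autGroup P ∧ Loc P A D ∧
      ∀ α ∈ A, fn α z = z → α ∈ D := by
  have : Fact (Nat.Prime 2) := ⟨Nat.prime_two⟩
  have hS : IsPGroup 2 (⊤ : Subgroup G) := hG.to_subgroup ⊤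
  have hWc : ∀ w ∈ Subgroup.closure X, ∀ g, g * w = w * g := fun w hw g =>
    Subgroup.mem_center_iff.1 ((Subgroup.closure_le (Subgroup.center G)).2
      (fun z hz => Subgroup.mem_center_iff.2 (hX z hz)) hw) g
  have hW : ∀ {P : Subgroup G} (α : MulAut P), Subgroup.closure X ≤ P → (∀ z ∈ X, fn α z ∈ X) →
      ∀ w ∈ Subgroup.closure X, fn α w ∈ Subgroup.closure X := fun α hP hα w hw => by
    induction hw using Subgroup.closure_induction with
    | mem x hx => exact Subgroup.subset_closure (hα x hx)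
    | one => rw [fn_map_one]; exact Subgroup.one_mem _
    | mul x y hx hy h1 h2 => rw [fn_map_mul α (hP hx) (hP hy)]; exact Subgroup.mul_mem _ h1 h2
    | inv x hx h1 => rw [fn_map_inv α (hP hx)]; exact Subgroup.inv_mem _ h1
  obtain ⟨z, hz, hz1⟩ := hne
  rcases normal_failure hS h.sat (W := Subgroup.closure X) le_top
    (fun s _ w hw => by rw [hWc w hw s, mul_inv_cancel_right]; exact hw)
    (not_isNormal_of_core h.core fun h1 => hz1 (Subgroup.mem_bot.1 (h1 ▸ Subgroup.subset_closure hz))) with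
    ⟨α, hα, r, k, -, -, -, ⟨w, hw, h1⟩, -⟩ | ⟨-, P, H, hf⟩
  · exact (h1 (hW α le_top (hinv _ (mp_fn le_rfl hα)) w hw)).elim
  · obtain ⟨h1, h2, -, -⟩ := moved_centre hS h.sat (W := Subgroup.closure X) le_top (fun s _ w hw => hWc w hw s) hf
    obtain ⟨w, hw, A', h3, h4, h5⟩ := (hf.loc hG h.sat).stab hX fun α hα h3 =>
      (h2 α).2 ⟨hα, hW α h1 fun z hz => by rw [h3 z hz]; exact hz⟩
    exact ⟨w, hw, P, A', H, hf.ess, h3, h4, h5⟩

/-- **TH2 a.** -/
theorem Hyp.exists_locZ [Finite G] (hG : IsPGroup 2 G) {F : FusionSystem (⊤ : Subgroup G)} (h : Hyp F) {X : Set G}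
    (hX : ∀ z ∈ X, ∀ g, g * z = z * g) (hne : ∃ z ∈ X, z ≠ 1) (hinv : ∀ f, Mp F ⊤ f → ∀ w ∈ X, f w ∈ X) :
    ∃ z ∈ X, ∃ P : Subgroup G, F.IsEssential 2 P ∧ LocZ z P ⊥ := by
  obtain ⟨z, hz, P, A, D, h1, -, h2, h3⟩ := h.exists_locZ' hG hX hne hinv
  exact ⟨z, hz, P, h1, h2.locZ_bot h3⟩

/-- **TH2 a** for a set invariant under `Aut(G)`. -/
theorem Hyp.exists_locZ_char [Finite G] (hG : IsPGroup 2 G) {F : FusionSystem (⊤ : Subgroup G)} (h : Hyp F)
    {X : Set G} (hX : ∀ z ∈ X, ∀ g, g * z = z * g) (hne : ∃ z ∈ X, z ≠ 1)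
    (hinv : ∀ θ : MulAut G, ∀ w ∈ X, θ w ∈ X) : ∃ z ∈ X, ∃ P : Subgroup G, F.IsEssential 2 P ∧ LocZ z P ⊥ :=
  h.exists_locZ hG hX hne fun f hf w hw => by
    obtain ⟨θ, hθ⟩ := Mp.exists_top hf
    rw [← hθ]
    exact hinv θ w hw

/-- Some central involution has a datum of level `0`. -/
theorem Hyp.exists_locZ_inv [Finite G] [Nontrivial G] (hG : IsPGroup 2 G) {F : FusionSystem (⊤ : Subgroup G)}
    (h : Hyp F) : ∃ z : G, z * z = 1 ∧ z ≠ 1 ∧ (∀ y, z * y = y * z) ∧ ∃ P, F.IsEssential 2 P ∧ LocZ z P ⊥ := by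
  obtain ⟨z, hz, hz1⟩ : ∃ z ∈ omZ G, z ≠ 1 := by
    by_contra h1
    push Not at h1
    exact omZ_ne_bot hG ((Subgroup.eq_bot_iff_forall _).2 h1)
  obtain ⟨w, hw, h1⟩ := h.exists_locZ_char hG (X := {w | w * w = 1 ∧ w ≠ 1 ∧ ∀ y, w * y = y * w})
    (fun w hw g => (hw.2.2 g).symm) ⟨z, ⟨hz.1, hz1, fun y => (hz.2 y).symm⟩, hz1⟩ fun θ w hw =>
      ⟨by rw [← map_mul, hw.1, map_one], fun h1 => hw.2.1 (θ.injective (h1.trans (map_one θ).symm)), fun y => by
        rw [← θ.apply_symm_apply y, ← map_mul, hw.2.2, map_mul]⟩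
  exact ⟨w, hw.1, hw.2.1, hw.2.2, h1⟩

/-! ### the shape -/

/-- The shape of a datum of level `0`: `v = α z`, `u = α v`. -/
structure Shape (P : Subgroup G) (z t : G) (α : MulAut P) : Prop where
  zP : z ∈ P
  cen : ∀ g, g * fn α z = fn α z * g ↔ g ∈ P
  cen2 : ∀ g, g * fn α (fn α z) = fn α (fn α z) * g ↔ g ∈ P
  inv : fn α (t * fn α z * t⁻¹) = z
  alt : (fn α (fn α z) = t * fn α z * t⁻¹ ∧ fn α (z * fn α z) = fn α z * (t * fn α z * t⁻¹)) ∨
    (fn α (fn α z) ≠ fn α z ∧ fn α (fn α z) ≠ t * fn α z * t⁻¹ ∧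
      t * (fn α z * fn α (fn α z)) ≠ fn α z * fn α (fn α z) * t ∧
      ∃ β : MulAut P, fn β z = t * fn α (fn α z) * t⁻¹)

/-- **TH2 b.** -/
theorem Loc.shape [Finite G] {P : Subgroup G} {A D : Subgroup (MulAut P)} (h : Loc P A D) {z : G}
    (hzc : ∀ g, g * z = z * g) (hz2 : z * z = 1) (hz : ∀ α ∈ A, fn α z = z → α ∈ D) {t : G}
    (htN : ∀ x ∈ P, t * x * t⁻¹ ∈ P) (htP : t ∉ P) (htt : t * t ∈ P) :
    ∃ α ∈ A, α ∉ D ∧ (∃ n, Odd n ∧ α ^ n = 1) ∧ Shape P z t α := by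
  obtain ⟨y, hy, r, α, hd⟩ := h.exists_dih htN htP htt
  obtain ⟨k, hk⟩ := hd.ord
  have hodd : Odd (r ^ k) := (hd.prime.odd_of_ne_two hd.ne_two).pow
  have hzP : z ∈ P := h.mem_of_centralizes fun x _ => (hzc x).symm
  obtain ⟨τ, hτ⟩ := exists_cj hd.tN
  let z' : P := ⟨z, hzP⟩
  have hc : ∀ (β : MulAut P) (x : P), x * β z' = β z' * x := fun β x => by
    have h1 : β.symm x * z' = z' * β.symm x := Subtype.ext (hzc _)
    have h2 := congrArg β h1
    rwa [map_mul, map_mul, β.apply_symm_apply] at h2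
  have hτz : τ z' = z' := Subtype.ext (by rw [hτ, hzc, mul_inv_cancel_right])
  have hατ : ∀ x, α (τ (α x)) = τ x := fun x => by
    have h1 := hd.inv x x.2
    rw [fn_apply α x.2, ← hτ, fn_apply α (Subtype.prop _), ← hτ] at h1
    exact Subtype.ext h1
  -- conjugation by `t` on the central elements
  obtain ⟨σ, hσ⟩ := exists_cj htN
  have hστ : ∀ β : MulAut P, ((τ (β z') : P) : G) = t * (β z' : P) * t⁻¹ := fun β => by
    have h1 := congrArg Subtype.val (hc (σ * β) ⟨y, hy⟩)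
    simp only [Subgroup.coe_mul, MulAut.mul_apply] at h1
    rw [hσ] at h1
    rw [hτ, mul_inv_rev, mul_assoc y, mul_assoc y, ← mul_assoc (t * _), ← mul_assoc y, h1, mul_inv_cancel_right]
  have e1 : fn α z = (α z' : P) := fn_apply α hzP
  have e2 : fn α (fn α z) = (α (α z') : P) := by rw [e1, fn_apply α (Subtype.prop _)]
  have i1 : α (τ (α z')) = z' := by rw [hατ, hτz]
  have i2 : α (τ (α (α z'))) = τ (α z') := hατ _
  have hαα : α * α ∉ D := fun h1 => hd.notMem (mem_of_sq_mem hodd hk h1)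
  have hs : ∀ β : MulAut P, β ∈ MulAction.stabilizer (MulAut P) z' ↔ β z' = z' := fun β => Iff.rfl
  have hne : α z' ≠ z' := fun h1 => hd.notMem (hz α hd.mem (by rw [e1, h1]))
  refine ⟨α, hd.mem, hd.notMem, ⟨_, hodd, hk⟩, hzP, h.cent_of_stab hzc hz hd.mem hd.notMem, fun g => ?_, ?_, ?_⟩
  · rw [← fn_mul _ _ hzP]
    exact h.cent_of_stab hzc hz (A.mul_mem hd.mem hd.mem) hαα g
  · rw [e1, ← hστ, fn_apply α (Subtype.prop _)]
    exact congrArg Subtype.val i1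
  by_cases h3 : α (α z') = τ (α z')
  · left
    have h4 : fn α (fn α z) = t * fn α z * t⁻¹ := by rw [e2, e1, ← hστ, h3]
    exact ⟨h4, by rw [fn_map_mul α hzP (fn_mem α hzP), h4]⟩
  right
  refine ⟨fun h4 => ?_, fun h4 => h3 ?_, fun h4 => h3 ?_, τ * (α * α), ?_⟩
  · rw [e2, e1] at h4
    exact hne (α.injective (Subtype.ext h4))
  · rw [e2, e1, ← hστ] at h4
    exact Subtype.ext h4
  · have h5 : τ (α z') * τ (α (α z')) = α z' * α (α z') := by
      apply Subtype.ext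
      have h6 : ((τ (α (α z')) : P) : G) = t * (α (α z') : P) * t⁻¹ := hστ (α * α)
      rw [Subgroup.coe_mul, Subgroup.coe_mul, hστ, h6, ← e2, ← e1]
      calc t * fn α z * t⁻¹ * (t * fn α (fn α z) * t⁻¹) = t * (fn α z * fn α (fn α z)) * t⁻¹ := by group
        _ = _ := by rw [h4, mul_inv_cancel_right]
    have hz2' : ∀ β : MulAut P, β z' * β z' = 1 := fun β => by
      rw [← map_mul, show z' * z' = 1 from Subtype.ext hz2, map_one]
    -- apply `α` twice and three times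
    have h6 : α z' * z' = α (α (α z')) * α (α (α (α z'))) := by
      have h7 := congrArg (fun x => α (α x)) h5
      simp only [map_mul] at h7
      rwa [i1, i2, i1] at h7
    set a1 := α z' with ha1
    set a3 := α (α a1) with ha3
    have h7 : α (z' * a3) = z' * a3 := by
      have h8 : a3 * a3 = 1 := hz2' (α * α * α)
      have h9 : z' * z' = 1 := hz2' 1
      have h10 : α a3 = a3 * (a1 * z') := by rw [h6, ← mul_assoc, h8, one_mul]
      have h11 : a1 * a1 = 1 := hz2' α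
      have h12 : a3 * a1 = a1 * a3 := hc α a3
      rw [map_mul, ← ha1, h10, ← mul_assoc, ← h12, mul_assoc, ← mul_assoc a1, h11, one_mul]
      exact hc 1 a3
    have h8 : (α * α * α) * (α * α * α) ∈ MulAction.stabilizer (MulAut P) z' := by
      rw [hs]
      show α (α (α a3)) = z'
      have h9 : z' * z' = 1 := hz2' 1
      have h10 : a3 = z' * (z' * a3) := by rw [← mul_assoc, h9, one_mul]
      have h11 : a3 * a3 = 1 := hz2' (α * α * α)
      rw [h10, map_mul, h7, map_mul, h7, map_mul, h7, ← ha1, ← ha3, ← mul_assoc, show a3 * z' = z' * a3 from hc 1 a3,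
        mul_assoc, h11, mul_one]
    have h9 := (hs _).1 (mem_of_sq_mem hodd (by
      rw [← pow_three', ← pow_mul, mul_comm, pow_mul, hk, one_pow]) h8)
    apply α.injective
    rw [i1]
    exact h9
  · rw [fn_apply _ hzP, e2]
    exact hστ (α * α)

theorem LocZ.shape [Finite G] {P M : Subgroup G} {z : G} (h : LocZ z P M) (hzc : ∀ g, g * z = z * g) (hz2 : z * z = 1)
    {t : G} (htN : ∀ x ∈ P, t * x * t⁻¹ ∈ P) (htP : t ∉ P) (htt : t * t ∈ P) : ∃ α : MulAut P, Shape P z t α := by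
  obtain ⟨A, D, h1, -, h2⟩ := h
  obtain ⟨α, -, -, -, h3⟩ := h1.shape hzc hz2 h2 htN htP htt
  exact ⟨α, h3⟩

theorem LocZ.exists_shape [Finite G] {P M : Subgroup G} {z : G} (h : LocZ z P M) (hzc : ∀ g, g * z = z * g)
    (hz2 : z * z = 1) :
    ∃ t, (∀ x ∈ P, t * x * t⁻¹ ∈ P) ∧ t ∉ P ∧ t * t ∈ P ∧ ∃ α : MulAut P, Shape P z t α := by
  obtain ⟨A, D, h1, h2⟩ := id h
  obtain ⟨t, h3, h4, h5⟩ := h1.exists_sq
  exact ⟨t, h3, h4, h5, h.shape hzc hz2 h3 h4 h5⟩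

end Cfsg.Agent.FS.Th
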