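import Cfsg.Agent.FS.Sw.Box
import Cfsg.Agent.FS.Th.Shape

/-!
# G2: `|N(P) : P| ≥ 8` needs a section of rank at least `6` (helper83, project FS)
-/

set_option autoImplicit false

namespace Cfsg.Agent.FS.Th

open Cfsg Cfsg.FusionSystem Cfsg.Agent.H802 Cfsg.Agent.H752

universe u v

section abstract

variable {A V : Type*} [Group A] [CommGroup V]

/-- `x ↦ x * τ x` -/
def cm (τ : MulAut V) : V →* V := MonoidHom.mk' (fun x => x * τ x) fun x y => by
  rw [map_mul, mul_mul_mul_comm]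

theorem cm_apply (τ : MulAut V) (x : V) : cm τ x = x * τ x := rfl

theorem mem_ker_cm (hV : ∀ x : V, x * x = 1) (τ : MulAut V) (x : V) : x ∈ (cm τ).ker ↔ τ x = x := by
  rw [MonoidHom.mem_ker, cm_apply]
  constructor
  · intro h
    exact mul_left_cancel (h.trans (hV x).symm)
  · intro h
    rw [h, hV]

theorem range_le_ker_cm (hV : ∀ x : V, x * x = 1) {τ : MulAut V} (h2 : τ * τ = 1) : (cm τ).range ≤ (cm τ).ker := by
  rintro _ ⟨x, rfl⟩
  rw [mem_ker_cm hV, cm_apply, map_mul, ← MulAut.mul_apply, h2, MulAut.one_apply, mul_comm]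

theorem card_cm (τ : MulAut V) : Nat.card V = Nat.card (cm τ).range * Nat.card (cm τ).ker := by
  rw [Subgroup.card_eq_card_quotient_mul_card_subgroup (cm τ).ker,
    Nat.card_congr (QuotientGroup.quotientKerEquivRange (cm τ)).toEquiv]

theorem card_range_cm [Finite V] (hV : ∀ x : V, x * x = 1) (hc : Nat.card V ≤ 32) {τ : MulAut V} (h2 : τ * τ = 1)
    (hnt : ∀ v, ¬ ∀ x, τ x = x ∨ τ x = x * v) : Nat.card (cm τ).range = 4 := by
  have : Fact (Nat.Prime 2) := ⟨Nat.prime_two⟩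
  have hp : IsPGroup 2 V := fun x => ⟨1, by rw [pow_one, pow_two, hV]⟩
  obtain ⟨k, hk⟩ := IsPGroup.iff_card.1 (hp.to_subgroup (cm τ).range)
  have h1 : Nat.card (cm τ).range ≤ Nat.card (cm τ).ker := Subgroup.card_le_of_le (range_le_ker_cm hV h2)
  have h3 := card_cm τ
  have h4 : Nat.card (cm τ).range * Nat.card (cm τ).range ≤ 32 :=
    (Nat.mul_le_mul_left _ h1).trans (h3 ▸ hc)
  have key : ∀ x, τ x = x * cm τ x := fun x => by rw [cm_apply, ← mul_assoc, hV, one_mul]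
  have h5 : 2 < Nat.card (cm τ).range := by
    obtain ⟨x, hx⟩ := not_forall.1 (hnt 1)
    obtain ⟨y, hy⟩ := not_forall.1 (hnt (cm τ x))
    have := Fintype.ofFinite (cm τ).range
    rw [Nat.card_eq_fintype_card, Fintype.two_lt_card_iff]
    refine ⟨1, ⟨_, x, rfl⟩, ⟨_, y, rfl⟩, fun e => hx (Or.inl ?_), fun e => hy (Or.inl ?_), fun e => hy (Or.inr ?_)⟩
    · have e1 : 1 = cm τ x := congrArg Subtype.val e
      rw [key, ← e1, mul_one]
    · have e1 : 1 = cm τ y := congrArg Subtype.val e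
      rw [key, ← e1, mul_one]
    · have e1 : cm τ x = cm τ y := congrArg Subtype.val e
      rw [key, ← e1]
  rw [hk] at h4 h5 ⊢
  have h6 : k < 3 := by
    by_contra h6
    have h7 : 2 ^ 3 ≤ 2 ^ k := Nat.pow_le_pow_right (by norm_num) (by omega)
    have h8 := Nat.mul_le_mul h7 h7
    omega
  interval_cases k <;> simp_all

theorem four_cases [Finite V] (hV : ∀ x : V, x * x = 1) {U : Subgroup V} (h4 : Nat.card U = 4) {e : V} (he : e ∈ U)
    (he1 : e ≠ 1) : ∃ e' : V, ∀ c ∈ U, c = 1 ∨ c = e ∨ c = e' ∨ c = e * e' := by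
  classical
  have hU : (U : Set V).ncard = 4 := by rw [← h4]; rfl
  obtain ⟨e', he', h1⟩ : ∃ e' ∈ (U : Set V), e' ∉ ({1, e} : Set V) :=
    Set.exists_mem_notMem_of_ncard_lt_ncard (by
      have := Set.ncard_insert_le (1 : V) {e}
      rw [Set.ncard_singleton] at this
      omega)
  simp only [Set.mem_insert_iff, Set.mem_singleton_iff, not_or] at h1
  refine ⟨e', fun c hc => ?_⟩
  have h2 : ({1, e, e', e * e'} : Set V) ⊆ U := by
    intro x hx
    simp only [Set.mem_insert_iff, Set.mem_singleton_iff] at hx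
    rcases hx with rfl | rfl | rfl | rfl
    exacts [U.one_mem, he, he', U.mul_mem he he']
  have h3 : ({1, e, e', e * e'} : Set V).ncard = 4 := by
    rw [Set.ncard_eq_four]
    refine ⟨1, e, e', e * e', he1.symm, Ne.symm h1.1, fun h => h1.2 ?_, Ne.symm h1.2, fun h => h1.1 ?_,
      fun h => he1 ?_, rfl⟩
    · exact mul_left_cancel (h.symm.trans (hV e).symm)
    · exact (left_eq_mul.1 h)
    · exact (right_eq_mul.1 h)
  have h5 := Set.eq_of_subset_of_ncard_le h2 (by rw [hU, h3])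
  have h6 : c ∈ ({1, e, e', e * e'} : Set V) := h5 ▸ hc
  simpa only [Set.mem_insert_iff, Set.mem_singleton_iff] using h6

/-- `x` fixes only the block `D`. -/
def Fr (D : Subgroup A) (x : A) : Prop := ∀ a, a * x * a⁻¹ ∈ D → a ∈ D

/-- NT for the stabilizer of `e` on `V / ⟨e⟩`. -/
theorem nt_mod (ρ : A →* MulAut V) (hV : ∀ x : V, x * x = 1) (D : Subgroup A) {τ h b : A} (hτ2 : ρ τ * ρ τ = 1)
    (hhD : h ∈ D) (hh : Fr D h⁻¹) (hhτ : Fr D (h⁻¹ * τ))
    (hodd : ∀ a ∉ D, ∃ m n : ℕ, Odd n ∧ (τ * (a * τ * a⁻¹)) ^ m ∉ D ∧ ((τ * (a * τ * a⁻¹)) ^ m) ^ n = 1)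
    (hker : ∀ a, ρ a = 1 → a ∈ D) {e e' : V} (hτe : ρ τ e = e) (hhe : ρ h e = e) (hbe : ρ b e = e)
    (htv : ∀ x, cm (ρ τ) x = 1 ∨ cm (ρ τ) x = e ∨ cm (ρ τ) x = e' ∨ cm (ρ τ) x = e * e') : b ∈ D := by
  by_contra hb
  let E : Subgroup V := Subgroup.zpowers e
  have hE : ∀ x ∈ E, x = 1 ∨ x = e := fun x hx => by
    obtain ⟨k, rfl⟩ := hx
    have h2 : e ^ (2 : ℤ) = 1 := by rw [zpow_two, hV]
    rcases Int.even_or_odd' k with ⟨j, rfl | rfl⟩
    · left
      show e ^ (2 * j) = 1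
      rw [zpow_mul, h2, one_zpow]
    · right
      show e ^ (2 * j + 1) = e
      rw [zpow_add, zpow_mul, h2, one_zpow, one_mul, zpow_one]
  let S : Subgroup (MulAut V) := MulAction.stabilizer (MulAut V) e
  obtain ⟨ρ₁, hρ₁⟩ := exists_descAut (QuotientGroup.mk' E) (QuotientGroup.mk'_surjective _) S fun α hα x hx => by
    have h1 : α e = e := hα
    rcases hE x ((QuotientGroup.eq_one_iff x).1 hx) with rfl | rfl
    · rw [map_one, map_one]
    · rw [h1]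
      exact hx
  let B : Subgroup A := S.comap ρ
  let ρ₂ : B →* MulAut (V ⧸ E) := ρ₁.comp (ρ.subgroupComap S)
  have hρ₂ : ∀ (a : B) (x : V), ρ₂ a (QuotientGroup.mk' E x) = QuotientGroup.mk' E (ρ a x) := fun a x => hρ₁ _ x
  have he1 : QuotientGroup.mk' E e = 1 := (QuotientGroup.eq_one_iff e).2 (Subgroup.mem_zpowers e)
  have hτB : τ ∈ B := hτe
  have hhB : h ∈ B := hhe
  have hbB : b ∈ B := hbe
  refine nt_abstract ρ₂ (fun x => ?_) (D.subgroupOf B) (τ := ⟨τ, hτB⟩) (h := ⟨h, hhB⟩) (a₀ := ⟨b, hbB⟩)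
    (v := QuotientGroup.mk' E e') ?_ (fun x => ?_) (fun a ha => ?_) (fun a ha he => ?_) ?_ ?_ ?_ hb
  · obtain ⟨y, rfl⟩ := QuotientGroup.mk'_surjective E x
    rw [← map_mul, hV, map_one]
  · ext x
    obtain ⟨y, rfl⟩ := QuotientGroup.mk'_surjective E x
    rw [MulAut.mul_apply, hρ₂, hρ₂, ← MulAut.mul_apply, hτ2]
    rfl
  · obtain ⟨y, rfl⟩ := QuotientGroup.mk'_surjective E x
    have key : ρ τ y = y * cm (ρ τ) y := by rw [cm_apply, ← mul_assoc, hV, one_mul]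
    rw [hρ₂, key, map_mul]
    rcases htv y with e1 | e1 | e1 | e1 <;> rw [e1]
    · exact Or.inl (by rw [map_one, mul_one])
    · exact Or.inl (by rw [he1, mul_one])
    · exact Or.inr rfl
    · exact Or.inr (by rw [map_mul, he1, one_mul])
  · obtain ⟨m, n, hn, h1, h2⟩ := hodd a ha
    exact ⟨m, n, hn, h1, Subtype.ext h2⟩
  · obtain ⟨m, n, hn, h1, h2⟩ := hodd a ha
    set ν : B := ⟨τ, hτB⟩ * (a * ⟨τ, hτB⟩ * a⁻¹) with hν
    have h3 : ρ₂ ν = 1 := by
      rw [hν, map_mul, he]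
      ext x
      obtain ⟨y, rfl⟩ := QuotientGroup.mk'_surjective E x
      rw [MulAut.mul_apply, hρ₂, hρ₂, ← MulAut.mul_apply, hτ2]
      rfl
    have h4 : ρ ν e = e := ν.2
    have h5 : ρ ν ^ 2 = 1 := by
      ext x
      have h6 := hρ₂ ν x
      rw [h3, MulAut.one_apply] at h6
      have h7 := hE _ (QuotientGroup.eq.1 h6)
      rw [pow_two, MulAut.mul_apply, MulAut.one_apply]
      rcases h7 with h7 | h7
      · have h8 : ρ ν x = x := (inv_mul_eq_one.1 h7).symm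
        rw [h8, h8]
      · have h8 : ρ ν x = x * e := by rw [← h7, mul_inv_cancel_left]
        rw [h8, map_mul, h8, h4, mul_assoc, hV, mul_one]
    have h6 : ρ ((ν : A) ^ m) ^ 2 = 1 := by rw [map_pow, ← pow_mul, mul_comm, pow_mul, h5, one_pow]
    have h7 : ρ ((ν : A) ^ m) ^ n = 1 := by
      rw [← map_pow]
      exact (congrArg ρ h2).trans (map_one ρ)
    refine h1 (hker _ ?_)
    show ρ ((ν : A) ^ m) = 1
    rw [← orderOf_eq_one_iff]
    exact Nat.eq_one_of_dvd_coprimes (Nat.coprime_two_left.2 hn) (orderOf_dvd_of_pow_eq_one h6)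
      (orderOf_dvd_of_pow_eq_one h7)
  · intro h1
    have h2 : (h * b)⁻¹ ∈ D := h1
    exact hb ((D.mul_mem_cancel_left hhD).1 ((D.inv_mem_iff).1 h2))
  · intro h1
    have h2 : (h * b)⁻¹ * b ∈ D := h1
    refine hb ((D.inv_mem_iff).1 (hh b⁻¹ ?_))
    rwa [mul_inv_rev, ← inv_inv b, inv_inv b⁻¹] at h2
  · intro h1
    have h2 : (h * b)⁻¹ * (τ * b) ∈ D := h1
    refine hb ((D.inv_mem_iff).1 (hhτ b⁻¹ ?_))
    have h3 : b⁻¹ * (h⁻¹ * τ) * b⁻¹⁻¹ = (h * b)⁻¹ * (τ * b) := by group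
    rwa [h3]

/-- The abstract G2 argument. -/
theorem g2_abstract [Finite V] (ρ : A →* MulAut V) (hV : ∀ x : V, x * x = 1) (hc : Nat.card V ≤ 32)
    (D : Subgroup A) {τ a₀ : A} (g : Fin 8 → A) (hτ2 : ρ τ * ρ τ = 1) (hgD : ∀ i, g i ∈ D)
    (hcen : ∀ i, ρ (g i) * ρ τ = ρ τ * ρ (g i)) (hτ : Fr D τ) (hg : ∀ i j, i ≠ j → Fr D ((g i)⁻¹ * g j))
    (h3 : ∀ i j k, j ≠ k → Fr D (((g i)⁻¹ * g j)⁻¹ * τ) ∨ Fr D (((g i)⁻¹ * g k)⁻¹ * τ))
    (hodd : ∀ a ∉ D, ∃ m n : ℕ, Odd n ∧ (τ * (a * τ * a⁻¹)) ^ m ∉ D ∧ ((τ * (a * τ * a⁻¹)) ^ m) ^ n = 1)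
    (hker : ∀ a, ρ a = 1 → a ∈ D) (ha : a₀ ∉ D) : False := by
  classical
  -- a stabilizer lemma for `e` with three of the `g i` agreeing on `e`
  have hst : ∀ (e e' : V) (b : A), ρ τ e = e → ρ b e = e →
      (∀ x, cm (ρ τ) x = 1 ∨ cm (ρ τ) x = e ∨ cm (ρ τ) x = e' ∨ cm (ρ τ) x = e * e') →
      ∀ i j k, i ≠ j → i ≠ k → j ≠ k → ρ (g i) e = ρ (g j) e → ρ (g i) e = ρ (g k) e → b ∈ D := by
    intro e e' b h1 h2 h4 i j k hij hik hjk e1 e2
    have f : ∀ j, i ≠ j → ρ (g i) e = ρ (g j) e → Fr D (((g i)⁻¹ * g j)⁻¹ * τ) → b ∈ D := fun j hij e1 hf =>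
      nt_mod ρ hV D (h := (g i)⁻¹ * g j) hτ2 (D.mul_mem (D.inv_mem (hgD i)) (hgD j))
        (by rw [mul_inv_rev, inv_inv]; exact hg j i hij.symm) hf hodd hker h1
        (by rw [map_mul, map_inv, MulAut.mul_apply, ← e1, MulAut.inv_apply_self]) h2 h4
    rcases h3 i j k hjk with h5 | h5
    exacts [f j hij e1 h5, f k hik e2 h5]
  have hnt : ∀ v, ¬ ∀ x, ρ τ x = x ∨ ρ τ x = x * v := fun v hv =>
    ha (hst 1 v a₀ (map_one _) (map_one _) (fun x => by
      rcases hv x with e | e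
      · left
        rw [cm_apply, e, hV]
      · right; right; left
        rw [cm_apply, e, ← mul_assoc, hV, one_mul]) 0 1 2 (by decide) (by decide) (by decide)
      (by rw [map_one, map_one]) (by rw [map_one, map_one]))
  set U := (cm (ρ τ)).range with hU
  set C := (cm (ρ τ)).ker with hC
  have h4 : Nat.card U = 4 := card_range_cm hV hc hτ2 hnt
  have hUC : U ≤ C := range_le_ker_cm hV hτ2
  have hCm : ∀ x, x ∈ C ↔ ρ τ x = x := mem_ker_cm hV _
  let W := {e : V // e ∈ (U : Set V) \ {1}}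
  have hW : Nat.card W = 3 := by
    have h5 : ((U : Set V) \ {1}).ncard = (U : Set V).ncard - 1 := Set.ncard_sdiff_singleton_of_mem U.one_mem
    have h6 : (U : Set V).ncard = 4 := by rw [← h4]; rfl
    rw [h6] at h5
    exact h5
  have hgU : ∀ i, ∀ e ∈ U, ρ (g i) e ∈ U := by
    rintro i _ ⟨x, rfl⟩
    refine ⟨ρ (g i) x, ?_⟩
    rw [cm_apply, cm_apply, map_mul, ← MulAut.mul_apply _ (ρ τ), ← hcen, MulAut.mul_apply]
  -- the stabilizers of the elements of `U` lie in `D`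
  have hS : ∀ e : W, ∀ b, ρ b e = e → b ∈ D := by
    rintro ⟨e, he, he1⟩ b hb
    obtain ⟨e', he'⟩ := four_cases hV h4 he he1
    have := Fintype.ofFinite W
    obtain ⟨y, hy⟩ := Fintype.exists_lt_card_fiber_of_mul_lt_card (n := 2)
      (fun i : Fin 8 => (⟨ρ (g i) e, hgU i e he, fun h => he1 ((ρ (g i)).injective (h.trans (map_one _).symm))⟩ : W))
      (by rw [← Nat.card_eq_fintype_card, hW]; decide)
    obtain ⟨i, hi, j, hj, k, hk, hij, hik, hjk⟩ := Finset.two_lt_card.1 hy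
    simp only [Finset.mem_filter, Finset.mem_univ, true_and] at hi hj hk
    exact hst e e' b ((hCm e).1 (hUC he)) hb (fun x => he' _ ⟨x, rfl⟩) i j k hij hik hjk
      (congrArg Subtype.val (hi.trans hj.symm)) (congrArg Subtype.val (hi.trans hk.symm))
  have hD : ∀ (e : W) (a : A), ρ a e ∈ C → a ∈ D := fun e a h => by
    refine (D.inv_mem_iff).1 (hτ a⁻¹ (hS e _ ?_))
    rw [inv_inv, map_mul, map_mul, MulAut.mul_apply, MulAut.mul_apply, (hCm _).1 h, map_inv, MulAut.inv_apply_self]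
  have hblock : ∀ (i j : Fin 8) (e : W), ∀ c ∈ C, ρ (g i * a₀) e = ρ (g j * a₀) c → i = j := by
    intro i j e c hc' h
    by_contra hij
    have h5 := hD e ((g j * a₀)⁻¹ * (g i * a₀)) (by
      rw [map_mul, MulAut.mul_apply, h, map_inv, MulAut.inv_apply_self]
      exact hc')
    refine ha ((D.inv_mem_iff).1 (hg j i (Ne.symm hij) a₀⁻¹ ?_))
    have h6 : a₀⁻¹ * ((g j)⁻¹ * g i) * a₀⁻¹⁻¹ = (g j * a₀)⁻¹ * (g i * a₀) := by group
    rwa [h6]
  have hga : ∀ i, g i * a₀ ∉ D := fun i h => ha ((D.mul_mem_cancel_left (hgD i)).1 h)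
  let f : (Fin 8 × W) ⊕ C → V := Sum.elim (fun p => ρ (g p.1 * a₀) p.2) (fun c => c)
  have hf : Function.Injective f := by
    rintro (⟨i, e⟩ | c) (⟨j, e'⟩ | c') h
    · have h5 : ρ (g i * a₀) e = ρ (g j * a₀) e' := h
      obtain rfl := hblock i j e e' (hUC e'.2.1) h5
      rw [Subtype.ext ((ρ _).injective h5)]
    · have h5 : ρ (g i * a₀) e = c' := h
      exact (hga i (hD e _ (h5 ▸ c'.2))).elim
    · have h5 : (c : V) = ρ (g j * a₀) e' := h
      exact (hga j (hD e' _ (h5 ▸ c.2))).elim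
    · exact congrArg Sum.inr (Subtype.ext h)
  have hcard : Nat.card ((Fin 8 × W) ⊕ C) = 24 + Nat.card C := by
    rw [Nat.card_sum, Nat.card_prod, hW, Nat.card_fin]
  have h5 := Nat.card_le_card_of_injective f hf
  have h6 : Nat.card V = 4 * Nat.card C := by rw [← h4]; exact card_cm _
  have hsurj := (hf.bijective_of_nat_card_le (by omega)).2
  have h7 : ∀ c ∈ C, c ∉ U → ρ (g 0 * a₀) c ∈ C := fun c hc' hcU => by
    obtain ⟨⟨j, e⟩ | c', h⟩ := hsurj (ρ (g 0 * a₀) c)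
    · have h8 : ρ (g j * a₀) e = ρ (g 0 * a₀) c := h
      obtain rfl := hblock j 0 e c hc' h8
      exact (hcU ((ρ _).injective h8 ▸ e.2.1)).elim
    · have h8 : (c' : V) = ρ (g 0 * a₀) c := h
      exact h8 ▸ c'.2
  obtain ⟨c, hc', hcU⟩ : ∃ c ∈ C, c ∉ U := by
    by_contra h8
    push Not at h8
    have h9 : Nat.card C ≤ Nat.card U := Subgroup.card_le_of_le h8
    omega
  obtain ⟨e⟩ : Nonempty W := (Nat.card_pos_iff.1 (by omega)).1
  have h8 := h7 (c * e) (C.mul_mem hc' (hUC e.2.1)) fun h => hcU ((U.mul_mem_cancel_right e.2.1).1 h)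
  rw [map_mul] at h8
  exact hga 0 (hD e _ ((C.mul_mem_cancel_left (h7 c hc' hcU)).1 h8))

end abstract

variable {G : Type u} [Group G] [Finite G] {P : Subgroup G} {A D : Subgroup (MulAut P)}

/-- A central involution of `N(P) / P` and eight coset representatives. -/
theorem exists_eight (hG : IsPGroup 2 G) (h8 : 8 * Nat.card P ≤ Nat.card (Subgroup.normalizer (P : Set G))) :
    ∃ (t : G) (g : Fin 8 → G), (∀ x ∈ P, t * x * t⁻¹ ∈ P) ∧ t ∉ P ∧ t * t ∈ P ∧ (∀ i, ∀ x ∈ P, g i * x * (g i)⁻¹ ∈ P) ∧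
      (∀ i j, i ≠ j → (g i)⁻¹ * g j ∉ P) ∧ ∀ i, g i * t * (t * g i)⁻¹ ∈ P := by
  have : Fact (Nat.Prime 2) := ⟨Nat.prime_two⟩
  set N := Subgroup.normalizer (P : Set G) with hN
  have hn : (P.subgroupOf N).Normal := Subgroup.normal_in_normalizer
  have h1 : Nat.card N = Nat.card (N ⧸ P.subgroupOf N) * Nat.card P := by
    rw [Subgroup.card_eq_card_quotient_mul_card_subgroup (P.subgroupOf N),
      Nat.card_congr (Subgroup.subgroupOfEquivOfLe Subgroup.le_normalizer).toEquiv]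
  have h2 : 8 ≤ Nat.card (N ⧸ P.subgroupOf N) := Nat.le_of_mul_le_mul_right (h1 ▸ h8) Nat.card_pos
  have hQ : IsPGroup 2 (N ⧸ P.subgroupOf N) := (hG.to_subgroup N).to_quotient _
  have hnt : Nontrivial (N ⧸ P.subgroupOf N) := Finite.one_lt_card_iff_nontrivial.1 (by omega)
  have hZ := hQ.center_nontrivial
  obtain ⟨k, hk0, hk⟩ := (hQ.to_subgroup (Subgroup.center _)).nontrivial_iff_card.1 hZ
  obtain ⟨c, hc⟩ := exists_prime_orderOf_dvd_card' (G := Subgroup.center (N ⧸ P.subgroupOf N)) 2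
    (hk ▸ dvd_pow_self 2 hk0.ne')
  obtain ⟨t, ht⟩ := QuotientGroup.mk'_surjective (P.subgroupOf N) c
  have := Fintype.ofFinite (N ⧸ P.subgroupOf N)
  obtain ⟨f⟩ : Nonempty (Fin 8 ↪ N ⧸ P.subgroupOf N) :=
    Function.Embedding.nonempty_of_card_le (by rwa [Fintype.card_fin, ← Nat.card_eq_fintype_card])
  choose g hg using fun i => QuotientGroup.mk'_surjective (P.subgroupOf N) (f i)
  have hm : ∀ y : N, ∀ x ∈ P, (y : G) * x * (y : G)⁻¹ ∈ P := fun y x hx => (Subgroup.mem_normalizer_iff.1 y.2 x).1 hx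
  refine ⟨t, fun i => g i, hm t, fun h => ?_, ?_, fun i => hm (g i), fun i j hij h => hij (f.injective ?_), fun i => ?_⟩
  · have h3 : c = 1 := Subtype.ext (ht.symm.trans ((QuotientGroup.eq_one_iff t).2 h))
    rw [h3, orderOf_one] at hc
    omega
  · have h3 : c * c = 1 := by rw [← pow_two, ← hc, pow_orderOf_eq_one]
    have h4 : QuotientGroup.mk' (P.subgroupOf N) (t * t) = 1 := by
      rw [map_mul, ht]
      exact congrArg Subtype.val h3
    exact (QuotientGroup.eq_one_iff (t * t)).1 h4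
  · rw [← hg, ← hg]
    exact QuotientGroup.eq.2 h
  · have h4 : QuotientGroup.mk' (P.subgroupOf N) (g i * t * (t * g i)⁻¹) = 1 := by
      rw [map_mul, map_inv, map_mul, map_mul, ht, Subgroup.mem_center_iff.1 c.2, mul_inv_cancel]
    exact (QuotientGroup.eq_one_iff (g i * t * (t * g i)⁻¹)).1 h4

namespace Loc

/-- **G2** for an abstract `A`-module `V` on which `P` acts trivially and whose kernel lies in `D`. -/
theorem g2_module (h : Loc P A D) {V : Type*} [Group V] [Finite V] (ρ : A →* MulAut V) (hV : ∀ x : V, x * x = 1)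
    (hc : Nat.card V ≤ 32) (hinn : ∀ (y : P) (hy : MulAut.conj y ∈ A), ρ ⟨_, hy⟩ = 1)
    (hker : ∀ a : A, ρ a = 1 → a.1 ∈ D) (h8 : 8 * Nat.card P ≤ Nat.card (Subgroup.normalizer (P : Set G))) :
    False := by
  have hcomm : ∀ x y : V, x * y = y * x := fun x y => by
    have e1 : (x * y)⁻¹ = x * y := inv_eq_of_mul_eq_one_right (hV _)
    rw [← e1, mul_inv_rev, inv_eq_of_mul_eq_one_right (hV x), inv_eq_of_mul_eq_one_right (hV y)]
  obtain ⟨t, g, htN, htP, htt, hgN, hgP, hgt⟩ := exists_eight h.pg h8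
  obtain ⟨a, ha, haD⟩ := SetLike.not_le_iff_exists.1 h.ne
  obtain ⟨τ, hτ⟩ := exists_cj htN
  choose γ hγ using fun i => exists_cj (hgN i)
  have hone : ∀ (y : G) (β : A), y ∈ P → Cj y β.1 → ρ β = 1 := fun y β hy hβ => by
    have e : β.1 = MulAut.conj (⟨y, hy⟩ : P) := hβ.unique (cj_conj ⟨y, hy⟩)
    rw [← hinn ⟨y, hy⟩ (e ▸ β.2)]
    congr 1
    exact Subtype.ext e
  have hfr : ∀ (y : G) (β : A), y ∉ P → Cj y β.1 → Fr (D.subgroupOf A) β := fun y β hy hβ b hb =>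
    h.se b b.2 y β hy hβ hb
  let _ : CommGroup V := { (inferInstance : Group V) with mul_comm := hcomm }
  refine g2_abstract ρ hV hc (D.subgroupOf A) (τ := ⟨τ, h.autA hτ.mem⟩) (a₀ := ⟨a, ha⟩)
    (fun i => ⟨γ i, h.autA (hγ i).mem⟩) ?_ (fun i => h.autD (hγ i).mem) (fun i => ?_) (hfr t _ htP hτ)
    (fun i j hij => hfr _ _ (hgP i j hij) ((hγ i).inv.mul (hγ j))) (fun i j k hjk => ?_) (fun b hb => ?_) hker haD
  · rw [← map_mul]
    exact hone _ _ htt (hτ.mul hτ)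
  · rw [← mul_inv_eq_one, ← map_mul, ← map_mul, ← map_inv, ← map_mul]
    exact hone _ _ (hgt i) (((hγ i).mul hτ).mul (hτ.mul (hγ i)).inv)
  · by_cases h1 : ((g i)⁻¹ * g j)⁻¹ * t ∈ P
    · refine Or.inr (hfr _ _ (fun h2 => hgP j k hjk ?_) (((hγ i).inv.mul (hγ k)).inv.mul hτ))
      have h3 : (g j)⁻¹ * g k = ((g i)⁻¹ * g j)⁻¹ * t * (((g i)⁻¹ * g k)⁻¹ * t)⁻¹ := by group
      rw [h3]
      exact P.mul_mem h1 (P.inv_mem h2)
    · exact Or.inl (hfr _ _ h1 (((hγ i).inv.mul (hγ j)).inv.mul hτ))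
  · obtain ⟨y, -, r, m, h1⟩ := h.exists_dih' b.2 hb htP htt hτ
    obtain ⟨k, hk⟩ := h1.ord
    exact ⟨m, r ^ k, (h1.prime.odd_of_ne_two h1.ne_two).pow, h1.notMem, Subtype.ext hk⟩

/-- **G2 on an invariant elementary abelian central subgroup `K` of `P`.** -/
theorem g2_sub (h : Loc P A D) {K : Subgroup G} (hKP : K ≤ P) (hKA : ∀ α ∈ A, ∀ x ∈ K, fn α x ∈ K)
    (hK2 : ∀ x ∈ K, x * x = 1) (hKc : ∀ x ∈ K, ∀ y ∈ P, y * x = x * y) (hc : Nat.card K ≤ 32)
    (hker : ∀ α ∈ A, (∀ x ∈ K, fn α x = x) → α ∈ D)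
    (h8 : 8 * Nat.card P ≤ Nat.card (Subgroup.normalizer (P : Set G))) : False := by
  obtain ⟨ρ, hρ⟩ := exists_resAut (K.subgroupOf P) A fun α hα x hx => by
    have h1 := hKA α hα x hx
    rwa [fn_apply α x.2] at h1
  refine h.g2_module ρ (fun x => Subtype.ext (Subtype.ext (hK2 _ x.2)))
    (by rwa [Nat.card_congr (Subgroup.subgroupOfEquivOfLe hKP).toEquiv]) (fun y hy => ?_)
    (fun a he => hker a a.2 fun x hx => ?_) h8
  · ext x
    rw [hρ]
    show (y : G) * x * (y : G)⁻¹ = x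
    rw [hKc ((x : P) : G) x.2 y y.2, mul_inv_cancel_right]
  · have h1 := hρ a ⟨⟨x, hKP hx⟩, hx⟩
    rw [he] at h1
    rw [fn_apply _ (hKP hx), ← h1]
    rfl

/-- **G2 on a quotient `P / K`**, `K ≤ P` invariant and containing the squares. -/
theorem g2_quot (h : Loc P A D) {K : Subgroup G} (hKP : K ≤ P) (hKA : ∀ α ∈ A, ∀ x ∈ K, fn α x ∈ K)
    (hK2 : ∀ x ∈ P, x * x ∈ K) (hc : Nat.card P ≤ 32 * Nat.card K)
    (hker : ∀ α ∈ A, (∀ x ∈ P, x⁻¹ * fn α x ∈ K) → α ∈ D)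
    (h8 : 8 * Nat.card P ≤ Nat.card (Subgroup.normalizer (P : Set G))) : False := by
  have hn : (K.subgroupOf P).Normal := ⟨fun n hn g => by
    have h1 := hKA _ (h.autA (cj_conj g).mem) n hn
    rwa [fn_apply _ n.2] at h1⟩
  obtain ⟨ρ, hρ⟩ := exists_descAut (QuotientGroup.mk' (K.subgroupOf P)) (QuotientGroup.mk'_surjective _) A
    fun α hα x hx => by
      have h1 := hKA α hα x ((QuotientGroup.eq_one_iff x).1 hx)
      rw [fn_apply α x.2] at h1
      exact (QuotientGroup.eq_one_iff _).2 h1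
  have hV : ∀ x : P ⧸ K.subgroupOf P, x * x = 1 := fun x => by
    obtain ⟨y, rfl⟩ := QuotientGroup.mk'_surjective _ x
    rw [← map_mul]
    exact (QuotientGroup.eq_one_iff _).2 (hK2 y y.2)
  have hcomm : ∀ x y : P ⧸ K.subgroupOf P, x * y = y * x := fun x y => by
    have e1 : (x * y)⁻¹ = x * y := inv_eq_of_mul_eq_one_right (hV _)
    rw [← e1, mul_inv_rev, inv_eq_of_mul_eq_one_right (hV x), inv_eq_of_mul_eq_one_right (hV y)]
  refine h.g2_module ρ hV ?_ (fun y hy => ?_) (fun a he => hker a a.2 fun x hx => ?_) h8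
  · rw [Subgroup.card_eq_card_quotient_mul_card_subgroup (K.subgroupOf P),
      Nat.card_congr (Subgroup.subgroupOfEquivOfLe hKP).toEquiv] at hc
    exact Nat.le_of_mul_le_mul_right hc Nat.card_pos
  · ext x
    obtain ⟨z, rfl⟩ := QuotientGroup.mk'_surjective _ x
    rw [hρ]
    show QuotientGroup.mk' _ (y * z * y⁻¹) = QuotientGroup.mk' _ z
    rw [map_mul, map_mul, map_inv, hcomm _ (QuotientGroup.mk' _ z), mul_inv_cancel_right]
  · have h1 := hρ a ⟨x, hx⟩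
    rw [he, MulAut.one_apply] at h1
    rw [fn_apply _ hx]
    exact (QuotientGroup.eq (s := K.subgroupOf P)).1 h1

end Loc

/-- `Ω₁ Z(P)` -/
def inVS (P : Subgroup G) : Subgroup G where
  carrier := {x | Sw.InV P x}
  one_mem' := ⟨P.one_mem, mul_one 1, fun y _ => by rw [mul_one, one_mul]⟩
  mul_mem' := fun {a b} ha hb => ⟨P.mul_mem ha.1 hb.1, by
      rw [mul_assoc, ← mul_assoc b, ha.2.2 b hb.1, mul_assoc, hb.2.1, mul_one, ha.2.1], fun y hy => by
    rw [← mul_assoc, ha.2.2 y hy, mul_assoc, hb.2.2 y hy, mul_assoc]⟩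
  inv_mem' := fun {a} ha => by
    rw [inv_eq_of_mul_eq_one_right ha.2.1]
    exact ha

omit [Finite G] in
theorem fn_mem_inVS (α : MulAut P) {x : G} (hx : x ∈ inVS P) : fn α x ∈ inVS P := by
  refine ⟨fn_mem _ hx.1, ?_, fun y hy => ?_⟩
  · rw [← fn_map_mul α hx.1 hx.1, hx.2.1, fn_map_one]
  · rw [← fn_fn_inv α hy, ← fn_map_mul α (fn_mem _ hy) hx.1, ← fn_map_mul α hx.1 (fn_mem _ hy),
      hx.2.2 _ (fn_mem _ hy)]

/-- **TH2 c.** -/
theorem boxG2 : Sw.BoxG2.{u} := by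
  intro G _ _ P A D z h hz2 hzc hz h8 hc
  have hzP : z ∈ P := h.mem_of_centralizes fun x _ => (hzc x).symm
  exact h.g2_sub (K := inVS P) (fun x hx => hx.1) (fun α _ x hx => fn_mem_inVS α hx) (fun x hx => hx.2.1)
    (fun x hx => hx.2.2) hc (fun α hα h1 => hz α hα (h1 z ⟨hzP, hz2, fun y _ => hzc y⟩)) h8

end Cfsg.Agent.FS.Th
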