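import Mathlib.GroupTheory.Perm.Cycle.Type
import Mathlib.GroupTheory.Nilpotent
import Mathlib.GroupTheory.Sylow

/-!
# Coprime action by fixed points (helper79, project FS)

Pure group theory for the essential-subgroup lemmas: fixed points in cosets, the stabilizer of a chain is a
`p`-group, squares are nongenerators of a finite `2`-group, inverting elements in a coset.
-/

set_option autoImplicit false

namespace Cfsg.Agent.FS.Th

universe u v

/-- A self-map of a finite set whose `r ^ k`-th iterate is the identity has a fixed point when `r ∤ |s|`. -/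
theorem exists_fixed_of_iterate {α : Type*} (s : Set α) [Finite s] (f : α → α) (hf : ∀ x ∈ s, f x ∈ s)
    {r k : ℕ} (hr : r.Prime) (hit : ∀ x ∈ s, f^[r ^ k] x = x) (hcard : ¬ r ∣ Nat.card s) :
    ∃ x ∈ s, f x = x := by
  classical
  have : Fact r.Prime := ⟨hr⟩
  have := Fintype.ofFinite s
  let g : s → s := fun x => ⟨f x, hf x x.2⟩
  have hg : ∀ (n : ℕ) (x : s), ((g^[n] x : s) : α) = f^[n] x := by
    intro n
    induction n with
    | zero => intro x; rfl
    | succ n ih => intro x; rw [Function.iterate_succ_apply, Function.iterate_succ_apply, ih]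
  have hid : g^[r ^ k] = id := funext fun x => Subtype.ext (by rw [hg]; exact hit x x.2)
  have hinj : Function.Injective g := by
    have h1 : Function.Injective (g^[r ^ k]) := by rw [hid]; exact Function.injective_id
    obtain ⟨m, hm⟩ := Nat.exists_eq_succ_of_ne_zero (pow_ne_zero k hr.ne_zero)
    rw [hm, Function.iterate_succ] at h1
    exact Function.Injective.of_comp h1
  let σ : Equiv.Perm s := Equiv.ofBijective g (Finite.injective_iff_bijective.1 hinj)
  have hσ : σ ^ r ^ k = 1 := by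
    ext x
    rw [Equiv.Perm.coe_pow]
    show ((g^[r ^ k] x : s) : α) = x
    rw [hid]
    rfl
  obtain ⟨a, ha⟩ := Equiv.Perm.exists_fixed_point_of_prime (by rwa [← Nat.card_eq_fintype_card]) hσ
  exact ⟨a, a.2, congrArg Subtype.val ha⟩

variable {G : Type u} [Group G]

theorem card_coset (K : Subgroup G) (x : G) : Nat.card {y : G | y * x⁻¹ ∈ K} = Nat.card K :=
  Nat.card_congr
    { toFun := fun y => ⟨y.1 * x⁻¹, y.2⟩
      invFun := fun k => ⟨k.1 * x, by
        show k.1 * x * x⁻¹ ∈ K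
        rw [mul_inv_cancel_right]
        exact k.2⟩
      left_inv := fun y => Subtype.ext (by simp)
      right_inv := fun k => Subtype.ext (by simp) }

theorem not_dvd_card_of_isPGroup {p r : ℕ} [Fact p.Prime] (hr : r.Prime) (hne : r ≠ p) {K : Type*} [Group K]
    [Finite K] (hK : IsPGroup p K) : ¬ r ∣ Nat.card K := by
  obtain ⟨n, hn⟩ := IsPGroup.iff_card.1 hK
  rw [hn]
  intro h
  exact hne ((Nat.prime_dvd_prime_iff_eq hr Fact.out).1 (hr.dvd_of_dvd_pow h))

/-- An automorphism of order a power of `r` fixing a coset of an invariant subgroup of order prime to `r` fixes a point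
in it. -/
theorem exists_fixed_coset {β : MulAut G} {r k : ℕ} (hr : r.Prime) (hβ : β ^ r ^ k = 1) {K : Subgroup G} [Finite K]
    (hK : ¬ r ∣ Nat.card K) (hinv : ∀ x ∈ K, β x ∈ K) {x : G} (hx : β x * x⁻¹ ∈ K) :
    ∃ y, y * x⁻¹ ∈ K ∧ β y = y := by
  have : Finite {y : G | y * x⁻¹ ∈ K} := by
    refine Finite.of_injective (fun y : {y : G | y * x⁻¹ ∈ K} => (⟨y.1 * x⁻¹, y.2⟩ : K)) fun a b h => ?_
    exact Subtype.ext (mul_right_cancel (congrArg Subtype.val h))
  refine exists_fixed_of_iterate {y : G | y * x⁻¹ ∈ K} β (fun y hy => ?_) hr (k := k) (fun y _ => ?_)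
    (by rwa [card_coset])
  · show β y * x⁻¹ ∈ K
    have h1 : β y * x⁻¹ = β (y * x⁻¹) * (β x * x⁻¹) := by
      rw [map_mul, map_inv]
      group
    rw [h1]
    exact K.mul_mem (hinv _ hy) hx
  · have h1 : ∀ n : ℕ, (β : G → G)^[n] y = (β ^ n) y := by
      intro n
      induction n with
      | zero => rfl
      | succ n ih => rw [Function.iterate_succ_apply', ih, pow_succ', MulAut.mul_apply]
    rw [h1, hβ, MulAut.one_apply]

/-- The automorphisms that preserve every `K i` and act trivially on the steps `K (i + 1) / K i`, `i < m`. -/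
def chainStab (K : ℕ → Subgroup G) (m : ℕ) : Subgroup (MulAut G) where
  carrier := {β | (∀ i x, β x ∈ K i ↔ x ∈ K i) ∧ ∀ i < m, ∀ x ∈ K (i + 1), β x * x⁻¹ ∈ K i}
  one_mem' := ⟨fun _ _ => Iff.rfl, fun i _ x _ => by
    rw [MulAut.one_apply, mul_inv_cancel]
    exact (K i).one_mem⟩
  mul_mem' := by
    rintro β γ ⟨h1, h2⟩ ⟨h3, h4⟩
    refine ⟨fun i x => by rw [MulAut.mul_apply, h1, h3], fun i hi x hx => ?_⟩
    have h5 : (β * γ) x * x⁻¹ = (β (γ x) * (γ x)⁻¹) * (γ x * x⁻¹) := by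
      rw [MulAut.mul_apply]
      group
    rw [h5]
    exact (K i).mul_mem (h2 i hi _ ((h3 _ _).2 hx)) (h4 i hi x hx)
  inv_mem' := by
    rintro β ⟨h1, h2⟩
    have h3 : ∀ i x, β⁻¹ x ∈ K i ↔ x ∈ K i := fun i x => by
      rw [← h1 i (β⁻¹ x), MulAut.apply_inv_self]
    refine ⟨h3, fun i hi x hx => ?_⟩
    have h4 := (K i).inv_mem (h2 i hi _ ((h3 _ _).2 hx))
    rwa [MulAut.apply_inv_self, mul_inv_rev, inv_inv] at h4

theorem iff_of_mapsTo [Finite G] {β : MulAut G} {K : Subgroup G} (h : ∀ x ∈ K, β x ∈ K) (x : G) :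
    β x ∈ K ↔ x ∈ K := by
  refine ⟨fun hx => ?_, h x⟩
  have h1 : Function.Injective (fun y : K => (⟨β y, h y y.2⟩ : K)) := fun a b hab =>
    Subtype.ext (β.injective (congrArg Subtype.val hab))
  obtain ⟨y, hy⟩ := Finite.injective_iff_surjective.1 h1 ⟨β x, hx⟩
  have h2 : (y : G) = x := β.injective (congrArg Subtype.val hy)
  rw [← h2]
  exact y.2

theorem mem_chainStab [Finite G] {K : ℕ → Subgroup G} {m : ℕ} {β : MulAut G} (h1 : ∀ i, ∀ x ∈ K i, β x ∈ K i)
    (h2 : ∀ i < m, ∀ x ∈ K (i + 1), β x * x⁻¹ ∈ K i) : β ∈ chainStab K m :=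
  ⟨fun i => iff_of_mapsTo (h1 i), h2⟩

theorem conj_mem_chainStab {K : ℕ → Subgroup G} {m : ℕ} {α β : MulAut G} (hα : ∀ i x, α x ∈ K i ↔ x ∈ K i)
    (hβ : β ∈ chainStab K m) : α * β * α⁻¹ ∈ chainStab K m := by
  have h3 : ∀ i x, α⁻¹ x ∈ K i ↔ x ∈ K i := fun i x => by
    rw [← hα i (α⁻¹ x), MulAut.apply_inv_self]
  refine ⟨fun i x => by rw [MulAut.mul_apply, MulAut.mul_apply, hα, hβ.1, h3], fun i hi x hx => ?_⟩
  have h4 := (hα i _).2 (hβ.2 i hi _ ((h3 _ _).2 hx))
  rwa [map_mul, map_inv, MulAut.apply_inv_self] at h4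

/-- An automorphism of order a power of `r ≠ p` in the stabilizer of a chain: every `K i` lies in the join of the fixed
subgroup and `K 0`. -/
theorem le_fixed_sup {p : ℕ} [Fact p.Prime] [Finite G] (hG : IsPGroup p G) {K : ℕ → Subgroup G} {m : ℕ}
    {β : MulAut G} (hβ : β ∈ chainStab K m) {r k : ℕ} (hr : r.Prime) (hne : r ≠ p) (hk : β ^ r ^ k = 1) :
    ∀ i ≤ m, K i ≤ MonoidHom.eqLocus β.toMonoidHom (MonoidHom.id G) ⊔ K 0 := by
  intro i
  induction i with
  | zero => exact fun _ => le_sup_right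
  | succ i ih =>
    intro hi x hx
    obtain ⟨y, h1, h2⟩ := exists_fixed_coset hr hk
      (not_dvd_card_of_isPGroup hr hne (hG.to_subgroup (K i))) (fun x hx => (hβ.1 i x).2 hx) (hβ.2 i hi x hx)
    have h3 : x = (y * x⁻¹)⁻¹ * y := by group
    rw [h3]
    exact Subgroup.mul_mem _ (Subgroup.inv_mem _ (ih (Nat.le_of_succ_le hi) h1))
      ((le_sup_left : MonoidHom.eqLocus β.toMonoidHom (MonoidHom.id G) ≤ _) h2)

/-- A finite group all of whose elements of prime order `r ≠ p` are absent is a `p`-group. -/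
theorem isPGroup_of_forall_prime {p : ℕ} [Fact p.Prime] {A : Type*} [Group A] [Finite A]
    (h : ∀ (a : A) (r : ℕ), r.Prime → r ≠ p → a ^ r = 1 → a = 1) : IsPGroup p A := by
  rw [IsPGroup.iff_card]
  refine ⟨_, Nat.eq_prime_pow_of_unique_prime_dvd Nat.card_pos.ne' fun {r} hr hrd => ?_⟩
  by_contra hne
  have : Fact r.Prime := ⟨hr⟩
  obtain ⟨a, ha⟩ := exists_prime_orderOf_dvd_card' r hrd
  have h1 := h a r hr hne (by rw [← ha, pow_orderOf_eq_one])
  rw [h1, orderOf_one] at ha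
  exact hr.one_lt.ne ha

/-- **The stabilizer of a chain from a nongenerating subgroup to the whole `p`-group is a `p`-group.** -/
theorem isPGroup_chainStab {p : ℕ} [Fact p.Prime] [Finite G] (hG : IsPGroup p G) {K : ℕ → Subgroup G} {m : ℕ}
    (htop : K m = ⊤) (h0 : ∀ M : Subgroup G, M ⊔ K 0 = ⊤ → M = ⊤) : IsPGroup p (chainStab K m) := by
  have : Finite (MulAut G) := Finite.of_injective (fun α : MulAut G => (α : G → G)) DFunLike.coe_injective
  refine isPGroup_of_forall_prime fun β r hr hne hβ => ?_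
  have h1 : (β : MulAut G) ^ r ^ 1 = 1 := by
    rw [pow_one]
    exact congrArg Subtype.val hβ
  have h2 := le_fixed_sup hG β.2 hr hne h1 m le_rfl
  rw [htop, top_le_iff] at h2
  have h3 := h0 _ h2
  apply Subtype.ext
  ext x
  have h4 : x ∈ MonoidHom.eqLocus (β : MulAut G).toMonoidHom (MonoidHom.id G) := by
    rw [h3]
    exact Subgroup.mem_top x
  exact h4

/-- In a finite `p`-group the maximal subgroups contain the `p`-th powers. -/
theorem pow_mem_of_isCoatom {p : ℕ} [Fact p.Prime] [Finite G] (hG : IsPGroup p G) {M : Subgroup G}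
    (hM : IsCoatom M) (a : G) : a ^ p ∈ M := by
  have := hG.isNilpotent
  have hn : M.Normal := Subgroup.NormalizerCondition.normal_of_coatom M Group.normalizerCondition_of_isNilpotent hM
  by_contra hcon
  have h1 : M ⊔ Subgroup.zpowers (a ^ p) = ⊤ := hM.2 _ (lt_of_le_of_ne le_sup_left fun h =>
    hcon (h ▸ (le_sup_right : _ ≤ M ⊔ Subgroup.zpowers (a ^ p)) (Subgroup.mem_zpowers _)))
  have h2 : (QuotientGroup.mk' M a) ∈ Subgroup.zpowers ((QuotientGroup.mk' M a) ^ p) := by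
    have h3 : (QuotientGroup.mk' M a) ∈ (M ⊔ Subgroup.zpowers (a ^ p)).map (QuotientGroup.mk' M) :=
      ⟨a, h1 ▸ Subgroup.mem_top a, rfl⟩
    rw [Subgroup.map_sup, MonoidHom.map_zpowers, (Subgroup.map_eq_bot_iff M).2 (by rw [QuotientGroup.ker_mk']),
      bot_sup_eq, map_pow] at h3
    exact h3
  obtain ⟨n, hn'⟩ := IsPGroup.iff_orderOf.1 (hG.to_quotient M) (QuotientGroup.mk' M a)
  have h4 : orderOf (QuotientGroup.mk' M a) ∣ orderOf ((QuotientGroup.mk' M a) ^ p) := orderOf_dvd_of_mem_zpowers h2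
  have h5 : QuotientGroup.mk' M a = 1 := by
    by_contra hne
    have hp : p ∣ orderOf (QuotientGroup.mk' M a) := by
      rw [hn']
      refine dvd_pow_self p ?_
      rintro rfl
      exact hne (orderOf_eq_one_iff.1 hn')
    rw [orderOf_pow_of_dvd (Fact.out : p.Prime).ne_zero hp] at h4
    exact absurd (Nat.le_of_dvd (Nat.div_pos (Nat.le_of_dvd (orderOf_pos _) hp) (Fact.out : p.Prime).pos) h4)
      (not_le.2 (Nat.div_lt_self (orderOf_pos _) (Fact.out : p.Prime).one_lt))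
  exact hcon (M.pow_mem ((QuotientGroup.eq_one_iff a).1 h5) p)

/-- In a finite `2`-group a subgroup generated by squares is nongenerating. -/
theorem nonGen_of_sq [Finite G] (hG : IsPGroup 2 G) {K : Subgroup G}
    (hK : K ≤ Subgroup.closure {y | ∃ a, y = a * a}) (M : Subgroup G) (hM : M ⊔ K = ⊤) : M = ⊤ := by
  have : Fact (Nat.Prime 2) := ⟨Nat.prime_two⟩
  rcases eq_top_or_exists_le_coatom M with h | ⟨N, hN, hMN⟩
  · exact h
  · exfalso
    refine hN.1 (top_le_iff.1 (hM ▸ sup_le hMN (hK.trans ?_)))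
    rw [Subgroup.closure_le]
    rintro _ ⟨a, rfl⟩
    have := pow_mem_of_isCoatom hG hN a
    rwa [pow_two] at this

/-- If `τ` inverts `σ` (of order a power of `r`) modulo a normal subgroup `I` of order prime to `r`, some element of the
coset `I τ` inverts `σ`. -/
theorem exists_inverting {I : Subgroup G} [I.Normal] [Finite I] {σ τ : G} {r k : ℕ} (hr : r.Prime)
    (hσ : σ ^ r ^ k = 1) (hI : ¬ r ∣ Nat.card I) (h : σ * τ * σ * τ⁻¹ ∈ I) :
    ∃ i ∈ I, (i * τ) * σ * (i * τ)⁻¹ = σ⁻¹ := by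
  have : Finite {y : G | y * τ⁻¹ ∈ I} := by
    refine Finite.of_injective (fun y : {y : G | y * τ⁻¹ ∈ I} => (⟨y.1 * τ⁻¹, y.2⟩ : I)) fun a b h => ?_
    exact Subtype.ext (mul_right_cancel (congrArg Subtype.val h))
  obtain ⟨x, hx, h1⟩ := exists_fixed_of_iterate {y : G | y * τ⁻¹ ∈ I} (fun y => σ * y * σ) (fun y hy => by
      show σ * y * σ * τ⁻¹ ∈ I
      have h1 : σ * y * σ * τ⁻¹ = (σ * (y * τ⁻¹) * σ⁻¹) * (σ * τ * σ * τ⁻¹) := by group
      rw [h1]
      exact I.mul_mem (Subgroup.Normal.conj_mem inferInstance _ hy σ) h) hr (k := k) (fun y _ => by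
      have h1 : ∀ n : ℕ, (fun y => σ * y * σ)^[n] y = σ ^ n * y * σ ^ n := by
        intro n
        induction n with
        | zero => simp
        | succ n ih =>
          rw [Function.iterate_succ_apply', ih]
          calc σ * (σ ^ n * y * σ ^ n) * σ = (σ * σ ^ n) * y * (σ ^ n * σ) := by simp only [mul_assoc]
            _ = _ := by rw [← pow_succ', ← pow_succ]
      rw [h1, hσ, one_mul, mul_one]) (by rwa [card_coset])
  refine ⟨x * τ⁻¹, hx, ?_⟩
  rw [inv_mul_cancel_right]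
  calc x * σ * x⁻¹ = σ⁻¹ * (σ * x * σ) * x⁻¹ := by group
    _ = σ⁻¹ := by rw [h1]; group

/-- In a commutative group with a dihedral pair of automorphisms `σ` (of odd order) and `τ`: if `τ y / y` is fixed by
`σ`, then `z · τ z · y` is fixed by `σ` for some `z`. -/
theorem exists_norm_fixed {Z : Type*} [CommGroup Z] {σ τ : MulAut Z} {h : ℕ} (hσ : σ ^ (2 * h + 1) = 1)
    (hτ : τ * σ = σ⁻¹ * τ) {y : Z} (hy : σ (τ y * y⁻¹) = τ y * y⁻¹) : ∃ z, σ (z * τ z * y) = z * τ z * y := by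
  have hτn : ∀ n : ℕ, τ * σ ^ n = σ⁻¹ ^ n * τ := by
    intro n
    induction n with
    | zero => simp
    | succ n ih => rw [pow_succ, ← mul_assoc, ih, mul_assoc, hτ, pow_succ, mul_assoc]
  set c := τ y * y⁻¹ with hc
  have hc1 : σ⁻¹ c = c := by
    conv_lhs => rw [← hy]
    rw [MulAut.inv_apply_self]
  have hcn : ∀ n : ℕ, (σ⁻¹ ^ n) c = c := by
    intro n
    induction n with
    | zero => rfl
    | succ n ih => rw [pow_succ, MulAut.mul_apply, hc1, ih]
  have key : ∀ n : ℕ, ∃ z, σ (z * τ z * y) * (σ⁻¹ ^ n) y = z * τ z * y * (σ ^ (n + 1)) y := by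
    intro n
    induction n with
    | zero => exact ⟨1, by simp [mul_comm]⟩
    | succ n ih =>
      obtain ⟨z, hz⟩ := ih
      refine ⟨z * (σ ^ (n + 1)) y, ?_⟩
      have h1 : τ ((σ ^ (n + 1)) y) = (σ⁻¹ ^ (n + 1)) y * c := by
        rw [← MulAut.mul_apply, hτn, MulAut.mul_apply, ← hcn (n + 1), ← map_mul, hc]
        congr 1
        rw [mul_comm, inv_mul_cancel_right]
      have h2 : σ ((σ ^ (n + 1)) y) = (σ ^ (n + 1 + 1)) y := by rw [pow_succ' σ (n + 1), MulAut.mul_apply]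
      have h3 : σ ((σ⁻¹ ^ (n + 1)) y) = (σ⁻¹ ^ n) y := by
        rw [pow_succ', MulAut.mul_apply, MulAut.apply_inv_self]
      have h4 : z * (σ ^ (n + 1)) y * τ (z * (σ ^ (n + 1)) y) * y =
          (z * τ z * y) * (σ ^ (n + 1)) y * (σ⁻¹ ^ (n + 1)) y * c := by
        rw [map_mul, h1]
        ac_rfl
      rw [h4, map_mul, map_mul, map_mul, h2, h3, hy]
      calc σ (z * τ z * y) * (σ ^ (n + 1 + 1)) y * (σ⁻¹ ^ n) y * c * (σ⁻¹ ^ (n + 1)) y
          = (σ (z * τ z * y) * (σ⁻¹ ^ n) y) * (σ ^ (n + 1 + 1)) y * c * (σ⁻¹ ^ (n + 1)) y := by ac_rfl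
        _ = _ := by rw [hz]; ac_rfl
  obtain ⟨z, hz⟩ := key h
  have h5 : σ⁻¹ ^ h = σ ^ (h + 1) := by
    rw [inv_pow, inv_eq_iff_mul_eq_one, ← pow_add, ← hσ]
    congr 1
    ring
  rw [h5] at hz
  exact ⟨z, mul_right_cancel hz⟩

end Cfsg.Agent.FS.Th
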