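import Cfsg.Agent.H776.Co.Real
import Cfsg.Agent.H752.Mp

/-!
# Transport of the hypothesis (H) along an isomorphism (TR) (helper79, project FS)

`Hyp F`: `F` is saturated at `2`, has trivial core, and its hyperfocal subgroup is everything.
`exists_transport`: an isomorphism `e : S ≃* G` carries `F` to a system `F'` over `⊤ : Subgroup G`; `Hyp` is kept,
realizability comes back, and the maps correspond (`Mp` form).
-/

set_option autoImplicit false

namespace Cfsg.Agent.FS.Th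

open Cfsg Cfsg.FusionSystem Cfsg.Agent.H759 Cfsg.Agent.H752

universe u v

/-- The hypothesis (H). -/
structure Hyp {Ω : Type u} [Group Ω] {S : Subgroup Ω} (F : FusionSystem S) : Prop where
  sat : F.IsSaturated 2
  core : F.core = ⊥
  hyp : F.hyperfocalSubgroup 2 = S

section push

variable {Ω₁ : Type u} {Ω₂ : Type v} [Group Ω₁] [Group Ω₂] {f : Ω₁ →* Ω₂} {hf : Function.Injective f}
  {T₁ : Subgroup Ω₁} {T₂ : Subgroup Ω₂} {X₁ : FusionSystem T₁} {X₂ : FusionSystem T₂}

theorem hyp_push_iff [Finite T₁] (h : IsPush hf X₁ X₂) : Hyp X₂ ↔ Hyp X₁ := by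
  have : Fact (Nat.Prime 2) := ⟨Nat.prime_two⟩
  have h1 : X₂.core = ⊥ ↔ X₁.core = ⊥ := by
    rw [h.core_eq, Subgroup.map_eq_bot_iff_of_injective _ hf]
  have h2 : X₂.hyperfocalSubgroup 2 = T₂ ↔ X₁.hyperfocalSubgroup 2 = T₁ := by
    rw [h.hyperfocal_eq]
    constructor
    · intro h3
      exact (map_inj hf).1 (h3.trans h.carrier)
    · intro h3
      rw [h3]
      exact h.carrier.symm
  exact ⟨fun k => ⟨h.isSaturated_iff.1 k.sat, h1.1 k.core, h2.1 k.hyp⟩,
    fun k => ⟨h.isSaturated_iff.2 k.sat, h1.2 k.core, h2.2 k.hyp⟩⟩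

/-- The maps of a push forward, as functions. -/
theorem mp_push_iff (h : IsPush hf X₁ X₂) {P : Subgroup Ω₁} {a : Ω₁ → Ω₁} {b : Ω₂ → Ω₂}
    (hab : ∀ x ∈ P, b (f x) = f (a x)) : Mp X₂ (P.map f) b ↔ Mp X₁ P a := by
  constructor
  · rintro ⟨φ', hφ', h1⟩
    obtain ⟨φ, hφ, rfl⟩ := h.exists_of_mem hφ'
    refine ⟨φ, hφ, fun x hx => hf ?_⟩
    rw [← hab x hx, ← h1 (f x) ⟨x, hx, rfl⟩]
    exact (cb_apply hf φ ⟨x, hx⟩ _).symm
  · rintro ⟨φ, hφ, h1⟩
    refine ⟨cb hf φ, (h.hom P φ).2 hφ, ?_⟩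
    rintro _ ⟨x, hx, rfl⟩
    rw [hab x hx, ← h1 x hx]
    exact cb_apply hf φ ⟨x, hx⟩ _

end push

/-- **TR.**  Transport along `e : S ≃* G`. -/
theorem exists_transport {Ω : Type u} [Group Ω] {S : Subgroup Ω} [Finite S] (F : FusionSystem S)
    {G : Type v} [Group G] (e : S ≃* G) :
    ∃ F' : FusionSystem (⊤ : Subgroup G), (Hyp F → Hyp F') ∧ (F'.IsRealizable 2 → F.IsRealizable 2) ∧
      ∀ (P : Subgroup G) (a : G → G) (b : Ω → Ω), (∀ x ∈ P, b (e.symm x : S) = (e.symm (a x) : S)) →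
        (Mp F (P.map (S.subtype.comp e.symm.toMonoidHom)) b ↔ Mp F' P a) := by
  let f : G →* Ω := S.subtype.comp e.symm.toMonoidHom
  have hf : Function.Injective f := (Subgroup.subtype_injective S).comp e.symm.injective
  have hS : S = (⊤ : Subgroup G).map f := by
    ext x
    constructor
    · intro hx
      refine ⟨e ⟨x, hx⟩, Subgroup.mem_top _, ?_⟩
      show ((e.symm (e ⟨x, hx⟩) : S) : Ω) = x
      rw [e.symm_apply_apply]
    · rintro ⟨y, -, rfl⟩
      exact (e.symm y).2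
  have : Finite G := Finite.of_equiv _ e.toEquiv
  obtain ⟨F', hF'⟩ := exists_pull' (hf := hf) hS F
  exact ⟨F', (hyp_push_iff hF').1, H776.Co.isRealizable_push hF', fun P a b hab => mp_push_iff hF' hab⟩

/-- **TR, reduction form.**  To prove that every system with (H) over a group isomorphic to `G` is realizable it is
enough to treat the systems over `⊤ : Subgroup G`. -/
theorem isRealizable_of_equiv {Ω : Type u} [Group Ω] {S : Subgroup Ω} [Finite S] {F : FusionSystem S}
    (hF : Hyp F) {G : Type v} [Group G] (e : S ≃* G)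
    (h : ∀ F' : FusionSystem (⊤ : Subgroup G), Hyp F' → F'.IsRealizable 2) : F.IsRealizable 2 := by
  obtain ⟨F', h1, h2, -⟩ := exists_transport F e
  exact h2 (h F' (h1 hF))

/-- **Twist.**  An automorphism `θ` of `G` carries a system over `⊤` to another one; the maps `a` of `F` on `P`
correspond to the maps `θ a θ⁻¹` of `F'` on `θ(P)`. -/
theorem exists_twist' {G : Type u} [Group G] [Finite G] (F : FusionSystem (⊤ : Subgroup G)) (θ : MulAut G) :
    ∃ F' : FusionSystem (⊤ : Subgroup G), (Hyp F → Hyp F') ∧ (F'.IsRealizable 2 → F.IsRealizable 2) ∧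
      ∀ (P : Subgroup G) (a b : G → G), (∀ x ∈ P, b (θ x) = θ (a x)) →
        (Mp F' (P.map θ.toMonoidHom) b ↔ Mp F P a) := by
  have hinj : Function.Injective (θ⁻¹ : MulAut G).toMonoidHom := (θ⁻¹ : MulAut G).injective
  have htop : (⊤ : Subgroup G) = (⊤ : Subgroup G).map (θ⁻¹ : MulAut G).toMonoidHom :=
    (Subgroup.map_top_of_surjective _ (θ⁻¹ : MulAut G).surjective).symm
  obtain ⟨F', hF'⟩ := exists_pull' (hf := hinj) htop F
  refine ⟨F', (hyp_push_iff hF').1, H776.Co.isRealizable_push hF', fun P a b hab => ?_⟩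
  have hP : (P.map θ.toMonoidHom).map (θ⁻¹ : MulAut G).toMonoidHom = P := by
    rw [Subgroup.map_map]
    have : (θ⁻¹ : MulAut G).toMonoidHom.comp θ.toMonoidHom = MonoidHom.id _ := by
      ext x
      show θ⁻¹ (θ x) = x
      exact MulAut.inv_apply_self _ _ _
    rw [this, Subgroup.map_id]
  have h1 := mp_push_iff hF' (P := P.map θ.toMonoidHom) (a := b) (b := a) (by
    rintro _ ⟨x, hx, rfl⟩
    show a (θ⁻¹ (θ x)) = θ⁻¹ (b (θ x))
    rw [hab x hx, MulAut.inv_apply_self, MulAut.inv_apply_self])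
  rw [hP] at h1
  exact h1.symm

end Cfsg.Agent.FS.Th
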