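import Cfsg.Agent.FS.Th.NT
import Cfsg.Agent.FS.Th.Centre
import Cfsg.Agent.FS.Th.Trans

/-!
# The level lemma (LV) (helper79, project FS)

* `Loc.quot`: the local datum passes to a quotient.
* `LocM P M`: a local datum at `P` in which every automorphism acting trivially modulo `M` lies in `D`
  (`M = ⊥`: no condition); `LocZ z P M`: moreover the stabilizer of `z` lies in `D`, and then `P = C_G(a z)` for
  `a ∈ A \ D` (`Loc.cent_of_stab`).
* `LocM.step`: for a central involution `z`, a datum is of level `0` (`LocZ`) or comes from `G / ⟨z⟩`.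
* `Hyp.locM`, `Hyp.locC`: the data given by the hypothesis (H).
-/

set_option autoImplicit false

namespace Cfsg.Agent.FS.Th

open Cfsg Cfsg.FusionSystem Cfsg.Agent.H802 Cfsg.Agent.H752

universe u v

variable {G : Type u} [Group G] {G' : Type v} [Group G']

namespace Loc

variable [Finite G] {P : Subgroup G} {A D : Subgroup (MulAut P)}

omit [Finite G] in
/-- A normal `2`-subgroup of `A` is induced by `N_G(P)`. -/
theorem le_of_normal (h : Loc P A D) {N : Subgroup A} [N.Normal] (hN : IsPGroup 2 N) {α : A} (hα : α ∈ N) :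
    α.1 ∈ autInducedBy ⊤ P := by
  have h1 : IsPGroup 2 ((autInducedBy ⊤ P).subgroupOf A ⊔ N : Subgroup A) :=
    IsPGroup.to_sup_of_normal_right (h.pgAut.comap_of_injective _ (Subgroup.subtype_injective _)) hN
  exact h.max _ (Subgroup.map_subtype_le _) (h1.map A.subtype)
    (fun δ hδ => ⟨⟨δ, h.autA hδ⟩, (le_sup_left : (autInducedBy ⊤ P).subgroupOf A ≤ _) hδ, rfl⟩)
    ⟨α, (le_sup_right : N ≤ _) hα, rfl⟩

/-- **The local datum passes to a quotient.** -/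
theorem quot (h : Loc P A D) (π : G →* G') (hπ : Function.Surjective π) (hker : ∀ g, π g = 1 → g ∈ P)
    (hA : ∀ α ∈ A, ∀ x ∈ P, π x = 1 → π (fn α x) = 1)
    (hK : ∀ α ∈ A, (∀ x ∈ P, π (fn α x) = π x) → ∃ k, α ^ 2 ^ k = 1) :
    ∃ A' D' : Subgroup (MulAut (P.map π)), Loc (P.map π) A' D' ∧
      ∀ β ∈ A', ∃ α ∈ A, (∀ x ∈ P, fn β (π x) = π (fn α x)) ∧ (α ∈ D ↔ β ∈ D') := by
  have hfin : Finite G' := Finite.of_surjective π hπ
  obtain ⟨Θ, hΘ⟩ := exists_descAut (π.subgroupMap P) (π.subgroupMap_surjective P) A fun α hα x hx => by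
    apply Subtype.ext
    have h1 := hA α hα x x.2 (congrArg Subtype.val hx)
    rwa [fn_apply _ x.2] at h1
  have hΘ' : ∀ (α : A), ∀ x ∈ P, fn (Θ α) (π x) = π (fn α.1 x) := fun α x hx => by
    rw [fn_apply _ (⟨x, hx, rfl⟩ : π x ∈ P.map π), fn_apply _ hx]
    exact congrArg Subtype.val (hΘ α ⟨x, hx⟩)
  have hkp : IsPGroup 2 Θ.ker := by
    rintro ⟨α, hα⟩
    obtain ⟨k, hk⟩ := hK α α.2 fun x hx => by
      rw [← hΘ' α x hx, (MonoidHom.mem_ker).1 hα, fn_one (⟨x, hx, rfl⟩ : π x ∈ P.map π)]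
    exact ⟨k, Subtype.ext (Subtype.ext hk)⟩
  have hkD : ∀ α : A, Θ α = 1 → α.1 ∈ D := fun α hα => h.autD (h.le_of_normal hkp hα)
  have hD : ∀ α : A, α.1 ∈ D ↔ Θ α ∈ (D.subgroupOf A).map Θ := fun α => by
    refine ⟨fun h1 => ⟨α, h1, rfl⟩, ?_⟩
    rintro ⟨d, hd, h1⟩
    have h2 := hkD (d⁻¹ * α) (by rw [map_mul, map_inv, h1, inv_mul_cancel])
    exact (D.mul_mem_cancel_left (D.inv_mem hd)).1 h2
  have hmem : ∀ x, π x ∈ P.map π → x ∈ P := by
    rintro x ⟨y, hy, h1⟩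
    have h2 := hker (y⁻¹ * x) (by rw [map_mul, map_inv, h1, inv_mul_cancel])
    exact (P.mul_mem_cancel_left (P.inv_mem hy)).1 h2
  have hcj : ∀ (g : G) (γ : MulAut P) (hγ : Cj g γ), Cj (π g) (Θ ⟨γ, h.autA hγ.mem⟩) := by
    rintro g γ hγ ⟨_, x, hx, rfl⟩
    have h1 := hΘ' ⟨γ, h.autA hγ.mem⟩ x hx
    rw [fn_apply _ (⟨x, hx, rfl⟩ : π x ∈ P.map π), hγ.fn hx, map_mul, map_mul, map_inv] at h1
    exact h1
  have hcj' : ∀ (g : G) (β : MulAut (P.map π)), Cj (π g) β →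
      ∃ (γ : MulAut P) (hγ : Cj g γ), β = Θ ⟨γ, h.autA hγ.mem⟩ := fun g β hβ => by
    obtain ⟨γ, hγ⟩ := exists_cj (P := P) (g := g) fun x hx => hmem _ (by
      rw [map_mul, map_mul, map_inv]
      exact hβ.mapsTo _ ⟨x, hx, rfl⟩)
    exact ⟨γ, hγ, hβ.unique (hcj g γ hγ)⟩
  refine ⟨Θ.range, (D.subgroupOf A).map Θ, ⟨h.pg.of_surjective π hπ, fun β hβ => ?_, fun β hβ => ?_,
    fun N hN hNp hle β hβ => ?_, ?_, fun h1 => ?_, fun h1 => ?_⟩, ?_⟩
  · obtain ⟨g', hg'⟩ := mem_autTop_iff.1 hβ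
    obtain ⟨g, rfl⟩ := hπ g'
    obtain ⟨γ, hγ, rfl⟩ := hcj' g β hg'
    exact ⟨_, rfl⟩
  · obtain ⟨g', hg'⟩ := mem_autTop_iff.1 hβ
    obtain ⟨g, rfl⟩ := hπ g'
    obtain ⟨γ, hγ, rfl⟩ := hcj' g β hg'
    exact ⟨_, h.autD hγ.mem, rfl⟩
  · obtain ⟨α, rfl⟩ := hN hβ
    have h1 := h.max ((N.comap Θ).map A.subtype) (Subgroup.map_subtype_le _)
      ((hNp.comap_of_ker_isPGroup Θ hkp).map _) (fun δ hδ => by
        obtain ⟨g, hg⟩ := mem_autTop_iff.1 hδ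
        exact ⟨⟨δ, h.autA hδ⟩, hle (hcj g δ hg).mem, rfl⟩) ⟨α, hβ, rfl⟩
    obtain ⟨g, hg⟩ := mem_autTop_iff.1 h1
    exact (hcj g _ hg).mem
  · rintro _ ⟨α, rfl⟩ g' β hg' hβ h1
    obtain ⟨g, rfl⟩ := hπ g'
    obtain ⟨γ, hγ, rfl⟩ := hcj' g β hβ
    rw [← map_inv, ← map_mul, ← map_mul, ← hD] at h1
    exact (hD α).1 (h.se α α.2 g γ (fun h2 => hg' ⟨g, h2, rfl⟩) hγ h1)
  · exact h.ne fun α hα => (hD ⟨α, hα⟩).2 (h1 ⟨_, rfl⟩)
  · exact h.proper (top_le_iff.1 fun x _ => hmem x (h1 ▸ Subgroup.mem_top _))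
  · rintro _ ⟨α, rfl⟩
    exact ⟨α, α.2, hΘ' α, hD α⟩

/-- If the stabilizer of the central element `z` lies in `D` then `P = C_G(a z)` for `a ∈ A \ D`. -/
theorem cent_of_stab (h : Loc P A D) {z : G} (hzc : ∀ g, g * z = z * g) (hz : ∀ α ∈ A, fn α z = z → α ∈ D)
    {a : MulAut P} (ha : a ∈ A) (haD : a ∉ D) (g : G) : g * fn a z = fn a z * g ↔ g ∈ P := by
  have : Fact (Nat.Prime 2) := ⟨Nat.prime_two⟩
  have hzP : z ∈ P := h.mem_of_centralizes fun x _ => (hzc x).symm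
  have huc : ∀ x ∈ P, x * fn a z = fn a z * x := by
    intro x hx
    have h1 : (⟨fn a⁻¹ x, fn_mem _ hx⟩ * ⟨z, hzP⟩ : P) = ⟨z, hzP⟩ * ⟨fn a⁻¹ x, fn_mem _ hx⟩ := Subtype.ext (hzc _)
    have h2 := congrArg (fun y : P => ((a y : P) : G)) h1
    simp only [map_mul, Subgroup.coe_mul] at h2
    rwa [← fn_apply, ← fn_apply, fn_fn_inv a hx] at h2
  refine ⟨fun hg => ?_, huc g⟩
  by_contra hgP
  set C : Subgroup G := Subgroup.centralizer {fn a z} with hC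
  have hPC : P ≤ C := fun x hx => Subgroup.mem_centralizer_singleton_iff.2 (huc x hx)
  have hne : P ≠ C := fun he => hgP (he ▸ Subgroup.mem_centralizer_singleton_iff.2 hg)
  obtain ⟨n, hn, hnP⟩ := SetLike.exists_of_lt (lt_inf_normalizer (h.pg.to_subgroup ⊤) hPC le_top hne)
  have hnu : n * fn a z = fn a z * n := Subgroup.mem_centralizer_singleton_iff.1 hn.1
  obtain ⟨γ, hγ⟩ := exists_conjAut hn.2
  have hγ' : Cj n γ := hγ
  have hγA := h.autA hγ'.mem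
  refine haD ((D.inv_mem_iff).1 (h.se a⁻¹ (A.inv_mem ha) n γ hnP hγ' (hz _
    (A.mul_mem (A.mul_mem (A.inv_mem ha) hγA) (A.inv_mem (A.inv_mem ha))) ?_)))
  rw [inv_inv, fn_mul _ _ hzP, fn_mul _ _ (fn_mem _ hzP), hγ'.fn (fn_mem _ hzP), hnu, mul_inv_cancel_right,
    fn_inv_fn a hzP]

/-- The dual statement: if the automorphisms acting trivially modulo `M` lie in `D`, then for `a ∈ A \ D` no `g` in
`N_G(P) \ P` acts trivially modulo `a⁻¹ M`. -/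
theorem mem_of_dual (h : Loc P A D) {M : Subgroup G} (hM : ∀ α ∈ A, (∀ x ∈ P, x⁻¹ * fn α x ∈ M) → α ∈ D)
    {a : MulAut P} (ha : a ∈ A) (haD : a ∉ D) {g : G} (hg : ∀ x ∈ P, g * x * g⁻¹ ∈ P)
    (hgM : ∀ x ∈ P, fn a (x⁻¹ * (g * x * g⁻¹)) ∈ M) : g ∈ P := by
  by_contra hgP
  obtain ⟨γ, hγ⟩ := exists_cj hg
  have hγA := h.autA hγ.mem
  refine haD (h.se a ha g γ hgP hγ (hM _ (A.mul_mem (A.mul_mem ha hγA) (A.inv_mem ha)) fun x hx => ?_))
  have h1 := hgM _ (fn_mem a⁻¹ hx)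
  have h2 : fn a ((fn a⁻¹ x)⁻¹ * (g * fn a⁻¹ x * g⁻¹)) = x⁻¹ * fn (a * γ * a⁻¹) x := by
    rw [fn_mul _ _ hx, fn_mul _ _ (fn_mem _ hx), hγ.fn (fn_mem _ hx)]
    have h3 : (fn a⁻¹ x)⁻¹ * (g * fn a⁻¹ x * g⁻¹) =
        (((⟨_, fn_mem a⁻¹ hx⟩ : P)⁻¹ * ⟨_, hg _ (fn_mem a⁻¹ hx)⟩ : P) : G) := rfl
    rw [h3, fn_apply _ (Subtype.prop _), Subtype.coe_eta, map_mul, map_inv, Subgroup.coe_mul, Subgroup.coe_inv,
      ← fn_apply, ← fn_apply, fn_fn_inv a hx]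
  rwa [h2] at h1

end Loc

/-- A local datum at `P` whose automorphisms acting trivially modulo `M` lie in `D`. -/
def LocM (P M : Subgroup G) : Prop :=
  ∃ A D : Subgroup (MulAut P), Loc P A D ∧ ∀ α ∈ A, (∀ x ∈ P, x⁻¹ * fn α x ∈ M) → α ∈ D

/-- The same, of level `0` for `z`. -/
def LocZ (z : G) (P M : Subgroup G) : Prop :=
  ∃ A D : Subgroup (MulAut P), Loc P A D ∧ (∀ α ∈ A, (∀ x ∈ P, x⁻¹ * fn α x ∈ M) → α ∈ D) ∧
    ∀ α ∈ A, fn α z = z → α ∈ D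

theorem Loc.locM_bot {P : Subgroup G} {A D : Subgroup (MulAut P)} (h : Loc P A D) : LocM P ⊥ :=
  ⟨A, D, h, fun α _ h1 => by
    have h2 : α = 1 := by
      ext x
      have h3 := h1 x x.2
      rw [Subgroup.mem_bot, inv_mul_eq_one, fn_apply _ x.2] at h3
      exact h3.symm
    rw [h2]
    exact D.one_mem⟩

theorem LocM.mono {P M M' : Subgroup G} (h : LocM P M) (hle : M' ≤ M) : LocM P M' := by
  obtain ⟨A, D, h1, h2⟩ := h
  exact ⟨A, D, h1, fun α hα h3 => h2 α hα fun x hx => hle (h3 x hx)⟩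

theorem LocM.not_comm [Finite G] {P M : Subgroup G} (h : LocM P M) (hc : ∀ x y : G, x * y = y * x) : False := by
  obtain ⟨A, D, h1, -⟩ := h
  exact h1.proper (top_le_iff.1 fun g _ => h1.mem_of_centralizes fun x _ => hc g x)

/-- **The level lemma, one step.**  `M'` is a subgroup of the quotient with `π⁻¹ M' ≤ M ⟨z⟩`; take `M = π⁻¹ M'`, or
`M = ⊥`, `M' = ⊥`. -/
theorem LocM.step [Finite G] {P M : Subgroup G} (h : LocM P M) {z : G} (hzc : ∀ g, g * z = z * g) (hz2 : z * z = 1)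
    (π : G →* G') (hπ : Function.Surjective π) (hker : ∀ g, π g = 1 ↔ g = 1 ∨ g = z) {M' : Subgroup G'}
    (hM : M' = ⊥ ∨ M'.comap π ≤ M) : z ∈ P ∧ (LocZ z P M ∨ LocM (P.map π) M') := by
  obtain ⟨A, D, h1, h2⟩ := h
  have hzP : z ∈ P := h1.mem_of_centralizes fun x _ => (hzc x).symm
  refine ⟨hzP, ?_⟩
  let A₁ : Subgroup (MulAut P) := A ⊓ MulAction.stabilizer (MulAut P) (⟨z, hzP⟩ : P)
  have hA₁ : ∀ α, α ∈ A₁ ↔ α ∈ A ∧ fn α z = z := fun α => by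
    rw [fn_apply α hzP]
    exact and_congr_right fun _ => ⟨fun h3 => congrArg Subtype.val h3, fun h3 => Subtype.ext h3⟩
  by_cases h3 : A₁ ≤ D
  · exact Or.inl ⟨A, D, h1, h2, fun α hα h4 => h3 ((hA₁ α).2 ⟨hα, h4⟩)⟩
  right
  have h4 : Loc P A₁ D := h1.sub (fun γ hγ => by
    obtain ⟨g, hg⟩ := mem_autTop_iff.1 hγ
    refine (hA₁ γ).2 ⟨h1.autA hγ, ?_⟩
    rw [hg.fn hzP, hzc, mul_inv_cancel_right]) inf_le_left h3
  obtain ⟨A', D', h5, h6⟩ := h4.quot π hπ (fun g hg => by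
      rcases (hker g).1 hg with rfl | rfl
      · exact P.one_mem
      · exact hzP) (fun α hα x hx h5 => by
      rcases (hker x).1 h5 with rfl | rfl
      · rw [fn_apply _ hx]
        show π ((α 1 : P) : G) = 1
        rw [map_one, Subgroup.coe_one, map_one]
      · rw [((hA₁ α).1 hα).2, h5]) (fun α hα h5 => by
      refine ⟨1, ?_⟩
      ext x
      rw [pow_one, pow_two, MulAut.mul_apply, MulAut.one_apply]
      have h6 := (hker ((x : G)⁻¹ * fn α x)).1 (by rw [map_mul, map_inv, h5 x x.2, inv_mul_cancel])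
      rw [fn_apply _ x.2, Subtype.coe_eta] at h6
      rcases h6 with h6 | h6
      · have h7 : α x = x := Subtype.ext (inv_mul_eq_one.1 h6).symm
        rw [h7, h7]
      · have h7 : α x = x * ⟨z, hzP⟩ := Subtype.ext (inv_mul_eq_iff_eq_mul.1 h6)
        have h8 : α ⟨z, hzP⟩ = ⟨z, hzP⟩ := hα.2
        rw [h7, map_mul, h7, h8, Subgroup.coe_mul, Subgroup.coe_mul, mul_assoc, hz2, mul_one])
  rcases hM with rfl | hM
  · exact h5.locM_bot
  refine ⟨A', D', h5, fun β hβ h7 => ?_⟩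
  obtain ⟨α, hα, h8, h9⟩ := h6 β hβ
  refine h9.1 (h2 α hα.1 fun x hx => hM ?_)
  have h10 := h7 _ ⟨x, hx, rfl⟩
  rwa [h8 x hx, ← map_inv, ← map_mul] at h10

/-- Transport along an isomorphism. -/
theorem LocM.of_equiv [Finite G] {P M : Subgroup G} (h : LocM P M) (e : G ≃* G') :
    LocM (P.map e.toMonoidHom) (M.map e.toMonoidHom) := by
  obtain ⟨A, D, h1, h2⟩ := h
  have hk : ∀ g, e.toMonoidHom g = 1 → g = 1 := fun g hg => e.injective (by rw [map_one]; exact hg)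
  obtain ⟨A', D', h5, h6⟩ := h1.quot e.toMonoidHom e.surjective (fun g hg => by rw [hk g hg]; exact P.one_mem)
    (fun α _ x hx h5 => by
      have h6 := hk x h5
      subst h6
      rw [fn_apply _ hx]
      show e.toMonoidHom ((α 1 : P) : G) = 1
      rw [map_one, Subgroup.coe_one, map_one]) (fun α _ h5 => ⟨0, by
      ext x
      have h6 := e.injective (h5 x x.2)
      rw [fn_apply _ x.2] at h6
      rw [pow_zero, pow_one]
      exact h6⟩)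
  refine ⟨A', D', h5, fun β hβ h7 => ?_⟩
  obtain ⟨α, hα, h8, h9⟩ := h6 β hβ
  refine h9.1 (h2 α hα fun x hx => ?_)
  have h10 := h7 _ ⟨x, hx, rfl⟩
  rw [h8 x hx, ← map_inv, ← map_mul] at h10
  obtain ⟨y, hy, h11⟩ := h10
  rwa [← e.injective h11]

theorem hyperfocal_le_focal' {Ω : Type u} [Group Ω] {S : Subgroup Ω} (F : FusionSystem S) (p : ℕ) :
    F.hyperfocalSubgroup p ≤ F.focalSubgroup := by
  unfold FusionSystem.hyperfocalSubgroup FusionSystem.focalSubgroup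
  refine Subgroup.closure_mono ?_
  rintro _ ⟨P, α, x, hP, -, rfl⟩
  exact ⟨P, P.subtype.comp (α : MulAut P).toMonoidHom, x, (mem_autGroup_iff F hP _).1 α.2, rfl⟩

theorem Hyp.foc {Ω : Type u} [Group Ω] {S : Subgroup Ω} {F : FusionSystem S} (h : Hyp F) : S ≤ F.focalSubgroup :=
  h.hyp.ge.trans (hyperfocal_le_focal' F 2)

/-- An automorphism of `G` of odd prime power order, which is a map of `F`, moves some coset of `M`. -/
def TopM (F : FusionSystem (⊤ : Subgroup G)) (M : Subgroup G) : Prop :=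
  ∃ (α : MulAut G) (r k : ℕ), Mp F ⊤ α ∧ r.Prime ∧ r ≠ 2 ∧ α ^ r ^ k = 1 ∧ (∃ x, x⁻¹ * α x ∉ M) ∧
    ∀ x, x⁻¹ * (α ^ r) x ∈ M

/-- **H1, local form.** -/
theorem Hyp.locM [Finite G] (hG : IsPGroup 2 G) {F : FusionSystem (⊤ : Subgroup G)} (h : Hyp F) {M : Subgroup G}
    (hM : ∀ x y, x * y * x⁻¹ * y⁻¹ ∈ M) (hne : M ≠ ⊤) : TopM F M ∨ ∃ P, F.IsEssential 2 P ∧ LocM P M := by
  have : Fact (Nat.Prime 2) := ⟨Nat.prime_two⟩
  rcases focal_failure (hG.to_subgroup ⊤) h.sat M (fun x _ y _ => hM x y)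
    (fun h1 => hne (top_le_iff.1 (h.foc.trans h1))) with ⟨α, hα, r, k, hr, hr2, ho, h1, h2⟩ | ⟨-, P, H, hf⟩
  · left
    have hc : ∀ (β : MulAut (⊤ : Subgroup G)) (x : G), MulAut.congr Subgroup.topEquiv β x = fn β x := fun β x => by
      rw [fn_apply _ (Subgroup.mem_top x)]
      rfl
    refine ⟨MulAut.congr Subgroup.topEquiv α, r, k, (mp_fn le_rfl hα).congr fun x _ => hc α x, hr, hr2,
      by rw [← map_pow, ← ho, pow_orderOf_eq_one, map_one], ?_, fun x => ?_⟩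
    · unfold focP at h1
      push Not at h1
      obtain ⟨x, -, hx⟩ := h1
      exact ⟨x, by rwa [hc]⟩
    · rw [← map_pow, hc]
      exact h2 x (Subgroup.mem_top x)
  · exact Or.inr ⟨P, hf.ess, _, H, hf.loc hG h.sat, fun α hα h1 => (hf.mem α).2 ⟨hα, h1⟩⟩

/-- A local datum at which the central involutions are moved. -/
structure LocC (P : Subgroup G) (A D : Subgroup (MulAut P)) : Prop where
  loc : Loc P A D
  cen : ∀ a ∈ A, a ∉ D → ∃ w, w * w = 1 ∧ (∀ g, g * w = w * g) ∧ ∀ g, (g * fn a w = fn a w * g ↔ g ∈ P)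

theorem LocZ.locC [Finite G] {z : G} {P M : Subgroup G} (h : LocZ z P M) (hzc : ∀ g, g * z = z * g)
    (hz2 : z * z = 1) : ∃ A D : Subgroup (MulAut P), LocC P A D ∧
      (∀ α ∈ A, (∀ x ∈ P, x⁻¹ * fn α x ∈ M) → α ∈ D) ∧
      ∀ a ∈ A, a ∉ D → ∀ g, (g * fn a z = fn a z * g ↔ g ∈ P) := by
  obtain ⟨A, D, h1, h2, h3⟩ := h
  exact ⟨A, D, ⟨h1, fun a ha haD => ⟨z, hz2, hzc, h1.cent_of_stab hzc h3 ha haD⟩⟩, h2,
    fun a ha haD => h1.cent_of_stab hzc h3 ha haD⟩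

/-- The central involutions with `1`. -/
def omZ (G : Type u) [Group G] : Subgroup G where
  carrier := {w | w * w = 1 ∧ ∀ g, g * w = w * g}
  one_mem' := ⟨one_mul _, fun g => by rw [mul_one, one_mul]⟩
  mul_mem' := by
    rintro a b ⟨h1, h2⟩ ⟨h3, h4⟩
    refine ⟨?_, fun g => by rw [← mul_assoc, h2, mul_assoc, h4, mul_assoc]⟩
    rw [mul_assoc, ← mul_assoc b, h2 b, mul_assoc, h3, mul_one, h1]
  inv_mem' := by
    rintro a ⟨h1, h2⟩
    rw [inv_eq_of_mul_eq_one_right h1]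
    exact ⟨h1, h2⟩

theorem omZ_ne_bot [Finite G] [Nontrivial G] (hG : IsPGroup 2 G) : omZ G ≠ ⊥ := by
  have : Fact (Nat.Prime 2) := ⟨Nat.prime_two⟩
  have := hG.center_nontrivial
  obtain ⟨n, hn0, hn⟩ := (hG.to_subgroup (Subgroup.center G)).nontrivial_iff_card.1 inferInstance
  obtain ⟨a, ha⟩ := exists_prime_orderOf_dvd_card' (G := Subgroup.center G) 2 (hn ▸ dvd_pow_self 2 hn0.ne')
  intro h
  have h1 : (a : G) ∈ omZ G := ⟨by
    have h2 := pow_orderOf_eq_one a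
    rw [ha, pow_two] at h2
    exact congrArg Subtype.val h2, fun g => Subgroup.mem_center_iff.1 a.2 g⟩
  rw [h, Subgroup.mem_bot] at h1
  have h2 : a = 1 := Subtype.ext h1
  rw [h2, orderOf_one] at ha
  cases ha

/-- **C1, local form.**  `D` is the stabilizer of `W = Ω₁ Z(G)`, and `P = C_G(a w)` whenever `a w ∉ W`. -/
theorem Hyp.locC [Finite G] [Nontrivial G] (hG : IsPGroup 2 G) {F : FusionSystem (⊤ : Subgroup G)} (h : Hyp F) :
    ∃ (P : Subgroup G) (A D : Subgroup (MulAut P)), F.IsEssential 2 P ∧ LocC P A D ∧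
      (∀ α, α ∈ D ↔ α ∈ A ∧ ∀ w ∈ omZ G, fn α w ∈ omZ G) ∧
      ∀ a ∈ A, ∀ w ∈ omZ G, fn a w ∉ omZ G → ∀ g, (g * fn a w = fn a w * g ↔ g ∈ P) := by
  have : Fact (Nat.Prime 2) := ⟨Nat.prime_two⟩
  have hS : IsPGroup 2 (⊤ : Subgroup G) := hG.to_subgroup ⊤
  rcases normal_failure hS h.sat (W := omZ G) le_top (fun s _ w hw => by rw [hw.2 s, mul_inv_cancel_right]; exact hw)
    (not_isNormal_of_core h.core (omZ_ne_bot hG)) with ⟨α, hα, r, k, -, -, -, ⟨w, hw, h1⟩, -⟩ | ⟨-, P, H, hf⟩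
  · exfalso
    have hm := mp_fn le_rfl hα
    refine h1 ⟨?_, fun g => ?_⟩
    · rw [← hm.mul trivial trivial, hw.1, hm.one]
    · rw [← fn_fn_inv α (Subgroup.mem_top g), ← hm.mul trivial trivial, hw.2, hm.mul trivial trivial]
  · obtain ⟨h1, h2, h3, h4⟩ := moved_centre hS h.sat (W := omZ G) le_top (fun s _ w hw => hw.2 s) hf
    refine ⟨P, _, H, hf.ess, ⟨hf.loc hG h.sat, fun a ha haD => ?_⟩, h2, fun a ha w hw h5 g => h4 a ha w hw h5 g trivial⟩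
    obtain ⟨w, hw, h5⟩ := h3 a ha haD
    exact ⟨w, hw.1, hw.2, fun g => h4 a ha w hw h5 g trivial⟩

end Cfsg.Agent.FS.Th
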