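import Cfsg.Agent.FS.Th.Dih

/-!
# The fusion-free local datum (helper79, project FS)

`Loc P A D` in a finite `2`-group `G`: `A`, `D` subgroups of `Aut(P)` containing the automorphisms induced by
`N_G(P)`, which form a Sylow `2`-subgroup of `A`; `D` has the strong embedding property (SE); `A ≰ D`.
It holds at an essential subgroup of a saturated system over `⊤` (`Ctx.loc`), passes to subgroups of `A`
(`Loc.sub`) and to quotients of `G` (file `Level`).  Consequences: NP, E1 (`Loc.mem_of_chain`), E2 (`Loc.exists_dih`).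
-/

set_option autoImplicit false

namespace Cfsg.Agent.FS.Th

open Cfsg Cfsg.FusionSystem Cfsg.Agent.H802 Cfsg.Agent.H752

universe u v

variable {G : Type u} [Group G]

/-- `γ` is conjugation by `g` on `P`. -/
def Cj {P : Subgroup G} (g : G) (γ : MulAut P) : Prop := ∀ x : P, ((γ x : P) : G) = g * x * g⁻¹

theorem Cj.mul {P : Subgroup G} {g h : G} {γ δ : MulAut P} (h1 : Cj g γ) (h2 : Cj h δ) : Cj (g * h) (γ * δ) := by
  intro x
  rw [MulAut.mul_apply, h1, h2]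
  group

theorem Cj.inv {P : Subgroup G} {g : G} {γ : MulAut P} (h1 : Cj g γ) : Cj g⁻¹ γ⁻¹ := by
  intro x
  have h2 := h1 (γ⁻¹ x)
  rw [MulAut.apply_inv_self] at h2
  rw [h2]
  group

theorem Cj.unique {P : Subgroup G} {g : G} {γ δ : MulAut P} (h1 : Cj g γ) (h2 : Cj g δ) : γ = δ := by
  ext x
  rw [h1, h2]

theorem Cj.mapsTo {P : Subgroup G} {g : G} {γ : MulAut P} (h1 : Cj g γ) : ∀ x ∈ P, g * x * g⁻¹ ∈ P := fun x hx => by
  rw [← h1 ⟨x, hx⟩]
  exact (γ _).2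

theorem Cj.fn {P : Subgroup G} {g : G} {γ : MulAut P} (h1 : Cj g γ) {x : G} (hx : x ∈ P) :
    fn γ x = g * x * g⁻¹ := by
  rw [fn_apply _ hx, h1]

theorem cj_conj {P : Subgroup G} (y : P) : Cj (y : G) (MulAut.conj y) := fun x => by
  simp only [MulAut.conj_apply, Subgroup.coe_mul, Subgroup.coe_inv]

theorem exists_cj [Finite G] {P : Subgroup G} {g : G} (h : ∀ x ∈ P, g * x * g⁻¹ ∈ P) : ∃ γ : MulAut P, Cj g γ :=
  exists_conjAut (Subgroup.mem_normalizer_fintype h)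

theorem mem_autTop_iff {P : Subgroup G} {γ : MulAut P} : γ ∈ autInducedBy ⊤ P ↔ ∃ g, Cj g γ := by
  rw [mem_autInducedBy_iff]
  exact ⟨fun ⟨g, _, h⟩ => ⟨g, h⟩, fun ⟨g, h⟩ => ⟨g, Subgroup.mem_top g, h⟩⟩

theorem Cj.mem {P : Subgroup G} {g : G} {γ : MulAut P} (h : Cj g γ) : γ ∈ autInducedBy ⊤ P :=
  mem_autTop_iff.2 ⟨g, h⟩

/-- The local datum. -/
structure Loc (P : Subgroup G) (A D : Subgroup (MulAut P)) : Prop where
  pg : IsPGroup 2 G
  autA : autInducedBy ⊤ P ≤ A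
  autD : autInducedBy ⊤ P ≤ D
  max : ∀ N : Subgroup (MulAut P), N ≤ A → IsPGroup 2 N → autInducedBy ⊤ P ≤ N → N ≤ autInducedBy ⊤ P
  se : ∀ α ∈ A, ∀ (g : G) (γ : MulAut P), g ∉ P → Cj g γ → α * γ * α⁻¹ ∈ D → α ∈ D
  ne : ¬ A ≤ D
  proper : P ≠ ⊤

theorem Ctx.loc [Finite G] {F : FusionSystem (⊤ : Subgroup G)} {P : Subgroup G} {D : Subgroup (MulAut P)}
    (h : Ctx F 2 P D) (hne : ¬ F.autGroup P ≤ D) (hP : P ≠ ⊤) : Loc P (F.autGroup P) D := by
  have : Fact (Nat.Prime 2) := ⟨Nat.prime_two⟩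
  exact ⟨h.pg.of_equiv Subgroup.topEquiv, autInducedBy_le_autGroup F le_top, h.autS_le hP,
    fun N hN hNp hle => le_autInducedBy_of_isPGroup h.pg h.sat h.fn hN hNp hle,
    fun α hα g γ hg hγ hc => h.mem_of_conj hα (Subgroup.mem_top g) hg hγ hc, hne, hP⟩

theorem Failure.loc [Finite G] (hG : IsPGroup 2 G) {F : FusionSystem (⊤ : Subgroup G)} (hF : F.IsSaturated 2)
    {M : Subgroup G → (G → G) → Prop} {P : Subgroup G} {H : Subgroup (MulAut P)} (h : Failure F 2 M P H) :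
    Loc P (F.autGroup P) H := by
  have : Fact (Nat.Prime 2) := ⟨Nat.prime_two⟩
  have hS : IsPGroup 2 (⊤ : Subgroup G) := hG.to_subgroup ⊤
  exact (h.ctx hS hF).loc h.not_le (ne_of_isEssential hS hF h.ess)

namespace Loc

variable {P : Subgroup G} {A D : Subgroup (MulAut P)}

theorem sub (h : Loc P A D) {A' : Subgroup (MulAut P)} (h1 : autInducedBy ⊤ P ≤ A') (h2 : A' ≤ A)
    (h3 : ¬ A' ≤ D) : Loc P A' D :=
  ⟨h.pg, h1, h.autD, fun N hN => h.max N (hN.trans h2), fun α hα => h.se α (h2 hα), h3, h.proper⟩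

theorem pgAut (h : Loc P A D) : IsPGroup 2 (autInducedBy ⊤ P) :=
  isPGroup_autInducedBy (h.pg.to_subgroup ⊤) P

theorem inn_le (_h : Loc P A D) : Inn P ≤ autInducedBy ⊤ P := inn_le_autInducedBy le_top

/-- An element of `G` centralizing `P` lies in `P`. -/
theorem mem_of_centralizes (h : Loc P A D) {g : G} (hg : ∀ x ∈ P, g * x = x * g) : g ∈ P := by
  by_contra hgP
  refine h.ne fun α hα => h.se α hα g 1 hgP (fun x => ?_) (by simp)
  rw [hg x x.2, mul_inv_cancel_right]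
  rfl

variable [Finite G]

theorem finAut (P : Subgroup G) : Finite (MulAut P) :=
  Finite.of_injective (fun α : MulAut P => (α : P → P)) DFunLike.coe_injective

theorem exists_conj_le (h : Loc P A D) {N : Subgroup (MulAut P)} (hNA : N ≤ A) (hN : IsPGroup 2 N) :
    ∃ d ∈ A, ∀ δ ∈ N, d * δ * d⁻¹ ∈ autInducedBy ⊤ P := by
  have : Fact (Nat.Prime 2) := ⟨Nat.prime_two⟩
  have := finAut P
  let R : Sylow 2 A := ⟨(autInducedBy ⊤ P).subgroupOf A,
    h.pgAut.comap_of_injective _ (Subgroup.subtype_injective _), fun {Q} hQ hle => by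
      refine le_antisymm (fun x hx => ?_) hle
      exact h.max (Q.map A.subtype) (Subgroup.map_subtype_le Q) (hQ.map _)
        (fun δ hδ => ⟨⟨δ, h.autA hδ⟩, hle hδ, rfl⟩) ⟨x, hx, rfl⟩⟩
  obtain ⟨R', hR'⟩ := (hN.comap_of_injective A.subtype (Subgroup.subtype_injective _)).exists_le_sylow
  obtain ⟨c, hc⟩ := MulAction.exists_smul_eq A R' R
  refine ⟨c, c.2, fun δ hδ => ?_⟩
  have h3 : c * ⟨δ, hNA hδ⟩ * c⁻¹ ∈ (R : Subgroup A) := by
    rw [← hc]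
    exact Subgroup.smul_mem_pointwise_smul _ (MulAut.conj c) (R' : Subgroup A) (hR' hδ)
  exact h3

/-- **NP.** -/
theorem mem_of_normalized (h : Loc P A D) {α : MulAut P} (hα : α ∈ A) (hαD : α ∉ D)
    {N : Subgroup (MulAut P)} (hNA : N ≤ A) (hN : IsPGroup 2 N) {γ : MulAut P} {g : G}
    (hγ : Cj g γ) (hγN : γ ∈ N) (hαN : α * γ * α⁻¹ ∈ N) : g ∈ P := by
  by_contra hgP
  obtain ⟨a, ha, h1⟩ := h.exists_conj_le hNA hN
  have h2 : a ∈ D := h.se a ha g γ hgP hγ (h.autD (h1 γ hγN))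
  have h3 : a * α ∈ D := h.se _ (Subgroup.mul_mem _ ha hα) g γ hgP hγ (by
    have h4 : a * α * γ * (a * α)⁻¹ = a * (α * γ * α⁻¹) * a⁻¹ := by group
    rw [h4]
    exact h.autD (h1 _ hαN))
  exact hαD ((D.mul_mem_cancel_left h2).1 h3)

/-- **E1.** -/
theorem mem_of_chain (h : Loc P A D) {α : MulAut P} (hα : α ∈ A) (hαD : α ∉ D)
    {g : G} {K : ℕ → Subgroup G} {m : ℕ} (hKP : ∀ i, K i ≤ P) (htop : K m = P) (h0 : NonGen P (K 0))
    (hαK : ∀ i, ∀ x ∈ K i, fn α x ∈ K i) (hgK : ∀ i, ∀ x ∈ K i, g * x * g⁻¹ ∈ K i)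
    (hstep : ∀ i < m, ∀ x ∈ K (i + 1), g * x * g⁻¹ * x⁻¹ ∈ K i) : g ∈ P := by
  have : Fact (Nat.Prime 2) := ⟨Nat.prime_two⟩
  obtain ⟨γ, hγ⟩ := exists_cj (P := P) (g := g) (fun x hx => by
    have := hgK m x (htop ▸ hx)
    rwa [htop] at this)
  have hγA : γ ∈ A := h.autA hγ.mem
  let K' : ℕ → Subgroup P := fun i => (K i).subgroupOf P
  have hst : IsPGroup 2 (chainStab K' m) := isPGroup_chainStab (h.pg.to_subgroup P) (by
    show (K m).subgroupOf P = ⊤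
    rw [htop, Subgroup.subgroupOf_self]) (nonGen_sub (hKP 0) h0)
  have hγK : γ ∈ chainStab K' m := mem_chainStab (fun i x hx => by
      show ((γ x : P) : G) ∈ K i
      rw [hγ]
      exact hgK i x hx) (fun i hi x hx => by
      show ((γ x : P) : G) * (x : G)⁻¹ ∈ K i
      rw [hγ]
      exact hstep i hi x hx)
  have hαK' : ∀ i x, α x ∈ K' i ↔ x ∈ K' i := fun i => iff_of_mapsTo fun x hx => by
    have h1 := hαK i x hx
    rwa [fn_apply α x.2] at h1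
  exact h.mem_of_normalized hα hαD (N := chainStab K' m ⊓ A) inf_le_right
    (hst.to_inf_left) hγ ⟨hγK, hγA⟩ ⟨conj_mem_chainStab hαK' hγK,
      Subgroup.mul_mem _ (Subgroup.mul_mem _ hα hγA) (Subgroup.inv_mem _ hα)⟩

end Loc

/-- The data of E2, fusion-free. -/
structure DihL (P : Subgroup G) (A D : Subgroup (MulAut P)) (t : G) (r : ℕ) (α : MulAut P) : Prop where
  mem : α ∈ A
  notMem : α ∉ D
  prime : r.Prime
  ne_two : r ≠ 2
  ord : ∃ k, α ^ r ^ k = 1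
  pow_mem : α ^ r ∈ D
  tN : ∀ x ∈ P, t * x * t⁻¹ ∈ P
  tP : t ∉ P
  tsq : t * t ∈ P
  inv : ∀ x ∈ P, fn α (t * fn α x * t⁻¹) = t * x * t⁻¹
  fix : fn α (t * t) = t * t

namespace Loc

variable [Finite G] {P : Subgroup G} {A D : Subgroup (MulAut P)}

/-- **E2**, with the position of `α`. -/
theorem exists_dih' (h : Loc P A D) {a : MulAut P} (ha : a ∈ A) (haD : a ∉ D) {t : G} (htP : t ∉ P)
    (htt : t * t ∈ P) {τ : MulAut P} (hτ : Cj t τ) :
    ∃ y ∈ P, ∃ (r m : ℕ), DihL P A D (y * t) r ((τ * (a * τ * a⁻¹)) ^ m) := by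
  have : Fact (Nat.Prime 2) := ⟨Nat.prime_two⟩
  have := finAut P
  have hτA : τ ∈ A := h.autA hτ.mem
  have hτD : τ ∈ D := h.autD hτ.mem
  have hID : Inn P ≤ D := h.inn_le.trans h.autD
  have hττ : τ * τ = MulAut.conj (⟨t * t, htt⟩ : P) := (hτ.mul hτ).unique (cj_conj ⟨t * t, htt⟩)
  have hρA : τ * (a * τ * a⁻¹) ∈ A :=
    Subgroup.mul_mem _ hτA (Subgroup.mul_mem _ (Subgroup.mul_mem _ ha hτA) (Subgroup.inv_mem _ ha))
  have hρD : τ * (a * τ * a⁻¹) ∉ D := fun h1 =>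
    haD (h.se a ha t τ htP hτ ((D.mul_mem_cancel_left hτD).1 h1))
  obtain ⟨r, k, m, hr, hord, hσD, hσr⟩ := exists_primePow_not_mem D _ _ rfl hρD
  set σ := (τ * (a * τ * a⁻¹)) ^ m with hσ
  have hσA : σ ∈ A := Subgroup.pow_mem _ hρA m
  have hinn : σ * τ * σ * τ⁻¹ ∈ Inn P := by
    rw [← QuotientGroup.eq_one_iff]
    have h1 : (QuotientGroup.mk' (Inn P) τ) * (QuotientGroup.mk' (Inn P) τ) = 1 := by
      rw [← map_mul, hττ]
      exact (QuotientGroup.eq_one_iff _).2 ⟨_, rfl⟩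
    have h2 : (QuotientGroup.mk' (Inn P) (a * τ * a⁻¹)) * (QuotientGroup.mk' (Inn P) (a * τ * a⁻¹)) = 1 := by
      have h3 : a * τ * a⁻¹ * (a * τ * a⁻¹) = a * (τ * τ) * a⁻¹ := by group
      rw [← map_mul, h3, map_mul, map_mul, map_mul, h1, mul_one, ← map_mul, mul_inv_cancel, map_one]
    have h3 := dihedral_pow h1 h2 m
    rw [← map_mul, ← map_pow, ← map_inv, ← map_mul, ← map_mul, ← map_mul] at h3
    exact h3
  have hr2 : r ≠ 2 := by
    rintro rfl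
    refine hσD (h.se σ hσA t τ htP hτ ?_)
    have h1 : σ * τ * σ⁻¹ = (σ * (σ * τ * σ * τ⁻¹)⁻¹ * σ⁻¹) * σ ^ 2 * τ := by
      rw [pow_two]
      have h2 : τ * σ⁻¹ = (σ * τ * σ * τ⁻¹)⁻¹ * σ * τ := by group
      calc σ * τ * σ⁻¹ = σ * (τ * σ⁻¹) := mul_assoc _ _ _
        _ = σ * ((σ * τ * σ * τ⁻¹)⁻¹ * σ * τ) := by rw [← h2]
        _ = _ := by group
    rw [h1]
    exact D.mul_mem (D.mul_mem (hID (Subgroup.Normal.conj_mem inferInstance _ (Subgroup.inv_mem _ hinn) σ)) hσr) hτD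
  have hσk : σ ^ r ^ k = 1 := by rw [← hord, pow_orderOf_eq_one]
  obtain ⟨_, ⟨y, rfl⟩, h1⟩ := exists_inverting hr hσk (not_dvd_card_of_isPGroup hr hr2
    (h.pgAut.to_le h.inn_le)) hinn
  set τ₁ := MulAut.conj y * τ with hτ₁
  have hτ₁x : Cj ((y : G) * t) τ₁ := (cj_conj y).mul hτ
  have htN := hτ.mapsTo
  have hs : (y : G) * t * (y * t) ∈ P := by
    have h2 : (y : G) * t * (y * t) = y * (t * y * t⁻¹) * (t * t) := by group
    rw [h2]
    exact P.mul_mem (P.mul_mem y.2 (htN y y.2)) htt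
  obtain ⟨z, hz, h2⟩ := exists_central_fixed (h.pg.to_subgroup P) hr hr2 hσk h1
    (s := ⟨_, hs⟩) ((hτ₁x.mul hτ₁x).unique (cj_conj ⟨_, hs⟩)) (by
      apply Subtype.ext
      rw [hτ₁x]
      group)
  have hzc : ∀ x ∈ P, (z : G) * x * (z : G)⁻¹ = x := fun x hx => by
    have h3 : x * (z : G) = z * x := congrArg Subtype.val (Subgroup.mem_center_iff.1 hz ⟨x, hx⟩)
    rw [← h3, mul_inv_cancel_right]
  have hconj : ∀ x : P, ((z : G) * y * t) * x * ((z : G) * y * t)⁻¹ = (τ₁ x : P) := fun x => by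
    rw [← hzc _ (τ₁ x).2, hτ₁x]
    group
  have hsq : ((z : G) * y * t) * ((z : G) * y * t) = ((z * τ₁ z * ⟨_, hs⟩ : P) : G) := by
    simp only [Subgroup.coe_mul]
    rw [hτ₁x]
    group
  refine ⟨z * y, P.mul_mem z.2 y.2, r, m, hσA, hσD, hr, hr2, ⟨k, hσk⟩, hσr, fun x hx => ?_,
    fun h3 => htP ((P.mul_mem_cancel_left (P.mul_mem z.2 y.2)).1 h3), ?_, fun x hx => ?_, ?_⟩
  · rw [hconj ⟨x, hx⟩]
    exact (τ₁ _).2
  · rw [hsq]
    exact Subtype.prop _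
  · rw [fn_apply σ hx, hconj, hconj ⟨x, hx⟩, fn_apply σ (τ₁ _).2]
    have h3 : σ * τ₁ * σ = τ₁ := by
      calc σ * τ₁ * σ = σ * (τ₁ * σ * τ₁⁻¹) * τ₁ := by group
        _ = τ₁ := by rw [h1]; group
    conv_rhs => rw [← h3]
    rfl
  · rw [hsq, fn_apply σ (Subtype.prop _)]
    exact congrArg Subtype.val h2

/-- **E2.** -/
theorem exists_dih (h : Loc P A D) {t : G} (htN : ∀ x ∈ P, t * x * t⁻¹ ∈ P) (htP : t ∉ P) (htt : t * t ∈ P) :
    ∃ y ∈ P, ∃ (r : ℕ) (α : MulAut P), DihL P A D (y * t) r α := by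
  obtain ⟨a, ha, haD⟩ := SetLike.not_le_iff_exists.1 h.ne
  obtain ⟨τ, hτ⟩ := exists_cj htN
  obtain ⟨y, hy, r, m, h1⟩ := h.exists_dih' ha haD htP htt hτ
  exact ⟨y, hy, r, _, h1⟩

theorem exists_sq (h : Loc P A D) : ∃ t, (∀ x ∈ P, t * x * t⁻¹ ∈ P) ∧ t ∉ P ∧ t * t ∈ P := by
  obtain ⟨t, -, h1⟩ := exists_sq_mem (h.pg.to_subgroup ⊤) le_top h.proper
  exact ⟨t, h1⟩

theorem exists_dih₀ (h : Loc P A D) : ∃ (t : G) (r : ℕ) (α : MulAut P), DihL P A D t r α := by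
  obtain ⟨t, h1, h2, h3⟩ := h.exists_sq
  obtain ⟨y, -, r, α, h4⟩ := h.exists_dih h1 h2 h3
  exact ⟨_, r, α, h4⟩

end Loc

end Cfsg.Agent.FS.Th
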