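import Cfsg.Agent.FS.Th.Fail

/-!
# Saturation axioms in element form (V1) (helper80, project FS)
-/

set_option autoImplicit false

namespace Cfsg.Agent.FS.Th

open Cfsg Cfsg.FusionSystem Cfsg.Agent.H802 Cfsg.Agent.H752

universe u v

variable {Ω : Type u} [Group Ω] {S : Subgroup Ω}

/-- A subgroup normalized by `S` is fully normalized. -/
theorem isFullyNormalized_of_normal [Finite S] (F : FusionSystem S) {T : Subgroup Ω} (hT : T ≤ S)
    (hn : ∀ s ∈ S, ∀ x ∈ T, s * x * s⁻¹ ∈ T) : F.IsFullyNormalized T := by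
  refine ⟨hT, fun Q _ => ?_⟩
  have h1 : normalizerIn S T = S := by
    refine inf_eq_left.2 fun s hs => Subgroup.mem_normalizer_iff.2 fun x => ⟨hn s hs x, fun h => ?_⟩
    have h2 := hn s⁻¹ (S.inv_mem hs) _ h
    have h3 : s⁻¹ * (s * x * s⁻¹) * s⁻¹⁻¹ = x := by group
    rwa [h3] at h2
  rw [h1]
  exact Subgroup.card_le_of_le inf_le_left

/-- A centric subgroup is fully centralized. -/
theorem isFullyCentralized_of_isCentric [Finite S] {F : FusionSystem S} {T : Subgroup Ω} (hT : F.IsCentric T) :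
    F.IsFullyCentralized T := by
  refine ⟨hT.1, fun Q hQ => ?_⟩
  have hQC := hT.2 Q hQ
  obtain ⟨φ, hφ, hφr⟩ := hQ
  obtain ⟨ψ, hψ, hψr, h1, h2⟩ := exists_inv hφ hφr
  have hfin : Finite (centralizerIn S T) := finite_of_le inf_le_left
  refine card_le_of_maps (F.injective_of_mem hψ) hQC fun x hx => ⟨hom_apply_mem hψ _, ?_⟩
  refine Subgroup.mem_centralizer_iff.2 fun y hy => ?_
  have hy' : y ∈ ψ.range := by rw [hψr]; exact hy
  obtain ⟨z, rfl⟩ := hy'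
  rw [← map_mul, ← map_mul]
  congr 1
  exact Subtype.ext (Subgroup.mem_centralizer_iff.1 hx.2 z z.2)

/-- A `p`-subgroup of `Aut_F(T)` containing `Aut_S(T)`, `T` fully normalized, is `Aut_S(T)`. -/
theorem le_autInducedBy_of_isPGroup {p : ℕ} [Fact p.Prime] [Finite S] (hS : IsPGroup p S) {F : FusionSystem S}
    (hF : F.IsSaturated p) {T : Subgroup Ω} (hT : F.IsFullyNormalized T) {B : Subgroup (MulAut T)}
    (hB : B ≤ F.autGroup T) (hBp : IsPGroup p B) (hle : autInducedBy S T ≤ B) : B ≤ autInducedBy S T := by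
  obtain ⟨-, R, hR⟩ := isFullyAutomized_of_isFullyNormalized hS hF hT
  have h1 : IsPGroup p (B.subgroupOf (F.autGroup T)) := hBp.comap_of_injective _ (Subgroup.subtype_injective _)
  have h2 := R.is_maximal' h1 (by
    rw [hR]
    exact fun x hx => hle hx)
  intro α hα
  have h3 : (⟨α, hB hα⟩ : F.autGroup T) ∈ B.subgroupOf (F.autGroup T) := hα
  rw [h2, hR] at h3
  exact h3

/-- A `p`-subgroup of `Aut_F(T)`, `T` fully normalized, is conjugate into `Aut_S(T)`. -/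
theorem exists_conj_le_autInducedBy {p : ℕ} [Fact p.Prime] [Finite S] (hS : IsPGroup p S) {F : FusionSystem S}
    (hF : F.IsSaturated p) {T : Subgroup Ω} (hT : F.IsFullyNormalized T) {B : Subgroup (MulAut T)}
    (hB : B ≤ F.autGroup T) (hBp : IsPGroup p B) :
    ∃ β ∈ F.autGroup T, ∀ α ∈ B, β * α * β⁻¹ ∈ autInducedBy S T := by
  obtain ⟨β, hβ, h⟩ := exists_aut_conj_le_of_isPGroup (subtype_mem F hT.1) (Subgroup.range_subtype T)
    (isFullyAutomized_of_isFullyNormalized hS hF hT) B hB hBp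
  refine ⟨β, hβ, fun α hα => ?_⟩
  have h1 := h α hα
  rwa [congr_isoOf_subtype] at h1

/-- **V1.**  `T` fully normalized, `ψ ∈ Aut_F(T)` normalizing `Aut_S(T)` with `ψ ^ (p ^ k) ∈ Aut_S(T)`.  Then
`ψ ∈ Aut_S(T)`. -/
theorem mem_autInducedBy_of_normalizes {p : ℕ} [Fact p.Prime] [Finite S] (hS : IsPGroup p S) {F : FusionSystem S}
    (hF : F.IsSaturated p) {T : Subgroup Ω} (hT : F.IsFullyNormalized T) {ψ : MulAut T} (hψ : ψ ∈ F.autGroup T)
    (hn : ∀ δ ∈ autInducedBy S T, ψ * δ * ψ⁻¹ ∈ autInducedBy S T) {k : ℕ} (hk : ψ ^ p ^ k ∈ autInducedBy S T) :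
    ψ ∈ autInducedBy S T := by
  have hfin : Finite T := finite_of_le hT.1
  have hAp := isPGroup_autInducedBy hS T
  have hψp : IsPGroup p (Subgroup.zpowers ψ) := by
    obtain ⟨l, hl⟩ := hAp ⟨_, hk⟩
    have hl' : (ψ ^ p ^ k) ^ p ^ l = 1 := congrArg Subtype.val hl
    rintro ⟨b, hb⟩
    obtain ⟨m, rfl⟩ := Subgroup.mem_zpowers_iff.1 hb
    refine ⟨k + l, Subtype.ext ?_⟩
    show (ψ ^ m) ^ p ^ (k + l) = 1
    rw [← zpow_natCast, ← zpow_mul, mul_comm, zpow_mul, zpow_natCast, pow_add, pow_mul, hl', one_zpow]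
  have hN : Subgroup.zpowers ψ ≤ Subgroup.normalizer (autInducedBy S T : Set (MulAut T)) := by
    rw [Subgroup.zpowers_le]
    exact Subgroup.mem_normalizer_fintype (fun δ hδ => hn δ hδ)
  have hsup : IsPGroup p (Subgroup.zpowers ψ ⊔ autInducedBy S T : Subgroup (MulAut T)) :=
    IsPGroup.to_sup_of_normal_right' hψp hAp hN
  exact le_autInducedBy_of_isPGroup hS hF hT
    (sup_le (Subgroup.zpowers_le.2 hψ) (autInducedBy_le_autGroup F hT.1)) hsup le_sup_right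
    ((le_sup_left : _ ≤ Subgroup.zpowers ψ ⊔ autInducedBy S T) (Subgroup.mem_zpowers ψ))

/-- **V1, function form.**  `f` a map of `F` from the fully normalized subgroup `T` to itself, normalizing the action
of `N_S(T)`, with `f ∘ f` induced by an element of `S`.  Then `f` is induced by an element of `S` (`p = 2`). -/
theorem exists_conj_of_sq [Finite S] (hS : IsPGroup 2 S) {F : FusionSystem S}
    (hF : F.IsSaturated 2) {T : Subgroup Ω} (hT : F.IsFullyNormalized T) {f : Ω → Ω} (hf : Mp F T f)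
    (hfT : ∀ x ∈ T, f x ∈ T)
    (hn : ∀ s ∈ normalizerIn S T, ∃ s' ∈ S, ∀ x ∈ T, f (s * x * s⁻¹) = s' * f x * s'⁻¹)
    (hsq : ∃ s ∈ S, ∀ x ∈ T, f (f x) = s * x * s⁻¹) : ∃ s ∈ S, ∀ x ∈ T, f x = s * x * s⁻¹ := by
  have : Fact (Nat.Prime 2) := ⟨Nat.prime_two⟩
  have hfin : Finite T := finite_of_le hT.1
  obtain ⟨ψ, hψ, h1⟩ := hf.exists_aut hfT
  have h2 := mem_autInducedBy_of_normalizes hS hF hT hψ (k := 1) (by
    intro δ hδ
    obtain ⟨g, hg, h2⟩ := (mem_autInducedBy_iff S T δ).1 hδ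
    obtain ⟨s', hs', h3⟩ := hn g ⟨hg, mem_normalizer_of_aut h2⟩
    refine (mem_autInducedBy_iff S T _).2 ⟨s', hs', fun x => ?_⟩
    have h4 := h3 _ (ψ⁻¹ x).2
    rw [← h2, h1 _ (δ _).2, h1 _ (ψ⁻¹ x).2] at h4
    have h5 : ψ (⟨((ψ⁻¹ x : T) : Ω), (ψ⁻¹ x).2⟩ : T) = x := ψ.apply_symm_apply x
    rw [h5] at h4
    exact h4) (by
    obtain ⟨s, hs, h2⟩ := hsq
    refine (mem_autInducedBy_iff S T _).2 ⟨s, hs, fun x => ?_⟩
    rw [← h2 x x.2, h1 x x.2, h1 _ (ψ _).2, pow_one, pow_two]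
    rfl)
  obtain ⟨g, hg, h3⟩ := (mem_autInducedBy_iff S T ψ).1 h2
  exact ⟨g, hg, fun x hx => by rw [h1 x hx, h3]⟩

/-- **Extension axiom.**  `f : P → Q` an isomorphism of `F` onto a fully centralized subgroup, `N` a subgroup of
`N_S(P)` containing `P` whose action on `P` is carried into the action of `S` on `Q`.  Then `f` extends to `N`. -/
theorem mp_extend_of_fullyCentralized {p : ℕ} [Fact p.Prime] [Finite S] (hS : IsPGroup p S) {F : FusionSystem S}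
    (hF : F.IsSaturated p) {Q : Subgroup Ω} (hQ : F.IsFullyCentralized Q) {P N : Subgroup Ω} {f : Ω → Ω}
    (hf : Mp F P f) (hfQ : ∀ y, y ∈ Q ↔ ∃ x ∈ P, f x = y) (hPN : P ≤ N) (hNS : N ≤ S)
    (hN : ∀ g ∈ N, (∀ x ∈ P, g * x * g⁻¹ ∈ P) ∧ ∃ h ∈ S, ∀ x ∈ P, f (g * x * g⁻¹) = h * f x * h⁻¹) :
    ∃ k, Mp F N k ∧ ∀ x ∈ P, k x = f x := by
  refine H754.mp_extend (isReceptive_of_isFullyCentralized hS hF hQ) hf hfQ hPN fun g hg =>
    ⟨hNS hg, Subgroup.mem_normalizer_iff.2 fun x => ⟨(hN g hg).1 x, fun h => ?_⟩, (hN g hg).2⟩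
  have h2 := (hN g⁻¹ (N.inv_mem hg)).1 _ h
  have h3 : g⁻¹ * (g * x * g⁻¹) * g⁻¹⁻¹ = x := by group
  rwa [h3] at h2

/-- A map `f` on `P` followed by a map defined on the normalizer of the image: `f(P)` is carried onto a fully
normalized subgroup `Q`, and after composing, `f` extends to `N_S(P)`: for every map `f` on `P` whose image `Q` is
fully normalized there are a map `k` on `N_S(P)` and an automorphism `b` of `Q` in `F` with `k = b ∘ f` on `P`. -/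
theorem mp_extend_normalizer {p : ℕ} [Fact p.Prime] [Finite S] (hS : IsPGroup p S) {F : FusionSystem S}
    (hF : F.IsSaturated p) {Q : Subgroup Ω} (hQ : F.IsFullyNormalized Q) {P : Subgroup Ω} {f : Ω → Ω}
    (hf : Mp F P f) (hfQ : ∀ y, y ∈ Q ↔ ∃ x ∈ P, f x = y) :
    ∃ k b : Ω → Ω, Mp F (normalizerIn S P) k ∧ Mp F Q b ∧ (∀ y ∈ Q, b y ∈ Q) ∧ ∀ x ∈ P, k x = b (f x) := by
  obtain ⟨φ, hφ, h1⟩ := hf
  have hr : φ.range = Q := by
    ext y
    rw [hfQ]
    constructor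
    · rintro ⟨x, rfl⟩
      exact ⟨x, x.2, (h1 x x.2).symm⟩
    · rintro ⟨x, hx, rfl⟩
      exact ⟨⟨x, hx⟩, h1 x hx⟩
  obtain ⟨β, hβ, ψ, hψ, h2, -⟩ := exists_extension_normalizer hS hF hφ hr hQ
  have hPN : P ≤ normalizerIn S P := le_normalizerIn (hom_le hφ)
  refine ⟨ex ψ, fn β, mp_ex hψ, mp_fn hQ.1 hβ, fun y hy => fn_mem β hy, fun x hx => ?_⟩
  have h3 : φ ⟨x, hx⟩ ∈ Q := by rw [← hr]; exact ⟨_, rfl⟩
  rw [ex_apply _ (hPN hx), h2 ⟨x, hx⟩ h3 (hPN hx), ← h1 x hx, fn_apply β h3]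

end Cfsg.Agent.FS.Th
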