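import Cfsg.Agent.FS.Th.Viol
import Cfsg.Agent.FS.Th.Chain

/-!
# Essential subgroups: SE, NP, E1 (helper79, project FS)

`Ctx F p P D`: `P` is fully normalized and `D` is a subgroup of `Aut(P)` containing every element of `Aut_F(P)` that
extends to a larger subgroup.  (For an essential `P` there is such a `D` not containing `Aut_F(P)`; `Failure` gives one.)

* `Ctx.mem_of_conj` (SE): `α c_g α⁻¹ ∈ D`, `g ∈ S \ P` ⇒ `α ∈ D`.
* `Ctx.mem_of_normalized` (NP): a `p`-subgroup of `Aut_F(P)` normalized by `L ≰ D` contains `c_g` only for `g ∈ P`.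
* `Ctx.mem_of_chain`, `mem_of_chain` (E1): `g` stabilizing an invariant chain from a nongenerating subgroup up to `P`
  lies in `P`.
-/

set_option autoImplicit false

namespace Cfsg.Agent.FS.Th

open Cfsg Cfsg.FusionSystem Cfsg.Agent.H802 Cfsg.Agent.H752

universe u v

variable {Ω : Type u} [Group Ω] {S : Subgroup Ω}

/-- The standing hypotheses at a fully normalized subgroup `P` with a subgroup `D` of `Aut(P)` containing the
extendable automorphisms. -/
structure Ctx (F : FusionSystem S) (p : ℕ) (P : Subgroup Ω) (D : Subgroup (MulAut P)) : Prop where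
  pg : IsPGroup p S
  sat : F.IsSaturated p
  fn : F.IsFullyNormalized P
  ext : ∀ α ∈ F.autGroup P, Extends F P α → α ∈ D

theorem Failure.ctx {p : ℕ} (hS : IsPGroup p S) {F : FusionSystem S} (hF : F.IsSaturated p)
    {M : Subgroup Ω → (Ω → Ω) → Prop} {P : Subgroup Ω} {H : Subgroup (MulAut P)} (h : Failure F p M P H) :
    Ctx F p P H := ⟨hS, hF, h.ess.2.1, h.ext⟩

theorem exists_ctx {p : ℕ} [Fact p.Prime] [Finite S] (hS : IsPGroup p S) {F : FusionSystem S} (hF : F.IsSaturated p)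
    {P : Subgroup Ω} (hP : F.IsEssential p P) :
    ∃ D : Subgroup (MulAut P), Ctx F p P D ∧ D ≤ F.autGroup P ∧ ¬ F.autGroup P ≤ D := by
  obtain ⟨D, h1, h2, h3⟩ := exists_proper_of_isEssential hS hF hP
  exact ⟨D, ⟨hS, hF, hP.2.1, h3⟩, h1, fun h => h2 (le_antisymm h1 h)⟩

theorem finite_aut [Finite S] {P : Subgroup Ω} (hP : P ≤ S) : Finite (MulAut P) := by
  have := finite_of_le hP
  exact Finite.of_injective (fun α : MulAut P => (α : P → P)) DFunLike.coe_injective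

theorem isPGroup_zpowers_of_pow {A : Type*} [Group A] {p k : ℕ} {a : A} (h : a ^ p ^ k = 1) :
    IsPGroup p (Subgroup.zpowers a) := by
  rintro ⟨b, hb⟩
  obtain ⟨m, rfl⟩ := Subgroup.mem_zpowers_iff.1 hb
  refine ⟨k, Subtype.ext ?_⟩
  show (a ^ m) ^ p ^ k = 1
  rw [← zpow_natCast, ← zpow_mul, mul_comm, zpow_mul, zpow_natCast, h, one_zpow]

namespace Ctx

variable {p : ℕ} [Fact p.Prime] [Finite S] {F : FusionSystem S} {P : Subgroup Ω} {D : Subgroup (MulAut P)}

omit [Fact p.Prime] [Finite S] in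
theorem le (h : Ctx F p P D) : P ≤ S := h.fn.1

omit [Fact p.Prime] [Finite S] in
theorem mono (h : Ctx F p P D) {D' : Subgroup (MulAut P)} (hD : D ≤ D') : Ctx F p P D' :=
  ⟨h.pg, h.sat, h.fn, fun α hα he => hD (h.ext α hα he)⟩

theorem autS_le (h : Ctx F p P D) (hne : P ≠ S) : autInducedBy S P ≤ D := fun _ hα =>
  h.ext _ (autInducedBy_le_autGroup F h.le hα) (extends_of_mem_autInducedBy h.pg F h.le hne hα)

/-- Sylow's theorem in a subgroup `B` between `Aut_S(P)` and `Aut_F(P)`. -/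
theorem exists_conj_le (h : Ctx F p P D) {B N : Subgroup (MulAut P)} (hSB : autInducedBy S P ≤ B)
    (hBA : B ≤ F.autGroup P) (hNB : N ≤ B) (hN : IsPGroup p N) :
    ∃ d ∈ B, ∀ δ ∈ N, d * δ * d⁻¹ ∈ autInducedBy S P := by
  have := finite_aut h.le
  let R : Sylow p B := ⟨(autInducedBy S P).subgroupOf B,
    (isPGroup_autInducedBy h.pg P).comap_of_injective _ (Subgroup.subtype_injective _), fun {Q} hQ hle => by
      refine le_antisymm (fun x hx => ?_) hle
      refine le_autInducedBy_of_isPGroup h.pg h.sat h.fn (B := Q.map B.subtype)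
        ((Subgroup.map_subtype_le Q).trans hBA) (hQ.map _) (fun δ hδ => ⟨⟨δ, hSB hδ⟩, hle hδ, rfl⟩) ⟨x, hx, rfl⟩⟩
  obtain ⟨R', hR'⟩ := (hN.comap_of_injective B.subtype (Subgroup.subtype_injective _)).exists_le_sylow
  obtain ⟨c, hc⟩ := MulAction.exists_smul_eq B R' R
  refine ⟨c, c.2, fun δ hδ => ?_⟩
  have h3 : c * ⟨δ, hNB hδ⟩ * c⁻¹ ∈ (R : Subgroup B) := by
    rw [← hc]
    exact Subgroup.smul_mem_pointwise_smul _ (MulAut.conj c) (R' : Subgroup B) (hR' hδ)
  exact h3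

/-- **SE.** -/
theorem mem_of_conj (h : Ctx F p P D) {α γ : MulAut P} (hα : α ∈ F.autGroup P) {g : Ω} (hg : g ∈ S) (hgP : g ∉ P)
    (hγ : ∀ x : P, ((γ x : P) : Ω) = g * x * g⁻¹) (hc : α * γ * α⁻¹ ∈ D) : α ∈ D := by
  have hne : P ≠ S := fun he => hgP (he ▸ hg)
  have hγS : γ ∈ autInducedBy S P := conj_mem_autInducedBy hg hγ
  have hγA : γ ∈ F.autGroup P := autInducedBy_le_autGroup F h.le hγS
  have hδA : α * γ * α⁻¹ ∈ F.autGroup P :=
    Subgroup.mul_mem _ (Subgroup.mul_mem _ hα hγA) (Subgroup.inv_mem _ hα)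
  obtain ⟨k, hk⟩ := isPGroup_autInducedBy h.pg P ⟨γ, hγS⟩
  have hk' : γ ^ p ^ k = 1 := congrArg Subtype.val hk
  obtain ⟨d, hd, h1⟩ := h.exists_conj_le (B := D ⊓ F.autGroup P) (N := Subgroup.zpowers (α * γ * α⁻¹))
    (le_inf (h.autS_le hne) (autInducedBy_le_autGroup F h.le)) inf_le_right
    (Subgroup.zpowers_le.2 ⟨hc, hδA⟩) (isPGroup_zpowers_of_pow (k := k) (by rw [conj_pow, hk']; simp))
  have h2 : (d * α) * γ * (d * α)⁻¹ ∈ autInducedBy S P := by
    have h3 : (d * α) * γ * (d * α)⁻¹ = d * (α * γ * α⁻¹) * d⁻¹ := by group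
    rw [h3]
    exact h1 _ (Subgroup.mem_zpowers _)
  have h4 : d * α ∈ F.autGroup P := Subgroup.mul_mem _ hd.2 hα
  have h5 := h.ext _ h4 (extends_of_conj_mem (isReceptive_of_isFullyNormalized h.pg h.sat h.fn) h4 hg hgP hγ h2)
  exact (D.mul_mem_cancel_left hd.1).1 h5

/-- **NP.** -/
theorem mem_of_normalized (h : Ctx F p P D) {α : MulAut P} (hα : α ∈ F.autGroup P) (hαD : α ∉ D)
    {N : Subgroup (MulAut P)} (hNA : N ≤ F.autGroup P) (hN : IsPGroup p N) {γ : MulAut P} {g : Ω} (hg : g ∈ S)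
    (hγ : ∀ x : P, ((γ x : P) : Ω) = g * x * g⁻¹) (hγN : γ ∈ N) (hαN : α * γ * α⁻¹ ∈ N) : g ∈ P := by
  by_contra hgP
  have hne : P ≠ S := fun he => hgP (he ▸ hg)
  obtain ⟨a, ha, h1⟩ := h.exists_conj_le (autInducedBy_le_autGroup F h.le) le_rfl hNA hN
  have h2 : a ∈ D := h.mem_of_conj ha hg hgP hγ (h.autS_le hne (h1 γ hγN))
  have h3 : a * α ∈ D := h.mem_of_conj (Subgroup.mul_mem _ ha hα) hg hgP hγ (by
    have h4 : a * α * γ * (a * α)⁻¹ = a * (α * γ * α⁻¹) * a⁻¹ := by group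
    rw [h4]
    exact h.autS_le hne (h1 _ hαN))
  exact hαD ((D.mul_mem_cancel_left h2).1 h3)

end Ctx

/-- `K` is nongenerating in `P`. -/
def NonGen (P K : Subgroup Ω) : Prop := ∀ M : Subgroup Ω, M ≤ P → P ≤ M ⊔ K → P ≤ M

theorem NonGen.mono {P K K' : Subgroup Ω} (h : NonGen P K) (hle : K' ≤ K) : NonGen P K' :=
  fun M hM h1 => h M hM (h1.trans (sup_le_sup_left hle M))

theorem nonGen_bot (P : Subgroup Ω) : NonGen P ⊥ := fun M _ h => by rwa [sup_bot_eq] at h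

theorem nonGen_sub {P K : Subgroup Ω} (hKP : K ≤ P) (h : NonGen P K) (M : Subgroup P)
    (hM : M ⊔ K.subgroupOf P = ⊤) : M = ⊤ := by
  have h1 := h (M.map P.subtype) (Subgroup.map_subtype_le M) (by
    have h2 := congrArg (Subgroup.map P.subtype) hM
    rw [Subgroup.map_sup, Subgroup.subgroupOf_map_subtype, inf_eq_left.2 hKP, ← MonoidHom.range_eq_map,
      Subgroup.range_subtype] at h2
    exact h2.ge)
  refine top_le_iff.1 fun x _ => ?_
  obtain ⟨y, hy, h2⟩ := h1 x.2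
  rw [← Subtype.ext h2]
  exact hy

theorem nonGen_of_sub {P K : Subgroup Ω} (hKP : K ≤ P)
    (h : ∀ M : Subgroup P, M ⊔ K.subgroupOf P = ⊤ → M = ⊤) : NonGen P K := by
  intro M hM h1
  have h2 := h (M.subgroupOf P) (by
    rw [← Subgroup.subgroupOf_sup hM hKP]
    exact Subgroup.subgroupOf_eq_top.2 h1)
  exact Subgroup.subgroupOf_eq_top.1 h2

/-- In a finite `2`-group `P` the subgroup generated by the squares is nongenerating. -/
theorem nonGen_sq {P : Subgroup Ω} [Finite P] (hP : IsPGroup 2 P) :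
    NonGen P (Subgroup.closure {y | ∃ a ∈ P, y = a * a}) := by
  have hle : Subgroup.closure {y | ∃ a ∈ P, y = a * a} ≤ P := by
    rw [Subgroup.closure_le]
    rintro _ ⟨a, ha, rfl⟩
    exact P.mul_mem ha ha
  refine nonGen_of_sub hle (nonGen_of_sq hP fun x hx => ?_)
  have h1 : Subgroup.closure {y | ∃ a ∈ P, y = a * a} ≤
      (Subgroup.closure {y : P | ∃ a, y = a * a}).map P.subtype := by
    rw [Subgroup.closure_le]
    rintro _ ⟨a, ha, rfl⟩
    exact ⟨⟨a, ha⟩ * ⟨a, ha⟩, Subgroup.subset_closure ⟨_, rfl⟩, rfl⟩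
  obtain ⟨y, hy, h2⟩ := h1 hx
  rw [← Subtype.ext h2]
  exact hy

/-- The Frattini subgroup is nongenerating. -/
theorem nonGen_frattini {P : Subgroup Ω} [Finite P] : NonGen P ((frattini P).map P.subtype) := by
  refine nonGen_of_sub (Subgroup.map_subtype_le _) fun M hM => frattini_nongenerating ?_
  rwa [Subgroup.subgroupOf, Subgroup.comap_map_eq_self_of_injective (Subgroup.subtype_injective P)] at hM

namespace Ctx

variable {p : ℕ} [Fact p.Prime] [Finite S] {F : FusionSystem S} {P : Subgroup Ω} {D : Subgroup (MulAut P)}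

/-- **E1, strong form.**  The chain only has to be invariant under one `α ∈ Aut_F(P) \ D` and under `g`. -/
theorem mem_of_chain (h : Ctx F p P D) {α : MulAut P} (hα : α ∈ F.autGroup P) (hαD : α ∉ D)
    {g : Ω} (hg : g ∈ S) {K : ℕ → Subgroup Ω} {m : ℕ} (hKP : ∀ i, K i ≤ P) (htop : K m = P) (h0 : NonGen P (K 0))
    (hαK : ∀ i, ∀ x ∈ K i, Th.fn α x ∈ K i) (hgK : ∀ i, ∀ x ∈ K i, g * x * g⁻¹ ∈ K i)
    (hstep : ∀ i < m, ∀ x ∈ K (i + 1), g * x * g⁻¹ * x⁻¹ ∈ K i) : g ∈ P := by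
  have := finite_of_le h.le
  have hgN : g ∈ Subgroup.normalizer (P : Set Ω) :=
    Subgroup.mem_normalizer_fintype (fun x hx => by
      have := hgK m x (htop ▸ hx)
      rwa [htop] at this)
  obtain ⟨γ, hγ⟩ := exists_conjAut hgN
  have hγA : γ ∈ F.autGroup P := autInducedBy_le_autGroup F h.le (conj_mem_autInducedBy hg hγ)
  let K' : ℕ → Subgroup P := fun i => (K i).subgroupOf P
  have hst : IsPGroup p (chainStab K' m) := isPGroup_chainStab (h.pg.to_le h.le |>.of_equiv (by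
      exact MulEquiv.refl _)) (by
    show (K m).subgroupOf P = ⊤
    rw [htop, Subgroup.subgroupOf_self]) (nonGen_sub (hKP 0) h0)
  have hγK : γ ∈ chainStab K' m := mem_chainStab (fun i x hx => by
      show ((γ x : P) : Ω) ∈ K i
      rw [hγ]
      exact hgK i x hx) (fun i hi x hx => by
      show ((γ x : P) : Ω) * (x : Ω)⁻¹ ∈ K i
      rw [hγ]
      exact hstep i hi x hx)
  have hαK' : ∀ i x, α x ∈ K' i ↔ x ∈ K' i := fun i => iff_of_mapsTo fun x hx => by
    have h1 := hαK i x hx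
    rwa [fn_apply α x.2] at h1
  exact h.mem_of_normalized hα hαD (N := chainStab K' m ⊓ F.autGroup P) inf_le_right
    (hst.to_inf_left) hg hγ ⟨hγK, hγA⟩ ⟨conj_mem_chainStab hαK' hγK,
      Subgroup.mul_mem _ (Subgroup.mul_mem _ hα hγA) (Subgroup.inv_mem _ hα)⟩

end Ctx

/-- **E1.**  `P` essential, `g ∈ N_S(P)`, a chain of `Aut_F(P)`-invariant subgroups from a nongenerating subgroup to
`P` stabilized by `g`.  Then `g ∈ P`. -/
theorem mem_of_chain {p : ℕ} [Fact p.Prime] [Finite S] (hS : IsPGroup p S) {F : FusionSystem S}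
    (hF : F.IsSaturated p) {P : Subgroup Ω} (hP : F.IsEssential p P) {g : Ω} (hg : g ∈ S)
    (hgP : ∀ x ∈ P, g * x * g⁻¹ ∈ P) {K : ℕ → Subgroup Ω} {m : ℕ} (hKP : ∀ i, K i ≤ P) (htop : K m = P)
    (h0 : NonGen P (K 0)) (hK : ∀ f : Ω → Ω, Mp F P f → (∀ x ∈ P, f x ∈ P) → ∀ i, ∀ x ∈ K i, f x ∈ K i)
    (hstep : ∀ i < m, ∀ x ∈ K (i + 1), g * x * g⁻¹ * x⁻¹ ∈ K i) : g ∈ P := by
  obtain ⟨D, hD, -, hne⟩ := exists_ctx hS hF hP
  obtain ⟨α, hα, hαD⟩ := SetLike.not_le_iff_exists.1 hne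
  exact hD.mem_of_chain hα hαD hg hKP htop h0 (hK _ (mp_fn hD.le hα) (fun x hx => fn_mem α hx))
    (hK _ (mp_conj F hD.le hg) hgP) hstep

end Cfsg.Agent.FS.Th
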