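import Cfsg.Agent.FS.Th.Ess

/-!
# Dihedral pairs at an essential subgroup (E2) and generation (E3) (helper79, project FS)

* `Dih F P D t r α`: `α ∈ Aut_F(P) \ D` of odd prime power order `r ^ k`, `α ^ r ∈ D`, inverted by `c_t`
  (`t ∈ N_S(P) \ P`, `t² ∈ P`) and fixing `t²`.
* `Ctx.exists_dih` (E2): every coset `P t` with `t² ∈ P` contains such a `t'`.
* `le_of_dih` (E3): a system containing `Aut_F(S)` and all these `α` contains `F`.
* `dih_failure`: the first failure principle with the dihedral data.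
-/

set_option autoImplicit false

namespace Cfsg.Agent.FS.Th

open Cfsg Cfsg.FusionSystem Cfsg.Agent.H802 Cfsg.Agent.H752

universe u v

section pure

variable {G : Type u} [Group G]

theorem dihedral_pow {x y : G} (hx : x * x = 1) (hy : y * y = 1) (m : ℕ) :
    (x * y) ^ m * x * (x * y) ^ m * x⁻¹ = 1 := by
  have h1 : x * (x * y) * x⁻¹ = (x * y)⁻¹ := by
    rw [← mul_assoc, hx, one_mul, mul_inv_rev, inv_eq_of_mul_eq_one_right hy]
  have h2 : x * (x * y) ^ m * x⁻¹ = ((x * y) ^ m)⁻¹ := by rw [← conj_pow, h1, inv_pow]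
  calc (x * y) ^ m * x * (x * y) ^ m * x⁻¹ = (x * y) ^ m * (x * (x * y) ^ m * x⁻¹) := by simp only [mul_assoc]
    _ = 1 := by rw [h2, mul_inv_cancel]

open scoped IsMulCommutative in
/-- `τ` inverts `σ` (of odd prime power order), `τ² = c_s`, `τ s = s`: after multiplying by a central element the
"square" is fixed by `σ`. -/
theorem exists_central_fixed [Finite G] (hG : IsPGroup 2 G) {σ τ : MulAut G} {r k : ℕ} (hr : r.Prime) (hr2 : r ≠ 2)
    (hσ : σ ^ r ^ k = 1) (hτ : τ * σ * τ⁻¹ = σ⁻¹) {s : G} (hs : τ * τ = MulAut.conj s) (hτs : τ s = s) :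
    ∃ z ∈ Subgroup.center G, σ (z * τ z * s) = z * τ z * s := by
  have : Fact (Nat.Prime 2) := ⟨Nat.prime_two⟩
  have hτσ : τ * σ = σ⁻¹ * τ := by rw [← hτ, inv_mul_cancel_right]
  have hτ' : τ * σ⁻¹ * τ⁻¹ = σ := by
    have h1 := congrArg (·⁻¹) hτ
    simp only [mul_inv_rev, inv_inv] at h1
    rw [mul_assoc]
    exact h1
  have hστ : σ * τ = τ * σ⁻¹ := by
    calc σ * τ = σ * (σ⁻¹ * τ * σ⁻¹) := by rw [← hτσ, mul_inv_cancel_right]
      _ = τ * σ⁻¹ := by group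
  have hcomm : σ * (τ * τ) = τ * τ * σ := by
    calc σ * (τ * τ) = τ * (σ⁻¹ * τ) := by rw [← mul_assoc, hστ, mul_assoc]
      _ = τ * τ * σ := by rw [← hτσ, mul_assoc]
  have hZ : ∀ (α : MulAut G), ∀ x ∈ Subgroup.center G, α x ∈ Subgroup.center G := fun α x hx =>
    (MulAut.characteristic (Subgroup.center G) α ⟨x, hx⟩).2
  have h1 : σ s * s⁻¹ ∈ Subgroup.center G := by
    rw [Subgroup.mem_center_iff]
    intro g
    have h2 := congrArg (fun α : MulAut G => α (σ⁻¹ (s⁻¹ * g * s))) hcomm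
    simp only [hs, MulAut.mul_apply, MulAut.conj_apply, MulAut.apply_inv_self] at h2
    rw [map_mul, map_mul, map_inv, MulAut.apply_inv_self] at h2
    have h3 : σ s * (s⁻¹ * g * s) * (σ s)⁻¹ = g := by
      have h4 : s * (s⁻¹ * g * s) * s⁻¹ = g := by group
      rw [h4] at h2
      exact h2
    calc g * (σ s * s⁻¹) = (σ s * (s⁻¹ * g * s) * (σ s)⁻¹) * (σ s * s⁻¹) := by rw [h3]
      _ = σ s * s⁻¹ * g := by group
  obtain ⟨s₀, h2, h3⟩ := exists_fixed_coset hr hσ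
    (not_dvd_card_of_isPGroup hr hr2 (hG.to_subgroup (Subgroup.center G))) (hZ σ) h1
  have h4 : σ (τ s₀) = τ s₀ := by
    have h5 : σ⁻¹ s₀ = s₀ := by
      conv_lhs => rw [← h3]
      rw [MulAut.inv_apply_self]
    rw [← MulAut.mul_apply, hστ, MulAut.mul_apply, h5]
  let y : Subgroup.center G := ⟨(s₀ * s⁻¹)⁻¹, Subgroup.inv_mem _ h2⟩
  have hy : s = y * s₀ := by
    show s = (s₀ * s⁻¹)⁻¹ * s₀
    group
  obtain ⟨h, hh⟩ : Odd (r ^ k) := (hr.odd_of_ne_two hr2).pow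
  obtain ⟨z, hz⟩ := exists_norm_fixed (σ := MulAut.characteristic (Subgroup.center G) σ)
    (τ := MulAut.characteristic (Subgroup.center G) τ) (h := h) (by rw [← map_pow, ← hh, hσ, map_one])
    (by rw [← map_mul, ← map_inv, ← map_mul, hτσ]) (y := y) (by
      apply Subtype.ext
      show σ (τ y * (y : G)⁻¹) = τ y * (y : G)⁻¹
      have h5 : τ y * τ s₀ = y * s₀ := by rw [← map_mul, ← hy, hτs]
      have h6 : τ y * (y : G)⁻¹ = s₀ * (τ s₀)⁻¹ := by
        rw [Subgroup.mem_center_iff.1 (Subgroup.inv_mem _ y.2) (τ y)]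
        calc (y : G)⁻¹ * τ y = (y : G)⁻¹ * (τ y * τ s₀) * (τ s₀)⁻¹ := by group
          _ = s₀ * (τ s₀)⁻¹ := by rw [h5]; group
      rw [h6, map_mul, map_inv, h3, h4])
  have hz' : σ (z * τ z * y) = z * τ z * y := congrArg Subtype.val hz
  refine ⟨z, z.2, ?_⟩
  rw [hy, ← mul_assoc, map_mul, hz', h3]

end pure

variable {Ω : Type u} [Group Ω] {S : Subgroup Ω}

/-- The data of E2. -/
structure Dih (F : FusionSystem S) (P : Subgroup Ω) (D : Subgroup (MulAut P)) (t : Ω) (r : ℕ) (α : MulAut P) :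
    Prop where
  mem : α ∈ F.autGroup P
  notMem : α ∉ D
  prime : r.Prime
  ne_two : r ≠ 2
  ord : ∃ k, orderOf α = r ^ k
  pow_mem : α ^ r ∈ D
  tS : t ∈ S
  tN : ∀ x ∈ P, t * x * t⁻¹ ∈ P
  tP : t ∉ P
  tsq : t * t ∈ P
  inv : ∀ x ∈ P, fn α (t * fn α x * t⁻¹) = t * x * t⁻¹
  fix : fn α (t * t) = t * t

theorem mem_normalizer_of_mapsTo [Finite S] {P : Subgroup Ω} (hP : P ≤ S) {t : Ω}
    (h : ∀ x ∈ P, t * x * t⁻¹ ∈ P) : t ∈ Subgroup.normalizer (P : Set Ω) := by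
  have := finite_of_le hP
  exact Subgroup.mem_normalizer_fintype h

/-- **E2**, with the position of `α`: for any `a ∈ Aut_F(P) \ D`, `α` is a power of `c_t · a c_t a⁻¹`. -/
theorem Ctx.exists_dih' [Finite S] {F : FusionSystem S} {P : Subgroup Ω} {D : Subgroup (MulAut P)}
    (h : Ctx F 2 P D) {a : MulAut P} (ha : a ∈ F.autGroup P) (haD : a ∉ D) {t : Ω} (htS : t ∈ S) (htP : t ∉ P)
    (htt : t * t ∈ P) {τ : MulAut P} (hτ : ∀ x : P, ((τ x : P) : Ω) = t * x * t⁻¹) :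
    ∃ y ∈ P, ∃ (r m : ℕ), Dih F P D (y * t) r ((τ * (a * τ * a⁻¹)) ^ m) := by
  have : Fact (Nat.Prime 2) := ⟨Nat.prime_two⟩
  have := finite_of_le h.le
  have := finite_aut h.le
  have hne : P ≠ S := fun he => htP (he ▸ htS)
  have hτS : τ ∈ autInducedBy S P := conj_mem_autInducedBy htS hτ
  have hτA : τ ∈ F.autGroup P := autInducedBy_le_autGroup F h.le hτS
  have hτD : τ ∈ D := h.autS_le hne hτS
  have hID : Inn P ≤ D := (inn_le_autInducedBy h.le).trans (h.autS_le hne)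
  have hττ : τ * τ = MulAut.conj (⟨t * t, htt⟩ : P) := by
    ext x
    rw [MulAut.mul_apply, hτ, hτ]
    simp only [MulAut.conj_apply, Subgroup.coe_mul, Subgroup.coe_inv]
    group
  have hρA : τ * (a * τ * a⁻¹) ∈ F.autGroup P :=
    Subgroup.mul_mem _ hτA (Subgroup.mul_mem _ (Subgroup.mul_mem _ ha hτA) (Subgroup.inv_mem _ ha))
  have hρD : τ * (a * τ * a⁻¹) ∉ D := fun h1 =>
    haD (h.mem_of_conj ha htS htP hτ ((D.mul_mem_cancel_left hτD).1 h1))
  obtain ⟨r, k, m, hr, hord, hσD, hσr⟩ := exists_primePow_not_mem D _ _ rfl hρD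
  set σ := (τ * (a * τ * a⁻¹)) ^ m with hσ
  have hσA : σ ∈ F.autGroup P := Subgroup.pow_mem _ hρA m
  have hinn : σ * τ * σ * τ⁻¹ ∈ Inn P := by
    rw [← QuotientGroup.eq_one_iff]
    have h1 : (QuotientGroup.mk' (Inn P) τ) * (QuotientGroup.mk' (Inn P) τ) = 1 := by
      rw [← map_mul, hττ]
      exact (QuotientGroup.eq_one_iff _).2 ⟨_, rfl⟩
    have h2 : (QuotientGroup.mk' (Inn P) (a * τ * a⁻¹)) * (QuotientGroup.mk' (Inn P) (a * τ * a⁻¹)) = 1 := by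
      have h3 : a * τ * a⁻¹ * (a * τ * a⁻¹) = a * (τ * τ) * a⁻¹ := by group
      rw [← map_mul, h3, map_mul, map_mul, map_mul, h1, mul_one, ← map_mul, mul_inv_cancel, map_one]
    have h3 := dihedral_pow h1 h2 m
    rw [← map_mul, ← map_pow, ← map_inv, ← map_mul, ← map_mul, ← map_mul] at h3
    exact h3
  have hr2 : r ≠ 2 := by
    rintro rfl
    refine hσD (h.mem_of_conj hσA htS htP hτ ?_)
    have h1 : σ * τ * σ⁻¹ = (σ * (σ * τ * σ * τ⁻¹)⁻¹ * σ⁻¹) * σ ^ 2 * τ := by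
      rw [pow_two]
      have h2 : τ * σ⁻¹ = (σ * τ * σ * τ⁻¹)⁻¹ * σ * τ := by group
      calc σ * τ * σ⁻¹ = σ * (τ * σ⁻¹) := mul_assoc _ _ _
        _ = σ * ((σ * τ * σ * τ⁻¹)⁻¹ * σ * τ) := by rw [← h2]
        _ = _ := by group
    rw [h1]
    exact D.mul_mem (D.mul_mem (hID (Subgroup.Normal.conj_mem inferInstance _ (Subgroup.inv_mem _ hinn) σ)) hσr) hτD
  have hσk : σ ^ r ^ k = 1 := by rw [← hord, pow_orderOf_eq_one]
  obtain ⟨_, ⟨y, rfl⟩, h1⟩ := exists_inverting hr hσk (not_dvd_card_of_isPGroup hr hr2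
    ((isPGroup_autInducedBy h.pg P).to_le (inn_le_autInducedBy h.le))) hinn
  set τ₁ := MulAut.conj y * τ with hτ₁
  have hτ₁x : ∀ x : P, ((τ₁ x : P) : Ω) = (y * t) * x * ((y : Ω) * t)⁻¹ := by
    intro x
    rw [hτ₁, MulAut.mul_apply]
    simp only [MulAut.conj_apply, Subgroup.coe_mul, Subgroup.coe_inv, hτ]
    group
  have htN : ∀ x ∈ P, t * x * t⁻¹ ∈ P := fun x hx => by
    rw [← hτ ⟨x, hx⟩]
    exact (τ _).2
  have hs : (y : Ω) * t * (y * t) ∈ P := by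
    have h2 : (y : Ω) * t * (y * t) = y * (t * y * t⁻¹) * (t * t) := by group
    rw [h2]
    exact P.mul_mem (P.mul_mem y.2 (htN y y.2)) htt
  obtain ⟨z, hz, h2⟩ := exists_central_fixed (h.pg.to_le h.le |>.of_equiv (by exact MulEquiv.refl _)) hr hr2 hσk h1
    (s := ⟨_, hs⟩) (by
      ext x
      rw [MulAut.mul_apply, hτ₁x, hτ₁x]
      simp only [MulAut.conj_apply, Subgroup.coe_mul, Subgroup.coe_inv]
      group) (by
      apply Subtype.ext
      rw [hτ₁x]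
      group)
  have hzc : ∀ x ∈ P, (z : Ω) * x * (z : Ω)⁻¹ = x := fun x hx => by
    have h3 : x * (z : Ω) = z * x := congrArg Subtype.val (Subgroup.mem_center_iff.1 hz ⟨x, hx⟩)
    rw [← h3, mul_inv_cancel_right]
  have hconj : ∀ x : P, ((z : Ω) * y * t) * x * ((z : Ω) * y * t)⁻¹ = (τ₁ x : P) := fun x => by
    rw [← hzc _ (τ₁ x).2, hτ₁x]
    group
  have hsq : ((z : Ω) * y * t) * ((z : Ω) * y * t) = ((z * τ₁ z * ⟨_, hs⟩ : P) : Ω) := by
    simp only [Subgroup.coe_mul, hτ₁x]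
    group
  refine ⟨z * y, P.mul_mem z.2 y.2, r, m, hσA, hσD, hr, hr2, ⟨k, hord⟩, hσr,
    S.mul_mem (h.le (P.mul_mem z.2 y.2)) htS, fun x hx => ?_,
    fun h3 => htP ((P.mul_mem_cancel_left (P.mul_mem z.2 y.2)).1 h3), ?_, fun x hx => ?_, ?_⟩
  · rw [hconj ⟨x, hx⟩]
    exact (τ₁ _).2
  · rw [hsq]
    exact Subtype.prop _
  · rw [fn_apply σ hx, hconj, hconj ⟨x, hx⟩, fn_apply σ (τ₁ _).2]
    have h3 : σ * τ₁ * σ = τ₁ := by
      calc σ * τ₁ * σ = σ * (τ₁ * σ * τ₁⁻¹) * τ₁ := by group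
        _ = τ₁ := by rw [h1]; group
    conv_rhs => rw [← h3]
    rfl
  · rw [hsq, fn_apply σ (Subtype.prop _)]
    exact congrArg Subtype.val h2

/-- **E2.** -/
theorem Ctx.exists_dih [Finite S] {F : FusionSystem S} {P : Subgroup Ω} {D : Subgroup (MulAut P)}
    (h : Ctx F 2 P D) (hne : ¬ F.autGroup P ≤ D) {t : Ω} (htS : t ∈ S) (htN : ∀ x ∈ P, t * x * t⁻¹ ∈ P)
    (htP : t ∉ P) (htt : t * t ∈ P) : ∃ y ∈ P, ∃ (r : ℕ) (α : MulAut P), Dih F P D (y * t) r α := by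
  obtain ⟨a, ha, haD⟩ := SetLike.not_le_iff_exists.1 hne
  obtain ⟨τ, hτ⟩ := exists_conjAut (mem_normalizer_of_mapsTo h.le htN)
  obtain ⟨y, hy, r, m, h1⟩ := h.exists_dih' ha haD htS htP htt hτ
  exact ⟨y, hy, r, _, h1⟩

/-- A proper subgroup `P` of the finite `2`-group `S` is normalized by some `t ∈ S \ P` with `t² ∈ P`. -/
theorem exists_sq_mem [Finite S] (hS : IsPGroup 2 S) {P : Subgroup Ω} (hP : P ≤ S) (hne : P ≠ S) :
    ∃ t ∈ S, (∀ x ∈ P, t * x * t⁻¹ ∈ P) ∧ t ∉ P ∧ t * t ∈ P := by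
  have : Fact (Nat.Prime 2) := ⟨Nat.prime_two⟩
  obtain ⟨g, hg, hgP⟩ := SetLike.exists_of_lt (lt_inf_normalizer hS hP le_rfl hne)
  obtain ⟨k, hk⟩ := hS ⟨g, hg.1⟩
  have hk' : g ^ 2 ^ k ∈ P := by
    have h1 : g ^ 2 ^ k = 1 := congrArg Subtype.val hk
    rw [h1]
    exact P.one_mem
  clear hk
  induction k generalizing g with
  | zero => exact absurd (by simpa using hk') hgP
  | succ k ih =>
    by_cases h1 : g * g ∈ P
    · exact ⟨g, hg.1, fun x hx => (Subgroup.mem_normalizer_iff.1 hg.2 x).1 hx, hgP, h1⟩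
    · refine ih (g * g) (Subgroup.mul_mem _ hg hg) h1 ?_
      rwa [← pow_two, ← pow_mul, ← pow_succ']

/-- E2 without a prescribed coset. -/
theorem Ctx.exists_dih₀ [Finite S] {F : FusionSystem S} {P : Subgroup Ω} {D : Subgroup (MulAut P)}
    (h : Ctx F 2 P D) (hne : ¬ F.autGroup P ≤ D) (hPS : P ≠ S) :
    ∃ (t : Ω) (r : ℕ) (α : MulAut P), Dih F P D t r α := by
  obtain ⟨t, h1, h2, h3, h4⟩ := exists_sq_mem h.pg h.le hPS
  obtain ⟨y, -, r, α, h5⟩ := h.exists_dih hne h1 h2 h3 h4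
  exact ⟨_, r, α, h5⟩

/-- **E3.**  If `Aut_F(S) ≤ Aut_E(S)` and for every essential `P` (with `F` and `E` agreeing on larger subgroups) there
is a coset `P t` such that no dihedral datum outside `Aut_E(P)` exists in it, then `F ≤ E`. -/
theorem le_of_dih [Finite S] (hS : IsPGroup 2 S) {F : FusionSystem S} (hF : F.IsSaturated 2) (E : FusionSystem S)
    (htop : F.autGroup S ≤ E.autGroup S)
    (hess : ∀ P : Subgroup Ω, F.IsEssential 2 P → (∀ R : Subgroup Ω, Nat.card P < Nat.card R → F.Hom R ⊆ E.Hom R) →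
      Ctx F 2 P (E.autGroup P) → ∃ t ∈ S, (∀ x ∈ P, t * x * t⁻¹ ∈ P) ∧ t ∉ P ∧ t * t ∈ P ∧
        ∀ y ∈ P, ∀ (r : ℕ) (α : MulAut P), ¬ Dih F P (E.autGroup P) (y * t) r α) : F ≤ E := by
  have : Fact (Nat.Prime 2) := ⟨Nat.prime_two⟩
  refine le_of_essential hS hF E htop fun P hP hbig => ?_
  have hc : Ctx F 2 P (E.autGroup P) := ⟨hS, hF, hP.2.1, by
    rintro α - ⟨R, hQR, hcard, ψ, hψ, h⟩
    rw [mem_autGroup_iff E hP.1.1]
    exact mem_of_agree (hbig R hcard hψ) hQR (fun x hx => (h ⟨x, hx⟩).symm)⟩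
  by_contra hne
  obtain ⟨t, h1, h2, h3, h4, h5⟩ := hess P hP hbig hc
  obtain ⟨y, hy, r, α, h6⟩ := hc.exists_dih hne h1 h2 h3 h4
  exact h5 y hy r α h6

/-- **E3**, plain form. -/
theorem le_of_dih' [Finite S] (hS : IsPGroup 2 S) {F : FusionSystem S} (hF : F.IsSaturated 2) (E : FusionSystem S)
    (htop : F.autGroup S ≤ E.autGroup S)
    (hess : ∀ (P : Subgroup Ω) (t : Ω) (r : ℕ) (α : MulAut P), F.IsEssential 2 P →
      ¬ Dih F P (E.autGroup P) t r α) : F ≤ E := by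
  have : Fact (Nat.Prime 2) := ⟨Nat.prime_two⟩
  refine le_of_dih hS hF E htop fun P hP _ _ => ?_
  obtain ⟨t, h1, h2, h3, h4⟩ := exists_sq_mem hS hP.1.1 (ne_of_isEssential hS hF hP)
  exact ⟨t, h1, h2, h3, h4, fun y _ r α => hess P _ r α hP⟩

/-- At a first failure every coset `P t` (`t ∈ N_S(P) \ P`, `t² ∈ P`) contains a dihedral datum. -/
theorem Failure.exists_dih [Finite S] (hS : IsPGroup 2 S) {F : FusionSystem S} (hF : F.IsSaturated 2)
    {M : Subgroup Ω → (Ω → Ω) → Prop} {P : Subgroup Ω} {H : Subgroup (MulAut P)} (h : Failure F 2 M P H)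
    {t : Ω} (htS : t ∈ S) (htN : ∀ x ∈ P, t * x * t⁻¹ ∈ P) (htP : t ∉ P) (htt : t * t ∈ P) :
    ∃ y ∈ P, ∃ (r : ℕ) (α : MulAut P), Dih F P H (y * t) r α :=
  (h.ctx hS hF).exists_dih h.not_le htS htN htP htt

theorem Failure.exists_dih₀ [Finite S] (hS : IsPGroup 2 S) {F : FusionSystem S} (hF : F.IsSaturated 2)
    {M : Subgroup Ω → (Ω → Ω) → Prop} {P : Subgroup Ω} {H : Subgroup (MulAut P)} (h : Failure F 2 M P H) :
    ∃ (t : Ω) (r : ℕ) (α : MulAut P), Dih F P H t r α := by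
  have : Fact (Nat.Prime 2) := ⟨Nat.prime_two⟩
  exact (h.ctx hS hF).exists_dih₀ h.not_le (ne_of_isEssential hS hF h.ess)

end Cfsg.Agent.FS.Th
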