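import Cfsg.Agent.H754.MpSat
import Cfsg.Agent.H802.FusEss
import Cfsg.Agent.H802.FusCentric

/-!
# The first failure principle (helper80, project FS)

`Closed F M`: a property `M P f` of maps of `F` that is closed under restriction, composition and inverses and holds
for the conjugations by elements of `S`.  If it fails for some map of the saturated system `F`, then it fails either
for an element of odd prime power order of `Aut_F(S)` or, at an essential subgroup `P` such that it holds on all larger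
subgroups, for an element of `Aut_F(P)`; the elements of `Aut_F(P)` with the property form a proper subgroup
containing all automorphisms that extend to a larger subgroup.
-/

set_option autoImplicit false

namespace Cfsg.Agent.FS.Th

open Cfsg Cfsg.FusionSystem Cfsg.Agent.H802 Cfsg.Agent.H752

universe u v

/-- An element outside a subgroup has a power of prime power order outside the subgroup whose `r`-th power is
inside. -/
theorem exists_primePow_not_mem {A : Type*} [Group A] [Finite A] (H : Subgroup A) :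
    ∀ (n : ℕ) (a : A), orderOf a = n → a ∉ H →
      ∃ (r k m : ℕ), r.Prime ∧ orderOf (a ^ m) = r ^ k ∧ a ^ m ∉ H ∧ (a ^ m) ^ r ∈ H := by
  intro n
  induction n using Nat.strong_induction_on with
  | _ n ih =>
  intro a hn ha
  have hpos : 0 < n := hn ▸ orderOf_pos a
  have hn1 : n ≠ 1 := by
    rintro rfl
    rw [orderOf_eq_one_iff] at hn
    exact ha (hn ▸ H.one_mem)
  -- if some proper power lies outside `H`, use induction
  by_cases hex : ∃ q : ℕ, q.Prime ∧ q ∣ n ∧ a ^ q ∉ H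
  · obtain ⟨q, hq, hqn, hqa⟩ := hex
    have h1 : orderOf (a ^ q) < n := by
      rw [orderOf_pow_of_dvd hq.ne_zero (hn ▸ hqn), hn]
      exact Nat.div_lt_self hpos hq.one_lt
    obtain ⟨r, k, m, hr, h2, h3, h4⟩ := ih _ h1 (a ^ q) rfl hqa
    exact ⟨r, k, q * m, hr, by rw [pow_mul]; exact h2, by rw [pow_mul]; exact h3, by rw [pow_mul]; exact h4⟩
  · push Not at hex
    obtain ⟨r, hr, hrn⟩ := Nat.exists_prime_and_dvd hn1
    have huniq : ∀ q : ℕ, q.Prime → q ∣ n → q = r := by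
      intro q hq hqn
      by_contra hne
      have hc : Nat.Coprime q r := (Nat.coprime_primes hq hr).2 hne
      apply ha
      have h1 : a = (a ^ q) ^ (Nat.gcdA q r) * (a ^ r) ^ (Nat.gcdB q r) := by
        rw [← zpow_natCast, ← zpow_natCast, ← zpow_mul, ← zpow_mul, ← zpow_add, ← Nat.gcd_eq_gcd_ab, hc]
        simp
      rw [h1]
      exact H.mul_mem (H.zpow_mem (hex q hq hqn) _) (H.zpow_mem (hex r hr hrn) _)
    obtain ⟨k, hk⟩ : ∃ k, n = r ^ k :=
      ⟨_, Nat.eq_prime_pow_of_unique_prime_dvd hpos.ne' (fun {d} hd hdn => huniq d hd hdn)⟩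
    exact ⟨r, k, 1, hr, by rw [pow_one, hn, hk], by rwa [pow_one], by rw [pow_one]; exact hex r hr hrn⟩

variable {Ω : Type u} [Group Ω] {S : Subgroup Ω}

/-- an automorphism of `P` as a function on the ambient group -/
noncomputable abbrev fn {P : Subgroup Ω} (α : MulAut P) : Ω → Ω := ex fun x => ((α x : P) : Ω)

theorem fn_apply {P : Subgroup Ω} (α : MulAut P) {x : Ω} (hx : x ∈ P) : fn α x = (α ⟨x, hx⟩ : P) :=
  ex_apply _ hx

theorem fn_mem {P : Subgroup Ω} (α : MulAut P) {x : Ω} (hx : x ∈ P) : fn α x ∈ P := by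
  rw [fn_apply α hx]
  exact (α _).2

theorem fn_mul {P : Subgroup Ω} (α β : MulAut P) {x : Ω} (hx : x ∈ P) : fn (α * β) x = fn α (fn β x) := by
  rw [fn_apply _ hx, fn_apply α (fn_mem β hx)]
  show ((α (β _) : P) : Ω) = _
  congr 2
  exact Subtype.ext (fn_apply β hx).symm

theorem fn_one {P : Subgroup Ω} {x : Ω} (hx : x ∈ P) : fn (1 : MulAut P) x = x := by
  rw [fn_apply _ hx]
  rfl

theorem fn_inv_fn {P : Subgroup Ω} (α : MulAut P) {x : Ω} (hx : x ∈ P) : fn α⁻¹ (fn α x) = x := by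
  rw [← fn_mul _ _ hx, inv_mul_cancel, fn_one hx]

theorem fn_fn_inv {P : Subgroup Ω} (α : MulAut P) {x : Ω} (hx : x ∈ P) : fn α (fn α⁻¹ x) = x := by
  rw [← fn_mul _ _ hx, mul_inv_cancel, fn_one hx]

theorem mp_fn {F : FusionSystem S} {P : Subgroup Ω} (hP : P ≤ S) {α : MulAut P} (hα : α ∈ F.autGroup P) :
    Mp F P (fn α) := (mp_iff_autGroup hP α).1 hα

/-- A property of maps closed under the operations of a fusion system. -/
structure Closed (F : FusionSystem S) (M : Subgroup Ω → (Ω → Ω) → Prop) : Prop where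
  congr : ∀ (P : Subgroup Ω) (f g : Ω → Ω), Mp F P f → M P f → (∀ x ∈ P, g x = f x) → M P g
  comp : ∀ (P Q : Subgroup Ω) (f g : Ω → Ω), Mp F P f → Mp F Q g → M P f → M Q g →
    (∀ x ∈ P, f x ∈ Q) → M P (fun x => g (f x))
  inv : ∀ (P R : Subgroup Ω) (f g : Ω → Ω), Mp F P f → M P f → Mp F R g →
    (∀ y ∈ R, ∃ x ∈ P, f x = y ∧ g y = x) → (∀ x ∈ P, f x ∈ R) → M R g
  conj : ∀ P : Subgroup Ω, P ≤ S → ∀ s ∈ S, M P (fun x => s * x * s⁻¹)

namespace Closed

variable {F : FusionSystem S} {M : Subgroup Ω → (Ω → Ω) → Prop}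

/-- the subsystem of the maps with the property -/
def sys (h : Closed F M) : FusionSystem S where
  Hom P := {φ | φ ∈ F.Hom P ∧ M P (ex φ)}
  le_of_mem hφ := F.le_of_mem hφ.1
  injective_of_mem hφ := F.injective_of_mem hφ.1
  conj_mem := fun {P g} hP hg => ⟨F.conj_mem hP hg, h.congr P _ _ (mp_conj F hP hg) (h.conj P hP g hg)
    (fun x hx => ex_apply _ hx)⟩
  comp_mem := fun {P Q φ ψ} hφ hψ hPQ => by
    have h1 : ∀ x ∈ P, ex φ x ∈ Q := fun x hx => by
      rw [ex_apply _ hx]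
      exact hPQ _
    refine ⟨F.comp_mem hφ.1 hψ.1 hPQ, h.congr P _ _ ((mp_ex hφ.1).comp (mp_ex hψ.1) h1)
      (h.comp P Q _ _ (mp_ex hφ.1) (mp_ex hψ.1) hφ.2 hψ.2 h1) fun x hx => ?_⟩
    rw [ex_apply _ hx, ex_apply (φ : P → Ω) hx, ex_apply _ (hPQ ⟨x, hx⟩)]
    rfl
  inv_mem := fun {P φ} hφ => by
    obtain ⟨ψ, hψ, h1⟩ := F.inv_mem hφ.1
    refine ⟨ψ, ⟨hψ, h.inv P _ _ _ (mp_ex hφ.1) hφ.2 (mp_ex hψ) ?_ ?_⟩, h1⟩
    · rintro _ ⟨x, rfl⟩
      refine ⟨x, x.2, ex_coe _ x, ?_⟩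
      rw [ex_apply _ (⟨x, rfl⟩ : φ x ∈ φ.range)]
      exact h1 x
    · intro x hx
      rw [ex_apply _ hx]
      exact ⟨_, rfl⟩

theorem mp_sys_iff (h : Closed F M) {P : Subgroup Ω} {f : Ω → Ω} : Mp h.sys P f ↔ Mp F P f ∧ M P f := by
  constructor
  · rintro ⟨φ, hφ, h1⟩
    exact ⟨⟨φ, hφ.1, h1⟩, h.congr P _ _ (mp_ex hφ.1) hφ.2 fun x hx => by rw [ex_apply _ hx, h1]⟩
  · rintro ⟨⟨φ, hφ, h1⟩, h2⟩
    exact ⟨φ, ⟨hφ, h.congr P _ _ ⟨φ, hφ, h1⟩ h2 fun x hx => by rw [ex_apply _ hx, h1]⟩, h1⟩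

theorem res (h : Closed F M) {P R : Subgroup Ω} {f : Ω → Ω} (hf : Mp F P f) (hM : M P f) (hR : R ≤ P) :
    M R f := (h.mp_sys_iff.1 ((h.mp_sys_iff.2 ⟨hf, hM⟩).res hR)).2

theorem mem_autGroup_iff (h : Closed F M) {P : Subgroup Ω} (hP : P ≤ S) (α : MulAut P) :
    α ∈ h.sys.autGroup P ↔ α ∈ F.autGroup P ∧ M P (fn α) := by
  rw [mp_iff_autGroup hP, mp_iff_autGroup hP, h.mp_sys_iff]

end Closed

/-- In `Aut_F(S)` the elements of `p`-power order are inner. -/
theorem mem_autInducedBy_of_orderOf {p : ℕ} [Fact p.Prime] [Finite S] (hS : IsPGroup p S) {F : FusionSystem S}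
    (hF : F.IsSaturated p) {α : MulAut S} (hα : α ∈ F.autGroup S) {k : ℕ} (hk : orderOf α = p ^ k) :
    α ∈ autInducedBy S S := by
  obtain ⟨φ, hφ, g, hg, h1⟩ := exists_conj_of_orderOf hF le_rfl hα (k := k) (by rw [← hk, pow_orderOf_eq_one])
  obtain ⟨β, hβ, h2⟩ := exists_aut hφ (range_eq_of_mapsTo hφ (hom_apply_mem hφ))
  rw [mem_autInducedBy_iff]
  refine ⟨(β.symm ⟨g, hg⟩ : S), (β.symm ⟨g, hg⟩).2, fun x => ?_⟩
  have h3 : β (α x) = ⟨g, hg⟩ * β x * (⟨g, hg⟩ : S)⁻¹ := by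
    apply Subtype.ext
    rw [h2, h1]
    simp only [Subgroup.coe_mul, Subgroup.coe_inv, h2]
  have h4 : α x = β.symm ⟨g, hg⟩ * x * (β.symm ⟨g, hg⟩)⁻¹ := by
    apply β.injective
    rw [h3, map_mul, map_mul, map_inv, MulEquiv.apply_symm_apply]
  rw [h4]
  simp only [Subgroup.coe_mul, Subgroup.coe_inv]

/-- The data at the first essential subgroup where a closed property fails. -/
structure Failure (F : FusionSystem S) (p : ℕ) (M : Subgroup Ω → (Ω → Ω) → Prop) (P : Subgroup Ω)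
    (H : Subgroup (MulAut P)) : Prop where
  ess : F.IsEssential p P
  big : ∀ (R : Subgroup Ω) (f : Ω → Ω), Mp F R f → Nat.card P < Nat.card R → M R f
  mem : ∀ α : MulAut P, α ∈ H ↔ α ∈ F.autGroup P ∧ M P (fn α)
  ext : ∀ α ∈ F.autGroup P, Extends F P α → α ∈ H
  not_le : ¬ F.autGroup P ≤ H

/-- **First failure.** -/
theorem first_failure {p : ℕ} [Fact p.Prime] [Finite S] (hS : IsPGroup p S) {F : FusionSystem S}
    (hF : F.IsSaturated p) {M : Subgroup Ω → (Ω → Ω) → Prop} (h : Closed F M)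
    (htop : ∀ f : Ω → Ω, Mp F S f → M S f) {P₀ : Subgroup Ω} {f₀ : Ω → Ω} (hf₀ : Mp F P₀ f₀)
    (hM₀ : ¬ M P₀ f₀) : ∃ (P : Subgroup Ω) (H : Subgroup (MulAut P)), Failure F p M P H := by
  by_contra hcon
  push Not at hcon
  have key := le_of_essential hS hF h.sys (fun α hα => (h.mem_autGroup_iff le_rfl α).2
    ⟨hα, htop _ (mp_fn le_rfl hα)⟩) (fun Q hQ hbig => by
      have hQS : Q ≤ S := hQ.1.1
      have hb : ∀ (R : Subgroup Ω) (f : Ω → Ω), Mp F R f → Nat.card Q < Nat.card R → M R f := by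
        rintro R f ⟨φ, hφ, h1⟩ hlt
        exact (h.mp_sys_iff.1 ⟨φ, hbig R hlt hφ, h1⟩).2
      by_contra hne
      refine hcon Q (h.sys.autGroup Q) ⟨hQ, hb, h.mem_autGroup_iff hQS, ?_, hne⟩
      rintro α hα ⟨R, hQR, hlt, ψ, hψ, h1⟩
      refine (h.mem_autGroup_iff hQS α).2 ⟨hα, ?_⟩
      refine h.congr Q _ _ ((mp_ex hψ).res hQR) (h.res (mp_ex hψ) (hb R _ (mp_ex hψ) hlt) hQR) fun x hx => ?_
      rw [fn_apply _ hx, ex_apply _ (hQR hx)]
      exact (h1 ⟨x, hx⟩).symm) P₀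
  obtain ⟨φ, hφ, h1⟩ := hf₀
  exact hM₀ (h.mp_sys_iff.1 ⟨φ, key hφ, h1⟩).2

/-- **First failure, with the top case.**  A closed property which fails somewhere fails for an element of
`Aut_F(S)` of prime power order `r ^ k`, `r ≠ p`, whose `r`-th power has it, or first at an essential subgroup. -/
theorem first_failure' {p : ℕ} [Fact p.Prime] [Finite S] (hS : IsPGroup p S) {F : FusionSystem S}
    (hF : F.IsSaturated p) {M : Subgroup Ω → (Ω → Ω) → Prop} (h : Closed F M)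
    {P₀ : Subgroup Ω} {f₀ : Ω → Ω} (hf₀ : Mp F P₀ f₀) (hM₀ : ¬ M P₀ f₀) :
    (∃ α ∈ F.autGroup S, ∃ r k : ℕ, r.Prime ∧ r ≠ p ∧ orderOf α = r ^ k ∧ ¬ M S (fn α) ∧ M S (fn (α ^ r))) ∨
      ((∀ f : Ω → Ω, Mp F S f → M S f) ∧ ∃ (P : Subgroup Ω) (H : Subgroup (MulAut P)), Failure F p M P H) := by
  by_cases htop : ∀ f : Ω → Ω, Mp F S f → M S f
  · exact Or.inr ⟨htop, first_failure hS hF h htop hf₀ hM₀⟩
  · left
    push Not at htop
    obtain ⟨f, hf, hM⟩ := htop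
    obtain ⟨α, hα, h1⟩ := hf.exists_aut (fun x hx => hf.mem hx)
    have h2 : α ∉ h.sys.autGroup S := fun h2 => hM (h.congr S _ _ (mp_fn le_rfl hα)
      ((h.mem_autGroup_iff le_rfl α).1 h2).2 fun x hx => by rw [h1 x hx, fn_apply _ hx])
    obtain ⟨r, k, m, hr, h3, h4, h5⟩ := exists_primePow_not_mem (h.sys.autGroup S) _ α rfl h2
    have hαm : α ^ m ∈ F.autGroup S := Subgroup.pow_mem _ hα m
    refine ⟨α ^ m, hαm, r, k, hr, ?_, h3, fun h6 => h4 ((h.mem_autGroup_iff le_rfl _).2 ⟨hαm, h6⟩),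
      ((h.mem_autGroup_iff le_rfl _).1 h5).2⟩
    rintro rfl
    exact h4 (autInducedBy_le_autGroup h.sys le_rfl (mem_autInducedBy_of_orderOf hS hF hαm h3))

end Cfsg.Agent.FS.Th
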