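import Cfsg.Agent.FS.Th.Loc

/-!
# No transvections when `|N(P) : P| > 2` (NT) (helper79, project FS)

For a local datum `Loc P A D` with `|N_G(P) : P| > 2`, an element `t ∈ N_G(P) \ P` with `t² ∈ P` does not act as a
transvection on an `A`-invariant elementary abelian section on which it differs from its conjugates by `A \ D`.
-/

set_option autoImplicit false

namespace Cfsg.Agent.FS.Th

open Cfsg Cfsg.FusionSystem Cfsg.Agent.H802 Cfsg.Agent.H752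

universe u v

section acts

variable {H : Type u} {H' : Type v} [Group H] [Group H']

theorem exists_descAut (f : H →* H') (hf : Function.Surjective f) (A : Subgroup (MulAut H))
    (hA : ∀ α ∈ A, ∀ x, f x = 1 → f (α x) = 1) : ∃ ρ : A →* MulAut H', ∀ (α : A) (x : H), ρ α (f x) = f (α.1 x) := by
  have h1 : ∀ α ∈ A, ∃ φ : H' →* H', ∀ x, φ (f x) = f (α x) := fun α hα =>
    ⟨f.liftOfRightInverse (Function.surjInv hf) (Function.rightInverse_surjInv hf)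
      ⟨f.comp α.toMonoidHom, fun x hx => hA α hα x hx⟩, fun x => f.liftOfRightInverse_comp_apply _ _ _ x⟩
  have h2 : ∀ α : A, ∃ β : MulAut H', ∀ x, β (f x) = f (α.1 x) := by
    intro α
    obtain ⟨φ, hφ⟩ := h1 α α.2
    obtain ⟨ψ, hψ⟩ := h1 α⁻¹ (A.inv_mem α.2)
    refine ⟨⟨⟨φ, ψ, fun y => ?_, fun y => ?_⟩, φ.map_mul⟩, hφ⟩
    · obtain ⟨x, rfl⟩ := hf y
      rw [hφ, hψ, MulAut.inv_apply_self]
    · obtain ⟨x, rfl⟩ := hf y
      rw [hψ, hφ, MulAut.apply_inv_self]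
  choose β hβ using h2
  refine ⟨MonoidHom.mk' β fun a b => ?_, hβ⟩
  ext y
  obtain ⟨x, rfl⟩ := hf y
  rw [MulAut.mul_apply, hβ, hβ, hβ]
  rfl

theorem exists_resAut (K : Subgroup H) (A : Subgroup (MulAut H)) (hA : ∀ α ∈ A, ∀ x ∈ K, α x ∈ K) :
    ∃ ρ : A →* MulAut K, ∀ (α : A) (x : K), ((ρ α x : K) : H) = α.1 x := by
  refine ⟨MonoidHom.mk' (fun α => ⟨⟨fun x => ⟨α.1 x, hA α α.2 x x.2⟩, fun x => ⟨α.1⁻¹ x, hA _ (A.inv_mem α.2) x x.2⟩,
    fun x => Subtype.ext (MulAut.inv_apply_self _ _ _), fun x => Subtype.ext (MulAut.apply_inv_self _ _ _)⟩,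
    fun x y => Subtype.ext (map_mul α.1 (x : H) y)⟩) fun a b => rfl, fun α x => rfl⟩

end acts

/-- The abstract transvection argument. -/
theorem nt_abstract {A V : Type*} [Group A] [Group V] (ρ : A →* MulAut V) (hV : ∀ x : V, x * x = 1)
    (D : Subgroup A) {τ h a₀ : A} (hτ2 : ρ τ * ρ τ = 1) {v : V} (htv : ∀ x, ρ τ x = x ∨ ρ τ x = x * v)
    (hodd : ∀ a ∉ D, ∃ m n : ℕ, Odd n ∧ (τ * (a * τ * a⁻¹)) ^ m ∉ D ∧ ((τ * (a * τ * a⁻¹)) ^ m) ^ n = 1)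
    (hne : ∀ a ∉ D, ρ (a * τ * a⁻¹) ≠ ρ τ)
    (h1 : (h * a₀)⁻¹ ∉ D) (h2 : (h * a₀)⁻¹ * a₀ ∉ D) (h3 : (h * a₀)⁻¹ * (τ * a₀) ∉ D) (ha : a₀ ∉ D) : False := by
  have hcomm : ∀ x y : V, x * y = y * x := fun x y => by
    have e1 : (x * y)⁻¹ = x * y := inv_eq_of_mul_eq_one_right (hV _)
    rw [← e1, mul_inv_rev, inv_eq_of_mul_eq_one_right (hV x), inv_eq_of_mul_eq_one_right (hV y)]
  have hτv : ρ τ v = v := by
    rcases htv v with e | e
    · exact e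
    · rw [hV] at e
      have e2 : v = 1 := (ρ τ).injective (by rw [e, map_one])
      rw [e2, map_one]
  have claim : ∀ a ∉ D, ρ τ (ρ a v) = ρ a v * v ∧ ρ τ (ρ a v) ≠ ρ a v := by
    intro a haD
    suffices hs : ρ τ (ρ a v) ≠ ρ a v from ⟨(htv _).resolve_left hs, hs⟩
    intro hfix
    set w := ρ a v with hw
    set τ' := ρ (a * τ * a⁻¹) with hτ'
    have e1 : ∀ x, τ' x = x ∨ τ' x = x * w := fun x => by
      rw [hτ', map_mul, map_mul, map_inv, MulAut.mul_apply, MulAut.mul_apply]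
      rcases htv ((ρ a)⁻¹ x) with e | e
      · left
        rw [e, MulAut.apply_inv_self]
      · right
        rw [e, map_mul, MulAut.apply_inv_self]
    have e2 : τ' w = w := by
      rw [hτ', map_mul, map_mul, map_inv, MulAut.mul_apply, MulAut.mul_apply, hw, MulAut.inv_apply_self, hτv]
    have e3 : ∀ x, ρ τ (ρ τ x) = x := fun x => by rw [← MulAut.mul_apply, hτ2, MulAut.one_apply]
    set ν := (ρ τ * τ') ^ 2 with hν
    have e4 : ∀ x, ν x = x ∨ ν x = x * w := fun x => by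
      rw [hν, pow_two, MulAut.mul_apply, MulAut.mul_apply, MulAut.mul_apply]
      rcases e1 x with e | e <;> rw [e]
      · rcases e1 (ρ τ x) with e' | e' <;> rw [e']
        · exact Or.inl (e3 x)
        · exact Or.inr (by rw [map_mul, e3, hfix])
      · rcases e1 (ρ τ (x * w)) with e' | e' <;> rw [e']
        · exact Or.inr (e3 _)
        · exact Or.inl (by rw [map_mul, e3, hfix, mul_assoc, hV, mul_one])
    have e5 : ν w = w := by
      rw [hν, pow_two, MulAut.mul_apply, MulAut.mul_apply, MulAut.mul_apply, e2, hfix, e2, hfix]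
    have e6 : (ρ τ * τ') ^ 4 = 1 := by
      ext x
      rw [show 4 = 2 + 2 from rfl, pow_add, ← hν, MulAut.mul_apply, MulAut.one_apply]
      rcases e4 x with e | e
      · rw [e, e]
      · rw [e, map_mul, e, e5, mul_assoc, hV, mul_one]
    obtain ⟨m, n, hn, hD, hσ⟩ := hodd a haD
    set σ := (τ * (a * τ * a⁻¹)) ^ m with hσdef
    have e7 : ρ σ ^ 4 = 1 := by
      rw [hσdef, map_pow, map_mul, ← hτ', ← pow_mul, mul_comm m 4, pow_mul, e6, one_pow]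
    have e8 : ρ σ ^ n = 1 := by rw [← map_pow, hσ, map_one]
    have e9 : ρ σ = 1 := by
      have hc : Nat.Coprime 4 n := by
        rw [show 4 = 2 ^ 2 from rfl]
        exact Nat.Coprime.pow_left 2 (Nat.coprime_two_left.2 hn)
      rw [← orderOf_eq_one_iff]
      exact Nat.eq_one_of_dvd_coprimes hc (orderOf_dvd_of_pow_eq_one e7) (orderOf_dvd_of_pow_eq_one e8)
    exact hne σ hD (by rw [map_mul, map_mul, map_inv, e9, one_mul, inv_one, mul_one])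
  have c1 := (claim _ h1).1
  have c2 := (claim _ h2).1
  have c3 := (claim _ h3).2
  have c4 := (claim _ ha).1
  apply c3
  rw [map_mul ρ _ a₀, MulAut.mul_apply] at c2
  rw [map_mul ρ _ (τ * a₀), map_mul ρ τ a₀, MulAut.mul_apply, MulAut.mul_apply, c4, map_mul, map_mul, c2, c1]
  rw [mul_assoc, hcomm v, mul_assoc, hV, mul_one]

variable {G : Type u} [Group G] [Finite G] {P : Subgroup G} {A D : Subgroup (MulAut P)}

namespace Loc

/-- NT for an abstract `A`-module `V` on which `P` acts trivially. -/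
theorem nt_module (h : Loc P A D) {V : Type*} [Group V] (ρ : A →* MulAut V) (hV : ∀ x : V, x * x = 1)
    (hinn : ∀ (y : P) (hy : MulAut.conj y ∈ A), ρ ⟨_, hy⟩ = 1)
    {t : G} (htP : t ∉ P) (htt : t * t ∈ P) {τ : MulAut P} (hτ : Cj t τ)
    {s : G} (hsN : ∀ x ∈ P, s * x * s⁻¹ ∈ P) (hsP : s ∉ P) (hst : s⁻¹ * t ∉ P)
    (hne : ∀ a : A, a.1 ∉ D → ρ (a * ⟨τ, h.autA hτ.mem⟩ * a⁻¹) ≠ ρ ⟨τ, h.autA hτ.mem⟩) {v : V}
    (htv : ∀ x, ρ ⟨τ, h.autA hτ.mem⟩ x = x ∨ ρ ⟨τ, h.autA hτ.mem⟩ x = x * v) : False := by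
  obtain ⟨a, ha, haD⟩ := SetLike.not_le_iff_exists.1 h.ne
  obtain ⟨η, hη⟩ := exists_cj hsN
  have hηD : η ∈ D := h.autD hη.mem
  have hττ : τ * τ = MulAut.conj (⟨t * t, htt⟩ : P) := (hτ.mul hτ).unique (cj_conj ⟨t * t, htt⟩)
  refine nt_abstract ρ hV (D.subgroupOf A) (τ := ⟨τ, h.autA hτ.mem⟩) (h := ⟨η, h.autA hη.mem⟩) (a₀ := ⟨a, ha⟩)
    ?_ htv ?_ hne ?_ ?_ ?_ haD
  · rw [← map_mul, ← hinn ⟨t * t, htt⟩ (hττ ▸ A.mul_mem (h.autA hτ.mem) (h.autA hτ.mem))]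
    congr 1
    exact Subtype.ext hττ
  · intro b hb
    obtain ⟨y, -, r, m, h1⟩ := h.exists_dih' b.2 hb htP htt hτ
    obtain ⟨k, hk⟩ := h1.ord
    exact ⟨m, r ^ k, (h1.prime.odd_of_ne_two h1.ne_two).pow, h1.notMem, Subtype.ext hk⟩
  · intro h1
    have h2 : (η * a)⁻¹ ∈ D := h1
    exact haD ((D.mul_mem_cancel_left hηD).1 ((D.inv_mem_iff).1 h2))
  · intro h1
    have h2 : (η * a)⁻¹ * a ∈ D := h1
    refine haD ((D.inv_mem_iff).1 (h.se a⁻¹ (A.inv_mem ha) s⁻¹ η⁻¹ (fun h3 => hsP ((P.inv_mem_iff).1 h3)) hη.inv ?_))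
    rwa [mul_inv_rev, ← inv_inv a, inv_inv a⁻¹] at h2
  · intro h1
    have h2 : (η * a)⁻¹ * (τ * a) ∈ D := h1
    refine haD ((D.inv_mem_iff).1 (h.se a⁻¹ (A.inv_mem ha) _ _ hst (hη.inv.mul hτ) ?_))
    have h3 : a⁻¹ * (η⁻¹ * τ) * a⁻¹⁻¹ = (η * a)⁻¹ * (τ * a) := by group
    rwa [h3]

/-- **NT on an invariant elementary abelian central subgroup `K` of `P`.** -/
theorem nt_sub (h : Loc P A D) {K : Subgroup G} (hKP : K ≤ P) (hKA : ∀ α ∈ A, ∀ x ∈ K, fn α x ∈ K)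
    (hK2 : ∀ x ∈ K, x * x = 1) (hKc : ∀ x ∈ K, ∀ y ∈ P, y * x = x * y)
    {t : G} (htN : ∀ x ∈ P, t * x * t⁻¹ ∈ P) (htP : t ∉ P) (htt : t * t ∈ P)
    {s : G} (hsN : ∀ x ∈ P, s * x * s⁻¹ ∈ P) (hsP : s ∉ P) (hst : s⁻¹ * t ∉ P)
    (hne : ∀ a ∈ A, a ∉ D → ∃ x ∈ K, t * x = x * t ∧ t * fn a x ≠ fn a x * t) {v : G}
    (htv : ∀ x ∈ K, t * x * t⁻¹ = x ∨ t * x * t⁻¹ = x * v) : False := by
  obtain ⟨τ, hτ⟩ := exists_cj htN
  obtain ⟨ρ, hρ⟩ := exists_resAut (K.subgroupOf P) A fun α hα x hx => by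
    have h1 := hKA α hα x hx
    rwa [fn_apply α x.2] at h1
  have hvK : (∀ x ∈ K, t * x * t⁻¹ = x) ∨ v ∈ K := by
    by_cases h1 : ∀ x ∈ K, t * x * t⁻¹ = x
    · exact Or.inl h1
    · push Not at h1
      obtain ⟨x, hx, h2⟩ := h1
      have h3 := hKA τ (h.autA hτ.mem) x hx
      rw [hτ.fn (hKP hx), (htv x hx).resolve_left h2] at h3
      exact Or.inr ((K.mul_mem_cancel_left hx).1 h3)
  obtain ⟨v', hv'⟩ : ∃ v' : K.subgroupOf P, ∀ x ∈ K, t * x * t⁻¹ = x ∨ t * x * t⁻¹ = x * ((v' : P) : G) := by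
    rcases hvK with h1 | h1
    · exact ⟨1, fun x hx => Or.inl (h1 x hx)⟩
    · exact ⟨⟨⟨v, hKP h1⟩, h1⟩, htv⟩
  refine h.nt_module ρ (fun x => Subtype.ext (Subtype.ext (hK2 _ x.2))) (fun y hy => ?_) htP htt hτ hsN hsP hst
    (fun a haD he => ?_) (v := v') (fun x => ?_)
  · ext x
    rw [hρ]
    show (y : G) * x * (y : G)⁻¹ = x
    rw [hKc ((x : P) : G) x.2 y y.2, mul_inv_cancel_right]
  · obtain ⟨x, hx, h1, h2⟩ := hne a a.2 haD
    apply h2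
    have h3 : fn a.1 x ∈ K := hKA a a.2 x hx
    have h4 := congrArg (fun β : MulAut (K.subgroupOf P) => (((β ⟨⟨_, hKP h3⟩, h3⟩ : K.subgroupOf P) : P) : G)) he
    simp only [hρ] at h4
    rw [hτ] at h4
    have h5 : (⟨fn a.1 x, hKP h3⟩ : P) = a.1 ⟨x, hKP hx⟩ := Subtype.ext (fn_apply _ _)
    have h6 : τ ⟨x, hKP hx⟩ = ⟨x, hKP hx⟩ := Subtype.ext (by rw [hτ]; show t * x * t⁻¹ = x; rw [h1, mul_inv_cancel_right])
    rw [h5] at h4
    have h7 : ((a * ⟨τ, h.autA hτ.mem⟩ * a⁻¹ : A) : MulAut P) (a.1 ⟨x, hKP hx⟩) = a.1 ⟨x, hKP hx⟩ := by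
      show a.1 (τ (a.1⁻¹ (a.1 _))) = _
      rw [MulAut.inv_apply_self, h6]
    rw [h7, ← fn_apply] at h4
    rw [eq_mul_inv_iff_mul_eq] at h4
    exact h4.symm
  · rcases hv' _ x.2 with e | e
    · left
      apply Subtype.ext
      apply Subtype.ext
      rw [hρ, hτ]
      exact e
    · right
      apply Subtype.ext
      apply Subtype.ext
      rw [hρ, hτ]
      exact e

/-- **NT on a quotient `P / K`**, `K` invariant and containing the squares. -/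
theorem nt_quot (h : Loc P A D) {K : Subgroup G} (hKA : ∀ α ∈ A, ∀ x ∈ P, x ∈ K → fn α x ∈ K)
    (hK2 : ∀ x ∈ P, x * x ∈ K)
    {t : G} (htP : t ∉ P) (htt : t * t ∈ P) {τ : MulAut P} (hτ : Cj t τ)
    {s : G} (hsN : ∀ x ∈ P, s * x * s⁻¹ ∈ P) (hsP : s ∉ P) (hst : s⁻¹ * t ∉ P)
    (hne : ∀ a ∈ A, a ∉ D → ∃ x ∈ P, (fn τ x)⁻¹ * fn (a * τ * a⁻¹) x ∉ K) {v : G} (hv : v ∈ P)
    (htv : ∀ x ∈ P, x⁻¹ * (t * x * t⁻¹) ∈ K ∨ (x * v)⁻¹ * (t * x * t⁻¹) ∈ K) : False := by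
  have hn : (K.subgroupOf P).Normal := ⟨fun n hn g => by
    have h1 := hKA _ (h.autA (cj_conj g).mem) n n.2 hn
    rwa [fn_apply _ n.2] at h1⟩
  obtain ⟨ρ, hρ⟩ := exists_descAut (QuotientGroup.mk' (K.subgroupOf P)) (QuotientGroup.mk'_surjective _) A
    fun α hα x hx => by
      have h1 := hKA α hα x x.2 ((QuotientGroup.eq_one_iff x).1 hx)
      rw [fn_apply α x.2] at h1
      exact (QuotientGroup.eq_one_iff _).2 h1
  have hV : ∀ x : P ⧸ K.subgroupOf P, x * x = 1 := fun x => by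
    obtain ⟨y, rfl⟩ := QuotientGroup.mk'_surjective _ x
    rw [← map_mul]
    exact (QuotientGroup.eq_one_iff _).2 (hK2 y y.2)
  have hcomm : ∀ x y : P ⧸ K.subgroupOf P, x * y = y * x := fun x y => by
    have e1 : (x * y)⁻¹ = x * y := inv_eq_of_mul_eq_one_right (hV _)
    rw [← e1, mul_inv_rev, inv_eq_of_mul_eq_one_right (hV x), inv_eq_of_mul_eq_one_right (hV y)]
  refine h.nt_module ρ hV (fun y hy => ?_) htP htt hτ hsN hsP hst
    (fun a haD he => ?_) (v := QuotientGroup.mk' _ ⟨v, hv⟩) (fun x => ?_)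
  · ext x
    obtain ⟨z, rfl⟩ := QuotientGroup.mk'_surjective _ x
    rw [hρ]
    show QuotientGroup.mk' _ (y * z * y⁻¹) = QuotientGroup.mk' _ z
    rw [map_mul, map_mul, map_inv, hcomm _ (QuotientGroup.mk' _ z), mul_inv_cancel_right]
  · obtain ⟨x, hx, h1⟩ := hne a a.2 haD
    apply h1
    have h2 := congrArg (fun β : MulAut (P ⧸ K.subgroupOf P) => β (QuotientGroup.mk' _ ⟨x, hx⟩)) he
    simp only [hρ] at h2
    rw [fn_apply _ hx, fn_apply _ hx]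
    exact (QuotientGroup.eq (s := K.subgroupOf P)).1 h2.symm
  · obtain ⟨z, rfl⟩ := QuotientGroup.mk'_surjective _ x
    rw [hρ, ← map_mul]
    rcases htv z z.2 with e | e
    · left
      refine (QuotientGroup.eq.2 ?_).symm
      rw [Subgroup.mem_subgroupOf, Subgroup.coe_mul, Subgroup.coe_inv, hτ]
      exact e
    · right
      refine (QuotientGroup.eq.2 ?_).symm
      rw [Subgroup.mem_subgroupOf, Subgroup.coe_mul, Subgroup.coe_inv, hτ]
      exact e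

/-- For a nongenerating invariant `K`, `τ` and `a τ a⁻¹` differ on `P / K`. -/
theorem ne_of_nonGen (h : Loc P A D) {K : Subgroup G} (hKP : K ≤ P) (hKA : ∀ α ∈ A, ∀ x ∈ P, x ∈ K → fn α x ∈ K)
    (hK : NonGen P K) {t : G} (htP : t ∉ P) {τ : MulAut P} (hτ : Cj t τ) {a : MulAut P} (ha : a ∈ A) (haD : a ∉ D) :
    ∃ x ∈ P, (fn τ x)⁻¹ * fn (a * τ * a⁻¹) x ∉ K := by
  have : Fact (Nat.Prime 2) := ⟨Nat.prime_two⟩
  have := finAut P
  by_contra hcon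
  push Not at hcon
  have hτA : τ ∈ A := h.autA hτ.mem
  let K' : ℕ → Subgroup P := fun i => if i = 0 then K.subgroupOf P else ⊤
  have hst : IsPGroup 2 (chainStab K' 1) := isPGroup_chainStab (h.pg.to_subgroup P) rfl (nonGen_sub hKP hK)
  have hinv : ∀ α ∈ A, ∀ i, ∀ x ∈ K' i, α x ∈ K' i := fun α hα i x hx => by
    by_cases hi : i = 0
    · subst hi
      have h1 := hKA α hα x x.2 hx
      rwa [fn_apply _ x.2] at h1
    · simp only [K', if_neg hi]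
      exact Subgroup.mem_top _
  have hN : τ ∈ Subgroup.normalizer ((chainStab K' 1 ⊓ A : Subgroup (MulAut P)) : Set (MulAut P)) :=
    Subgroup.mem_normalizer_fintype fun δ hδ => ⟨conj_mem_chainStab (fun i => iff_of_mapsTo (hinv τ hτA i)) hδ.1,
      A.mul_mem (A.mul_mem hτA hδ.2) (A.inv_mem hτA)⟩
  obtain ⟨k, hk⟩ := h.pgAut ⟨τ, hτ.mem⟩
  have hB : a * τ * a⁻¹ ∈ A := A.mul_mem (A.mul_mem ha hτA) (A.inv_mem ha)
  refine htP (h.mem_of_normalized ha haD (N := Subgroup.zpowers τ ⊔ (chainStab K' 1 ⊓ A))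
    (sup_le (Subgroup.zpowers_le.2 hτA) inf_le_right)
    (IsPGroup.to_sup_of_normal_right' (isPGroup_zpowers_of_pow (k := k) (congrArg Subtype.val hk)) hst.to_inf_left
      (Subgroup.zpowers_le.2 hN)) hτ
    ((le_sup_left : Subgroup.zpowers τ ≤ _) (Subgroup.mem_zpowers τ)) ?_)
  have h1 : a * τ * a⁻¹ = (a * τ * a⁻¹ * τ⁻¹) * τ := by group
  rw [h1]
  refine Subgroup.mul_mem _ ((le_sup_right : chainStab K' 1 ⊓ A ≤ _) ⟨mem_chainStab
    (hinv _ (A.mul_mem hB (A.inv_mem hτA))) fun i hi x _ => ?_, A.mul_mem hB (A.inv_mem hτA)⟩)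
    ((le_sup_left : Subgroup.zpowers τ ≤ _) (Subgroup.mem_zpowers τ))
  have hi0 : i = 0 := by omega
  subst hi0
  have h2 := hcon _ (τ⁻¹ x).2
  rw [fn_apply _ (τ⁻¹ x).2, fn_apply _ (τ⁻¹ x).2] at h2
  have h3 := hKA _ (h.autA (cj_conj x).mem) _ (P.mul_mem (P.inv_mem (Subtype.prop _)) (Subtype.prop _)) h2
  rw [(cj_conj x).fn (P.mul_mem (P.inv_mem (Subtype.prop _)) (Subtype.prop _))] at h3
  have h4 : (τ (⟨((τ⁻¹ x : P) : G), (τ⁻¹ x).2⟩ : P)) = x := MulAut.apply_inv_self _ _ _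
  rw [h4, ← mul_assoc, mul_inv_cancel, one_mul] at h3
  exact h3

omit [Finite G] in
/-- If the stabilizer of `M ∩ P` (acting trivially on `P` modulo `M`) lies in `D` and `t` acts trivially modulo `M`, then
`τ` and `a τ a⁻¹` differ on `P / K` for an invariant `K ≤ M`. -/
theorem ne_of_stab (h : Loc P A D) {K M : Subgroup G} (hKM : ∀ x ∈ P, x ∈ K → x ∈ M)
    (hM : ∀ α ∈ A, (∀ x ∈ P, x⁻¹ * fn α x ∈ M) → α ∈ D)
    {t : G} (htP : t ∉ P) {τ : MulAut P} (hτ : Cj t τ) (htM : ∀ x ∈ P, x⁻¹ * (t * x * t⁻¹) ∈ M)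
    {a : MulAut P} (ha : a ∈ A) (haD : a ∉ D) :
    ∃ x ∈ P, (fn τ x)⁻¹ * fn (a * τ * a⁻¹) x ∉ K := by
  by_contra hcon
  push Not at hcon
  have hτA : τ ∈ A := h.autA hτ.mem
  refine haD (h.se a ha t τ htP hτ (hM _ (A.mul_mem (A.mul_mem ha hτA) (A.inv_mem ha)) fun x hx => ?_))
  have h1 := hKM _ (P.mul_mem (P.inv_mem (fn_mem _ hx)) (fn_mem _ hx)) (hcon x hx)
  have h2 := M.mul_mem (htM x hx) (by rwa [hτ.fn hx] at h1)
  rwa [mul_assoc, mul_inv_cancel_left] at h2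

end Loc

end Cfsg.Agent.FS.Th
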