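import Cfsg.Agent.H767.FusTransfer
import Cfsg.Agent.H802.FusAlp

/-!
# Extremal Thompson transfer for saturated 2-fusion systems (helper80, project FS, item T1)

`tr_extremal`: `θ : S →* A` (abelian), `g ∈ S` such that `θ` kills all `F`-conjugates of the even powers of `g`, and
`θ (φ g) = a` for all maps `φ` of `F` defined on `N_S(⟨g⟩)`.  Then the transfer of `θ` takes the value `a` at `g`.
Consequences for `g ∈ foc(F)`.
-/

set_option autoImplicit false

namespace Cfsg.Agent.FS.Th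

open Cfsg Cfsg.FusionSystem Cfsg.Agent.H802 Cfsg.Agent.H767.GSet Cfsg.Agent.H767.Biset
  Cfsg.Agent.H767.Transfer Cfsg.Agent.H767.FusTransfer MulAction

universe u v

/-- A semi-invariant function on an invariant set of points. -/
theorem exists_section_on {H : Type*} [Group H] {A : Type*} [CommGroup A] {X : Type*} [MulAction H X]
    (χ : H →* A) (p : X → Prop) (hχ : ∀ (h : H) (x : X), p x → h • x = x → χ h = 1)
    (hp : ∀ (h : H) (x : X), p x → p (h • x)) :
    ∃ f : X → A, ∀ (h : H) (x : X), p x → f (h • x) = χ h * f x := by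
  classical
  have hex : ∀ x : X, ∃ k : H, k • ((Quotient.mk (orbitRel H X) x).out) = x := by
    intro x
    have h1 : (orbitRel H X).r ((Quotient.mk (orbitRel H X) x).out) x := Quotient.mk_out (s := orbitRel H X) x
    have h2 := (orbitRel H X).symm h1
    exact h2
  choose k hk using hex
  refine ⟨fun x => χ (k x), fun h x hx => ?_⟩
  have hq : (Quotient.mk (orbitRel H X) (h • x)) = (Quotient.mk (orbitRel H X) x) :=
    Quotient.sound (s := orbitRel H X) ⟨h, rfl⟩
  have h1 := hk (h • x)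
  rw [hq] at h1
  have h2 := hk x
  have h3 : ((k (h • x))⁻¹ * (h * k x)) • ((Quotient.mk (orbitRel H X) x).out) =
      ((Quotient.mk (orbitRel H X) x).out) := by
    rw [mul_smul, mul_smul, h2, inv_smul_eq_iff]
    exact h1.symm
  have h5 : p ((Quotient.mk (orbitRel H X) x).out) := by
    have h6 := hp (k x)⁻¹ x hx
    have h7 : (k x)⁻¹ • x = (Quotient.mk (orbitRel H X) x).out := by
      rw [inv_smul_eq_iff]; exact h2.symm
    rwa [h7] at h6
  have h4 := hχ _ _ h5 h3
  rw [map_mul, map_inv, map_mul, inv_mul_eq_one] at h4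
  exact h4

variable {Ω : Type u} [Group Ω] {S : Subgroup Ω}

section cf

variable {G R A X : Type*} [Group G] [Group R] [CommGroup A] [MulAction (G × R) X]
  {θ : R →* A} {f : X → A}

theorem cf_one (hf : IsSec (G := G) θ f) (q : Quo G R X) : cf hf 1 q = 1 := by
  obtain ⟨x, rfl⟩ := qmk_surjective q
  rw [cf_qmk]
  have : ((1, 1) : G × R) • x = x := one_smul (G × R) x
  rw [this, mul_inv_cancel]

theorem cf_pow (hf : IsSec (G := G) θ f) (g : G) (q : Quo G R X) (hq : g • q = q) (n : ℕ) :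
    cf hf (g ^ n) q = cf hf g q ^ n := by
  induction n with
  | zero => rw [pow_zero, pow_zero, cf_one]
  | succ n ih => rw [pow_succ, cf_mul, hq, ih, pow_succ]

theorem cf_conj (hf : IsSec (G := G) θ f) (g w : G) (q : Quo G R X) (hq : (w⁻¹ * g * w) • q = q) :
    cf hf g (w • q) = cf hf (w⁻¹ * g * w) q := by
  have h1 := cf_mul hf g w q
  have h2 := cf_mul hf w (w⁻¹ * g * w) q
  have h3 : w * (w⁻¹ * g * w) = g * w := by group
  rw [h3, hq, h1, mul_comm] at h2
  exact mul_left_cancel h2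

end cf

/-- The value of the cocycle at a fixed point. -/
theorem cf_fixed {F : FusionSystem S} {X : Type*} [MulAction (S × S) X] {A : Type*} [CommGroup A]
    {θ : S →* A} {f : X → A} (hf : IsSec (G := S) θ f) (x : X) {P : Subgroup Ω} {φ : P →* Ω}
    (hφ : φ ∈ F.Hom P) (he : stabilizer (S × S) x = tdiag S P φ) (g : S)
    (hg : g • (qmk x : Quo S S X) = qmk x) :
    ∃ hgP : (g : Ω) ∈ P, cf hf g (qmk x) = θ ⟨φ ⟨g, hgP⟩, hom_apply_mem hφ _⟩ := by
  rw [smul_qmk, eq_comm, qmk_eq_iff] at hg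
  obtain ⟨r, hr⟩ := hg
  have hst : ((g, r⁻¹) : S × S) ∈ tdiag S P φ := by
    rw [← he, mem_stabilizer_iff]
    have h2 : ((g, r⁻¹) : S × S) = ((1, r⁻¹) : S × S) * ((g, 1) : S × S) := by
      rw [Prod.mk_mul_mk, one_mul, mul_one]
    rw [h2, mul_smul, ← hr, smul_smul, Prod.mk_mul_mk, one_mul, inv_mul_cancel]
    exact one_smul (S × S) x
  obtain ⟨hgP, hgr⟩ := hst
  refine ⟨hgP, ?_⟩
  have h2 : (⟨φ ⟨g, hgP⟩, hom_apply_mem hφ _⟩ : S) = r⁻¹ := Subtype.ext hgr
  rw [h2, map_inv, cf_qmk, ← hr, hf, mul_inv_cancel_right]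

/-- **The extremal transfer computation.** -/
theorem tr_extremal [Finite S] (hS : IsPGroup 2 S) {F : FusionSystem S} {X : Type*} [MulAction (S × S) X]
    [Finite X] (hX : Gen F X) {A : Type*} [CommGroup A] {θ : S →* A} {f : X → A} (hf : IsSec (G := S) θ f)
    {m : ℕ} (hm : Nat.card X = Nat.card S * m) (hodd : ¬ 2 ∣ m) (g : S) (a : A)
    (h1 : ∀ (k : ℕ) (P : Subgroup Ω) (φ : P →* Ω) (hφ : φ ∈ F.Hom P) (hy : ((g ^ (2 * k) : S) : Ω) ∈ P),
      θ ⟨φ ⟨_, hy⟩, hom_apply_mem hφ _⟩ = 1)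
    (h2 : ∀ (P : Subgroup Ω) (φ : P →* Ω) (hφ : φ ∈ F.Hom P) (hgP : (g : Ω) ∈ P),
      (∀ w : S, w ∈ Subgroup.normalizer (Subgroup.zpowers g : Set S) → (w : Ω) ∈ P) →
      θ ⟨φ ⟨g, hgP⟩, hom_apply_mem hφ _⟩ = a) : tr hf g = a := by
  classical
  -- powers of `g`
  have hzp : ∀ y ∈ Subgroup.zpowers g, ∃ n : ℕ, y = g ^ n := by
    intro y hy
    rw [← mem_powers_iff_mem_zpowers] at hy
    obtain ⟨n, hn⟩ := hy
    exact ⟨n, hn.symm⟩
  have hfixpow : ∀ (q : Quo S S X), g • q = q → ∀ n : ℕ, (g ^ n) • q = q := by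
    intro q hq n
    induction n with
    | zero => rw [pow_zero, one_smul]
    | succ n ih => rw [pow_succ, mul_smul, hq, ih]
  -- a better section on the points not fixed by `g`
  set H : Subgroup (S × S) := (Subgroup.zpowers g).comap (MonoidHom.fst S S) with hH
  let χ : H →* A := ((θ.comp (MonoidHom.snd S S))⁻¹).comp H.subtype
  have hχv : ∀ (z : S × S) (hz : z ∈ H), χ ⟨z, hz⟩ = (θ z.2)⁻¹ := fun z hz => rfl
  let p : X → Prop := fun x => g • (qmk x : Quo S S X) ≠ qmk x
  have hqs : ∀ (z : S × S) (x : X), (qmk (z • x) : Quo S S X) = z.1 • qmk x := by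
    rintro ⟨z1, z2⟩ x
    rw [smul_qmk, eq_comm, qmk_eq_iff]
    refine ⟨z2, ?_⟩
    rw [smul_smul, Prod.mk_mul_mk, one_mul, mul_one]
  obtain ⟨f', hf'⟩ := exists_section_on (X := X) χ p (by
    rintro ⟨z, hz⟩ x hx hzx
    have hzx' : z • x = x := hzx
    obtain ⟨P, φ, hφ, he⟩ := hX x
    have h3 : z ∈ tdiag S P φ := by rw [← he]; exact hzx'
    obtain ⟨h4, h5⟩ := h3
    obtain ⟨n, hn⟩ := hzp z.1 hz
    have hfix : z.1 • (qmk x : Quo S S X) = qmk x := by rw [← hqs, hzx']
    rcases Nat.even_or_odd' n with ⟨k, hk | hk⟩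
    · rw [hχv, inv_eq_one]
      have h6 : ((g ^ (2 * k) : S) : Ω) ∈ P := by rw [← hk, ← hn]; exact h4
      have h7 := h1 k P φ hφ h6
      have h8 : (⟨φ ⟨_, h6⟩, hom_apply_mem hφ _⟩ : S) = z.2 := by
        apply Subtype.ext
        show φ ⟨_, h6⟩ = _
        rw [← h5]
        congr 2
        rw [← hk, ← hn]
      rwa [h8] at h7
    · exfalso
      apply hx
      -- an odd power of `g` generates `⟨g⟩`
      obtain ⟨e, he2⟩ := hS g
      have hcop : Nat.Coprime n (orderOf g) := by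
        refine Nat.Coprime.coprime_dvd_right (orderOf_dvd_of_pow_eq_one he2) ?_
        refine Nat.Coprime.pow_right e ?_
        rw [hk]
        exact Nat.coprime_two_right.2 (odd_two_mul_add_one k)
      obtain ⟨l, hl⟩ := exists_pow_eq_self_of_coprime hcop
      rw [← hl, ← hn]
      clear hl
      induction l with
      | zero => rw [pow_zero, one_smul]
      | succ l ih => rw [pow_succ, mul_smul, hfix, ih]) (by
    rintro ⟨z, hz⟩ x hx hzx
    apply hx
    have h3 : (qmk (z • x) : Quo S S X) = z.1 • qmk x := hqs z x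
    have hzx' : g • (qmk (z • x) : Quo S S X) = qmk (z • x) := hzx
    rw [h3, smul_smul] at hzx'
    obtain ⟨n, hn⟩ := hzp z.1 hz
    have h4 : g * z.1 = z.1 * g := by rw [hn]; group
    rw [h4, mul_smul] at hzx'
    exact smul_left_cancel z.1 hzx')
  let f2 : X → A := fun x => if p x then f' x else f x
  have hpr : ∀ (r : S) (x : X), p (((1, r) : S × S) • x) ↔ p x := by
    intro r x
    show g • (qmk _ : Quo S S X) ≠ qmk _ ↔ _
    rw [hqs, one_smul]
  have hf2 : IsSec (G := S) θ f2 := by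
    intro r x
    by_cases hx : p x
    · have h3 : ((1, r) : S × S) ∈ H := (Subgroup.zpowers g).one_mem
      have h4 := hf' ⟨_, h3⟩ x hx
      show (if p _ then f' _ else f _) = _ * (if p x then f' x else f x)
      rw [if_pos ((hpr r x).2 hx), if_pos hx]
      exact h4
    · show (if p _ then f' _ else f _) = _ * (if p x then f' x else f x)
      rw [if_neg (fun h => hx ((hpr r x).1 h)), if_neg hx]
      exact hf r x
  rw [tr_eq hf hf2 g]
  set c : Quo S S X → A := cf hf2 g with hc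
  have hc1 : ∀ q : Quo S S X, g • q ≠ q → c q = 1 := by
    intro q hq
    obtain ⟨x, rfl⟩ := qmk_surjective q
    have hx : p x := hq
    have h3 : ((g, 1) : S × S) ∈ H := Subgroup.mem_zpowers g
    have h4 := hf' ⟨_, h3⟩ x hx
    have h5 : p (((g, 1) : S × S) • x) := by
      show g • (qmk _ : Quo S S X) ≠ qmk _
      rw [hqs]
      intro h
      exact hq (smul_left_cancel g h)
    rw [hc, cf_qmk]
    show (if p _ then f' _ else f _) * (if p x then f' x else f x)⁻¹ = 1
    rw [if_pos h5, if_pos hx]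
    have h6 : f' (((g, 1) : S × S) • x) = (θ 1)⁻¹ * f' x := h4
    rw [h6, map_one, inv_one, one_mul, mul_inv_cancel]
  have hc2 : ∀ q : Quo S S X, g • q = q → c q ^ 2 = 1 := by
    intro q hq
    rw [hc, ← cf_pow hf2 g q hq 2]
    obtain ⟨x, rfl⟩ := qmk_surjective q
    obtain ⟨P, φ, hφ, he⟩ := hX x
    obtain ⟨hgP, h3⟩ := cf_fixed hf2 x hφ he (g ^ 2) (hfixpow _ hq 2)
    rw [h3]
    have h4 := h1 1 P φ hφ hgP
    exact h4
  set W : Subgroup S := Subgroup.normalizer (Subgroup.zpowers g : Set S) with hW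
  have hgW : g ∈ W := Subgroup.le_normalizer (Subgroup.mem_zpowers g)
  have hinv : ∀ (w : W) (q : Quo S S X), g • q = q → g • ((w : S) • q) = (w : S) • q ∧ c ((w : S) • q) = c q := by
    intro w q hq
    have h3 : (w : S)⁻¹ * g * w ∈ Subgroup.zpowers g := by
      have := (Subgroup.mem_normalizer_iff.1 (W.inv_mem w.2) g).1 (Subgroup.mem_zpowers g)
      rwa [inv_inv] at this
    have h4 : (w : S) * g * (w : S)⁻¹ ∈ Subgroup.zpowers g :=
      (Subgroup.mem_normalizer_iff.1 w.2 g).1 (Subgroup.mem_zpowers g)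
    obtain ⟨k, hk⟩ := hzp _ h3
    obtain ⟨k', hk'⟩ := hzp _ h4
    have h5 : ((w : S)⁻¹ * g * w) • q = q := by rw [hk]; exact hfixpow q hq k
    have h6 : g = g ^ (k * k') := by
      have h7 : ((w : S)⁻¹ * g * w) ^ k' = (w : S)⁻¹ * g ^ k' * w := by
        have := conj_pow (a := (w : S)⁻¹) (b := g) (i := k')
        rwa [inv_inv] at this
      rw [pow_mul, ← hk, h7, ← hk']
      group
    refine ⟨?_, ?_⟩
    · have h7 : g * (w : S) = w * ((w : S)⁻¹ * g * w) := by group
      rw [smul_smul, h7, mul_smul, h5]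
    · rw [hc, cf_conj hf2 g w q h5, hk, cf_pow hf2 g q hq k]
      have h8 := hc2 q hq
      rw [hc] at h8
      rcases Nat.even_or_odd' k with ⟨l, hl | hl⟩
      · have h9 : cf hf2 g q = cf hf2 g q ^ (k * k') := by rw [← cf_pow hf2 g q hq, ← h6]
        have h10 : cf hf2 g q ^ k = 1 := by rw [hl, pow_mul, h8, one_pow]
        rw [h10, h9, pow_mul, h10, one_pow]
      · rw [hl, pow_succ, pow_mul, h8, one_pow, one_mul]
  have hfix : ∀ q : Quo S S X, (∀ w : W, (w : S) • q = q) → g • q = q ∧ c q = a := by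
    intro q hq
    refine ⟨hq ⟨g, hgW⟩, ?_⟩
    obtain ⟨x, rfl⟩ := qmk_surjective q
    obtain ⟨P, φ, hφ, he⟩ := hX x
    obtain ⟨hgP, h3⟩ := cf_fixed hf2 x hφ he g (hq ⟨g, hgW⟩)
    rw [hc, h3]
    refine h2 P φ hφ hgP fun w hw => ?_
    exact (cf_fixed hf2 x hφ he w (hq ⟨w, hw⟩)).1
  have hWp : IsPGroup 2 W := hS.to_subgroup W
  have hQm : Nat.card (Quo S S X) = m := by
    have h3 := card_quo (G := S) (R := S) (X := X) (fun r x h => gen_free hX r x h)
    rw [hm] at h3
    exact (Nat.eq_of_mul_eq_mul_left Nat.card_pos h3).symm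
  have hQ1 := hWp.card_modEq_card_fixedPoints (Quo S S X)
  -- the level sets
  have hlev : ∀ v : A, v ^ Nat.card {q : Quo S S X // g • q = q ∧ c q = v} = if v = a then a else 1 := by
    intro v
    let B : Set (Quo S S X) := {q | g • q = q ∧ c q = v}
    let _ : MulAction W B :=
      { smul := fun w q => ⟨(w : S) • q.1, (hinv w q.1 q.2.1).1, by rw [(hinv w q.1 q.2.1).2]; exact q.2.2⟩
        one_smul := fun q => Subtype.ext (one_smul S q.1)
        mul_smul := fun w w' q => Subtype.ext (mul_smul (w : S) (w' : S) q.1) }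
    have hB1 := hWp.card_modEq_card_fixedPoints B
    show v ^ Nat.card B = _
    by_cases hv : v = a
    · subst hv
      rw [if_pos rfl]
      have heq : Nat.card (fixedPoints W B) = Nat.card (fixedPoints W (Quo S S X)) := by
        refine Nat.card_congr ⟨fun q => ⟨q.1.1, fun w => congrArg Subtype.val (q.2 w)⟩,
          fun q => ⟨⟨q.1, hfix q.1 (fun w => q.2 w)⟩, fun w => Subtype.ext (q.2 w)⟩, fun q => rfl, fun q => rfl⟩
      have h3 : Nat.card B % 2 = m % 2 := by
        have h2 := hB1.trans (heq ▸ hQ1.symm)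
        rw [hQm] at h2
        exact h2
      have h4 : Nat.card B = 2 * (Nat.card B / 2) + 1 := by omega
      have hne : Nonempty B := by
        by_contra h
        rw [not_nonempty_iff] at h
        rw [Nat.card_of_isEmpty] at h4
        omega
      obtain ⟨q, hq1, hq2⟩ := hne
      have h5 := hc2 q hq1
      rw [hq2] at h5
      rw [h4, pow_succ, pow_mul, h5, one_pow, one_mul]
    · rw [if_neg hv]
      have hemp : IsEmpty (fixedPoints W B) := ⟨fun q => hv (by
        have h3 := hfix q.1.1 (fun w => congrArg Subtype.val (q.2 w))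
        rw [← q.1.2.2, h3.2])⟩
      rw [Nat.card_of_isEmpty (α := fixedPoints W B)] at hB1
      have h3 : Nat.card B % 2 = 0 := hB1
      by_cases hne : Nonempty B
      · obtain ⟨q, hq1, hq2⟩ := hne
        have h5 := hc2 q hq1
        rw [hq2] at h5
        have h4 : Nat.card B = 2 * (Nat.card B / 2) := by omega
        rw [h4, pow_mul, h5, one_pow]
      · rw [not_nonempty_iff] at hne
        rw [Nat.card_of_isEmpty, pow_zero]
  have : Fintype (Quo S S X) := Fintype.ofFinite _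
  rw [tr_apply, finprod_eq_prod_of_fintype,
    ← Finset.prod_filter_mul_prod_filter_not Finset.univ (fun q => g • q = q)]
  have hP2 : ∏ q ∈ Finset.univ.filter (fun q : Quo S S X => ¬ g • q = q), cf hf2 g q = 1 :=
    Finset.prod_eq_one fun q hq => hc1 q (Finset.mem_filter.1 hq).2
  rw [hP2, mul_one]
  set s : Finset (Quo S S X) := Finset.univ.filter (fun q => g • q = q) with hs
  have h3 : ∏ q ∈ s, c q = ∏ v ∈ insert a (s.image c), v ^ (s.filter (fun q => c q = v)).card := by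
    rw [← Finset.prod_fiberwise_of_maps_to (s := s) (t := insert a (s.image c)) (g := c)
      (fun q hq => Finset.mem_insert_of_mem (Finset.mem_image_of_mem c hq))]
    refine Finset.prod_congr rfl fun v _ => ?_
    rw [Finset.prod_congr rfl (fun q hq => (Finset.mem_filter.1 hq).2), Finset.prod_const]
  have h4 : ∀ v : A, (s.filter (fun q => c q = v)).card = Nat.card {q : Quo S S X // g • q = q ∧ c q = v} := by
    intro v
    rw [Nat.card_eq_fintype_card, Fintype.card_subtype, hs, Finset.filter_filter]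
  show ∏ q ∈ s, c q = a
  rw [h3, Finset.prod_congr rfl (fun v _ => by rw [h4 v, hlev v]), Finset.prod_ite_eq' (insert a (s.image c)) a,
    if_pos (Finset.mem_insert_self _ _)]

/-- **Extremal transfer, coset form.**  `θ : S →* A`, `g ∈ foc(F)`, `θ` kills all `F`-conjugates of the even powers
of `g`, and `θ (φ g) = a` for all maps `φ` of `F` defined on `N_S(⟨g⟩)`.  Then `a = 1`. -/
theorem extremal_value [Finite S] (hS : IsPGroup 2 S) {F : FusionSystem S} (hF : F.IsSaturated 2)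
    {A : Type*} [CommGroup A] (θ : S →* A) (g : S) (hg : (g : Ω) ∈ F.focalSubgroup) (a : A)
    (h1 : ∀ (k : ℕ) (P : Subgroup Ω) (φ : P →* Ω) (hφ : φ ∈ F.Hom P) (hy : ((g ^ (2 * k) : S) : Ω) ∈ P),
      θ ⟨φ ⟨_, hy⟩, hom_apply_mem hφ _⟩ = 1)
    (h2 : ∀ (P : Subgroup Ω) (φ : P →* Ω) (hφ : φ ∈ F.Hom P) (hgP : (g : Ω) ∈ P),
      (∀ w : S, w ∈ Subgroup.normalizer (Subgroup.zpowers g : Set S) → (w : Ω) ∈ P) →
      θ ⟨φ ⟨g, hgP⟩, hom_apply_mem hφ _⟩ = a) : a = 1 := by
  have : Fact (Nat.Prime 2) := ⟨Nat.prime_two⟩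
  obtain ⟨X, _, _, m, hX, hs, hm, hpm⟩ := exists_char_biset hS hF
  obtain ⟨f, hf⟩ := exists_isSec (G := S) (X := X) θ (fun r x h => gen_free hX r x h)
  have h3 := tr_extremal hS hX hf hm hpm g a h1 h2
  obtain ⟨g', hg', hgg⟩ := focal_le (tr hf) (fun P φ hφ x => tr_stable hX hs hf hφ x) hg
  have h4 : g' = g := Subtype.ext hgg
  rw [← h3, ← h4]
  exact hg'

/-- **Extremal transfer.**  If `A` has at most one involution, `g ∈ foc(F)` and `θ` kills all `F`-conjugates of the
even powers of `g`, then some map `φ` of `F` on `N_S(⟨g⟩)` has `θ (φ g) = 1`. -/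
theorem extremal_map [Finite S] (hS : IsPGroup 2 S) {F : FusionSystem S} (hF : F.IsSaturated 2)
    {A : Type*} [CommGroup A] (hA : ∀ a b : A, a ^ 2 = 1 → b ^ 2 = 1 → a ≠ 1 → b ≠ 1 → a = b)
    (θ : S →* A) (g : Ω) (hgS : g ∈ S) (hg : g ∈ F.focalSubgroup)
    (h1 : ∀ (k : ℕ) (P : Subgroup Ω) (φ : P →* Ω) (hφ : φ ∈ F.Hom P) (hy : g ^ (2 * k) ∈ P),
      θ ⟨φ ⟨_, hy⟩, hom_apply_mem hφ _⟩ = 1) :
    ∃ (φ : normalizerIn S (Subgroup.zpowers g) →* Ω) (hφ : φ ∈ F.Hom _)
      (hgN : g ∈ normalizerIn S (Subgroup.zpowers g)), θ ⟨φ ⟨g, hgN⟩, hom_apply_mem hφ _⟩ = 1 := by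
  have hgN : g ∈ normalizerIn S (Subgroup.zpowers g) :=
    ⟨hgS, Subgroup.le_normalizer (Subgroup.mem_zpowers g)⟩
  by_contra hcon
  push Not at hcon
  have hsq : ∀ (P : Subgroup Ω) (φ : P →* Ω) (hφ : φ ∈ F.Hom P) (hgP : g ∈ P),
      θ ⟨φ ⟨g, hgP⟩, hom_apply_mem hφ _⟩ ^ 2 = 1 := by
    intro P φ hφ hgP
    have h2 := h1 1 P φ hφ (P.pow_mem hgP _)
    rw [← map_pow, ← h2]
    congr 1
    apply Subtype.ext
    show φ ⟨g, hgP⟩ ^ 2 = φ ⟨g ^ (2 * 1), _⟩
    rw [← map_pow]
    rfl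
  have hid := subtype_mem F (P := normalizerIn S (Subgroup.zpowers g)) inf_le_left
  refine hcon _ hid hgN ?_
  refine extremal_value hS hF θ ⟨g, hgS⟩ hg _ (fun k P φ hφ hy => h1 k P φ hφ hy) ?_
  intro P φ hφ hgP hw
  have hle : normalizerIn S (Subgroup.zpowers g) ≤ P := by
    intro w hw'
    refine hw ⟨w, hw'.1⟩ ?_
    rw [Subgroup.mem_normalizer_iff]
    intro y
    have h2 := Subgroup.mem_normalizer_iff.1 hw'.2 (y : Ω)
    have h3 : ∀ y : S, y ∈ Subgroup.zpowers (⟨g, hgS⟩ : S) ↔ (y : Ω) ∈ Subgroup.zpowers g := by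
      intro y
      constructor
      · rintro ⟨k, rfl⟩
        exact ⟨k, by simp⟩
      · rintro ⟨k, hk⟩
        exact ⟨k, Subtype.ext (by simpa using hk)⟩
    exact (h3 y).trans (h2.trans (h3 (⟨w, hw'.1⟩ * y * (⟨w, hw'.1⟩ : S)⁻¹)).symm)
  refine hA _ _ (hsq P φ hφ hgP) (hsq _ _ hid hgN) ?_ (hcon _ hid hgN)
  exact hcon (φ.comp (Subgroup.inclusion hle)) (restrict_mem hφ hle) hgN

end Cfsg.Agent.FS.Th
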